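import Cfsg.Prelude.Def_Solvable
import Cfsg.Agent.Lib.FrobSystem.Basic
import Cfsg.Agent.Lib.Derangements.CyclicTimesZ.Radical
import Cfsg.Agent.S0042
import Cfsg.Agent.S0035

/-!
Nonsolvable groups which are not CA-groups while all their proper subgroups are: the solvable normal
subgroups are central.
-/

set_option autoImplicit false
open Cfsg

namespace CfsgLib.MinNonCA

variable {G : Type*} [Group G]

local notation "CG(" x ")" => Subgroup.centralizer ({x} : Set _)

/-- Some two elements of the subgroup do not commute. -/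
def Nonab (H : Subgroup G) : Prop := ∃ a ∈ H, ∃ b ∈ H, a * b ≠ b * a

/-- The centralizers (in `H`) of the elements outside the centre of `H` are abelian. -/
def CAOn (H : Subgroup G) : Prop :=
  ∀ x ∈ H, ∀ a ∈ H, ∀ b ∈ H, a * x = x * a → b * x = x * b → a * b ≠ b * a →
    ∀ h ∈ H, h * x = x * h

/-- A noncentral element with nonabelian centralizer. -/
def Special (x : G) : Prop := x ∉ Subgroup.center G ∧ Nonab CG(x)

/-- Nonsolvable, not a CA-group, all proper subgroups CA-groups. -/
structure MNC (G : Type*) [Group G] : Prop where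
  ns : ¬ Group.IsSolvable G
  ex : ∃ x : G, Special x
  ca : ∀ H : Subgroup G, H ≠ ⊤ → CAOn H

theorem Nonab.mono {H K : Subgroup G} (h : Nonab H) (hle : H ≤ K) : Nonab K := by
  obtain ⟨a, ha, b, hb, hab⟩ := h
  exact ⟨a, hle ha, b, hle hb, hab⟩

theorem comm_of_not_nonab {H : Subgroup G} (h : ¬ Nonab H) {a b : G} (ha : a ∈ H) (hb : b ∈ H) :
    a * b = b * a :=
  by_contra fun hab => h ⟨a, ha, b, hb, hab⟩

theorem isSolvable_of_not_nonab {H : Subgroup G} (h : ¬ Nonab H) : Group.IsSolvable H :=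
  Group.isSolvable_of_comm fun a b => Subtype.ext (comm_of_not_nonab h a.2 b.2)

theorem Nonab.normalizer_sylow [Finite G] {H : Subgroup G} (hns : ¬ Group.IsSolvable H)
    (S : Sylow 2 H) : Nonab ((Subgroup.normalizer ((S : Subgroup H) : Set H)).map H.subtype) := by
  by_contra h
  refine hns (FrobSystem.isSolvable_of_normalizer_le_centralizer S fun g hg =>
    Subgroup.mem_centralizer_iff.2 fun s hs => Subtype.ext ?_)
  exact comm_of_not_nonab h ⟨s, Subgroup.le_normalizer hs, rfl⟩ ⟨g, hg, rfl⟩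

/-- A nonabelian finite group has a solvable nonabelian subgroup. -/
theorem exists_solvable_nonab [Finite G] {H : Subgroup G} (h : Nonab H) :
    ∃ L : Subgroup G, L ≤ H ∧ Group.IsSolvable L ∧ Nonab L := by
  by_cases hs : Group.IsSolvable H
  · exact ⟨H, le_rfl, hs, h⟩
  haveI : Fact (Nat.Prime 2) := ⟨Nat.prime_two⟩
  obtain ⟨S⟩ : Nonempty (Sylow 2 H) := inferInstance
  haveI := FrobSystem.isSolvable_sylow_normalizer S
  refine ⟨(Subgroup.normalizer ((S : Subgroup H) : Set H)).map H.subtype, Subgroup.map_subtype_le _,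
    ?_, Nonab.normalizer_sylow hs S⟩
  exact solvable_of_surjective (MonoidHom.subgroupMap_surjective H.subtype _)

theorem exists_solvable_nonab_mem [Finite G] {H : Subgroup G} (h : Nonab H) {x : G} (hx : x ∈ H)
    (hc : ∀ y ∈ H, y * x = x * y) :
    ∃ L : Subgroup G, L ≤ H ∧ x ∈ L ∧ Group.IsSolvable L ∧ Nonab L := by
  obtain ⟨L, hLH, hLs, hLn⟩ := exists_solvable_nonab h
  haveI := hLs
  haveI : Group.IsSolvable (Subgroup.zpowers x) :=
    Group.isSolvable_of_comm fun a b => mul_comm' a b
  let f := MonoidHom.noncommCoprod L.subtype (Subgroup.zpowers x).subtype (fun a b => by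
    obtain ⟨n, hn⟩ := b.2
    show Commute (a : G) (b : G)
    rw [← hn]
    exact (show Commute (a : G) x from hc a (hLH a.2)).zpow_right n)
  have hle : L ≤ f.range := fun a ha => ⟨(⟨a, ha⟩, 1), mul_one a⟩
  refine ⟨f.range, ?_, ⟨(1, ⟨x, Subgroup.mem_zpowers x⟩), by simp [f]⟩,
    solvable_of_surjective f.rangeRestrict_surjective, hLn.mono hle⟩
  rintro _ ⟨⟨a, b⟩, rfl⟩
  simpa [f] using mul_mem (hLH a.2) ((Subgroup.zpowers_le.2 hx) b.2)

namespace MNC

variable (h : MNC G)
include h

theorem ne_top_of_solvable {H : Subgroup G} (hs : Group.IsSolvable H) : H ≠ ⊤ := fun e => by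
  subst e
  haveI := hs
  exact h.ns (solvable_of_surjective (f := (Subgroup.topEquiv (G := G)).toMonoidHom)
    Subgroup.topEquiv.surjective)

/-- A proper subgroup containing `x` and two noncommuting elements of `C(x)` centralizes `x`. -/
theorem le_centralizer {H : Subgroup G} (hH : H ≠ ⊤) {x a b : G} (hx : x ∈ H) (ha : a ∈ H)
    (hb : b ∈ H) (hax : a * x = x * a) (hbx : b * x = x * b) (hab : a * b ≠ b * a) :
    H ≤ CG(x) := fun y hy =>
  Subgroup.mem_centralizer_singleton_iff.2 (h.ca H hH x hx a ha b hb hax hbx hab y hy)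

theorem le_centralizer' {H : Subgroup G} (hH : H ≠ ⊤) {x : G} (hx : x ∈ H)
    (hn : Nonab (H ⊓ CG(x))) : H ≤ CG(x) := by
  obtain ⟨a, ha, b, hb, hab⟩ := hn
  exact h.le_centralizer hH hx ha.1 hb.1 (Subgroup.mem_centralizer_singleton_iff.1 ha.2)
    (Subgroup.mem_centralizer_singleton_iff.1 hb.2) hab

theorem centralizer_ne_top {x : G} (hx : x ∉ Subgroup.center G) : CG(x) ≠ (⊤ : Subgroup G) :=
  fun e => hx (Subgroup.mem_center_iff.2 fun g =>
    Subgroup.mem_centralizer_singleton_iff.1 (e ▸ Subgroup.mem_top g))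

variable [Finite G]

/-- Two subgroups centralizing each other are not both nonabelian. -/
theorem not_nonab_commuting {A B : Subgroup G} (hA : Nonab A) (hB : Nonab B)
    (hc : ∀ a ∈ A, ∀ b ∈ B, a * b = b * a) : False := by
  obtain ⟨A', hA', hAs, a₁, ha₁, a₂, ha₂, hA12⟩ := exists_solvable_nonab hA
  obtain ⟨B', hB', hBs, b₁, hb₁, b₂, hb₂, hB12⟩ := exists_solvable_nonab hB
  haveI := hAs
  haveI := hBs
  let f := MonoidHom.noncommCoprod A'.subtype B'.subtype
    (fun a b => hc a (hA' a.2) b (hB' b.2))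
  have hAf : A' ≤ f.range := fun a ha => ⟨(⟨a, ha⟩, 1), mul_one a⟩
  have hBf : B' ≤ f.range := fun b hb => ⟨(1, ⟨b, hb⟩), one_mul b⟩
  exact hA12 (h.ca f.range (h.ne_top_of_solvable
    (solvable_of_surjective f.rangeRestrict_surjective)) a₁ (hAf ha₁) b₁ (hBf hb₁) b₂ (hBf hb₂)
    (hc a₁ (hA' ha₁) b₁ (hB' hb₁)).symm (hc a₁ (hA' ha₁) b₂ (hB' hb₂)).symm hB12 a₂ (hAf ha₂)).symm

/-- A nonabelian subgroup lies in the centralizer of at most one special element. -/
theorem centralizer_eq_of_le {x y : G} (hx : Special x) (hy : Special y) {T : Subgroup G}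
    (hT : Nonab T) (hTx : T ≤ CG(x)) (hTy : T ≤ CG(y)) : (CG(x) : Subgroup G) = CG(y) := by
  have hcx : ∀ z : G, T ≤ CG(z) → z ∈ Subgroup.centralizer (T : Set G) := fun z hz =>
    Subgroup.mem_centralizer_iff.2 fun t ht =>
      Subgroup.mem_centralizer_singleton_iff.1 (hz ht)
  have hxy : x * y = y * x := comm_of_not_nonab (fun hC => h.not_nonab_commuting hT hC
    (fun a ha b hb => Subgroup.mem_centralizer_iff.1 hb a ha)) (hcx x hTx) (hcx y hTy)
  obtain ⟨a, ha, b, hb, hab⟩ := hT
  refine le_antisymm (h.le_centralizer (h.centralizer_ne_top hx.1)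
      (Subgroup.mem_centralizer_singleton_iff.2 hxy.symm) (hTx ha) (hTx hb)
      (Subgroup.mem_centralizer_singleton_iff.1 (hTy ha))
      (Subgroup.mem_centralizer_singleton_iff.1 (hTy hb)) hab) ?_
  exact h.le_centralizer (h.centralizer_ne_top hy.1)
    (Subgroup.mem_centralizer_singleton_iff.2 hxy) (hTy ha) (hTy hb)
    (Subgroup.mem_centralizer_singleton_iff.1 (hTx ha))
    (Subgroup.mem_centralizer_singleton_iff.1 (hTx hb)) hab

theorem not_normal_centralizer {x : G} (hx : Special x) : ¬ (CG(x) : Subgroup G).Normal := by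
  intro hM
  set M : Subgroup G := CG(x) with hMdef
  haveI := hM
  have hxM : x ∈ M := Subgroup.mem_centralizer_singleton_iff.2 rfl
  have hMtop : M ≠ ⊤ := h.centralizer_ne_top hx.1
  by_cases hs : Group.IsSolvable M
  · obtain ⟨g, -, hg⟩ := SetLike.exists_of_lt (lt_top_iff_ne_top.2 hMtop)
    haveI := hs
    haveI : Group.IsSolvable (Subgroup.zpowers g) :=
      Group.isSolvable_of_comm fun a b => mul_comm' a b
    have hK := h.ne_top_of_solvable
      (Derangements.CyclicTimesZ.isSolvable_sup_of_normal M (Subgroup.zpowers g))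
    refine hg (h.le_centralizer' hK (le_sup_left (a := M) hxM)
      (hx.2.mono (le_inf le_sup_left le_rfl)) ?_)
    exact (le_sup_right : Subgroup.zpowers g ≤ M ⊔ Subgroup.zpowers g) (Subgroup.mem_zpowers g)
  · haveI : Fact (Nat.Prime 2) := ⟨Nat.prime_two⟩
    obtain ⟨S⟩ : Nonempty (Sylow 2 M) := inferInstance
    set N : Subgroup G := Subgroup.normalizer (((S : Subgroup M).map M.subtype) : Set G) with hN
    have hle : (Subgroup.normalizer ((S : Subgroup M) : Set M)).map M.subtype ≤ N :=
      Subgroup.le_normalizer_map M.subtype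
    have hxN : x ∈ N := Subgroup.mem_normalizer_iff.2 fun s => by
      constructor
      · rintro ⟨u, hu, rfl⟩
        have h1 : x * (u : G) * x⁻¹ = u := by
          rw [← (Subgroup.mem_centralizer_singleton_iff.1 u.2 : (u : G) * x = x * u),
            mul_inv_cancel_right]
        exact ⟨u, hu, h1.symm⟩
      · rintro ⟨u, hu, hue⟩
        have : s = (u : G) := by
          have h1 : x⁻¹ * (u : G) * x = u := by
            rw [mul_assoc, (Subgroup.mem_centralizer_singleton_iff.1 u.2 : (u : G) * x = x * u)]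
            simp
          rw [← h1, show (u : G) = x * s * x⁻¹ from hue]; group
        exact this ▸ ⟨u, hu, rfl⟩
    have hNtop : N ≠ ⊤ := fun e => hs (by
      have hn : ((S : Subgroup M).map M.subtype).Normal := Subgroup.normalizer_eq_top_iff.1 e
      have hn' : (S : Subgroup M).Normal := by
        rw [← Subgroup.comap_map_eq_self_of_injective M.subtype_injective (S : Subgroup M)]
        exact hn.comap _
      haveI := hn'
      haveI : Group.IsSolvable (Subgroup.normalizer ((S : Subgroup M) : Set M)) :=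
        FrobSystem.isSolvable_sylow_normalizer S
      rw [Subgroup.normalizer_eq_top] at this
      exact solvable_of_surjective (f := (Subgroup.topEquiv (G := M)).toMonoidHom)
        Subgroup.topEquiv.surjective)
    have hNM : N ≤ M := h.le_centralizer' hNtop hxN
      ((Nonab.normalizer_sylow hs S).mono (le_inf hle (Subgroup.map_subtype_le _)))
    refine hMtop (top_le_iff.1 ?_)
    rw [← Sylow.normalizer_sup_eq_top S]
    exact sup_le hNM le_rfl

theorem not_nonab_normal_le {x : G} (hx : Special x) {N : Subgroup G} [hN : N.Normal]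
    (hle : N ≤ CG(x)) : ¬ Nonab N := by
  intro hna
  refine h.not_normal_centralizer hx ⟨fun m hm g => ?_⟩
  have hs : Special (g * x * g⁻¹) := by
    refine ⟨fun hc => hx.1 ?_, ?_⟩
    · have := (inferInstance : (Subgroup.center G).Normal).conj_mem _ hc g⁻¹
      rwa [show g⁻¹ * (g * x * g⁻¹) * g⁻¹⁻¹ = x by group] at this
    · refine hna.mono fun n hn => Subgroup.mem_centralizer_singleton_iff.2 ?_
      have h1 := Subgroup.mem_centralizer_singleton_iff.1 (hle (hN.conj_mem n hn g⁻¹))
      calc n * (g * x * g⁻¹) = g * ((g⁻¹ * n * g⁻¹⁻¹) * x) * g⁻¹ := by group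
        _ = g * (x * (g⁻¹ * n * g⁻¹⁻¹)) * g⁻¹ := by rw [h1]
        _ = g * x * g⁻¹ * n := by group
  have hle' : N ≤ CG(g * x * g⁻¹) := fun n hn => Subgroup.mem_centralizer_singleton_iff.2 (by
    have h1 := Subgroup.mem_centralizer_singleton_iff.1 (hle (hN.conj_mem n hn g⁻¹))
    calc n * (g * x * g⁻¹) = g * ((g⁻¹ * n * g⁻¹⁻¹) * x) * g⁻¹ := by group
      _ = g * (x * (g⁻¹ * n * g⁻¹⁻¹)) * g⁻¹ := by rw [h1]
      _ = g * x * g⁻¹ * n := by group)
  rw [h.centralizer_eq_of_le hx hs hna hle hle']
  refine Subgroup.mem_centralizer_singleton_iff.2 ?_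
  have h1 := Subgroup.mem_centralizer_singleton_iff.1 hm
  calc g * m * g⁻¹ * (g * x * g⁻¹) = g * (m * x) * g⁻¹ := by group
    _ = g * (x * m) * g⁻¹ := by rw [h1]
    _ = g * x * g⁻¹ * (g * m * g⁻¹) := by group

theorem solvable_normal_le_centralizer {x : G} (hx : Special x) (R : Subgroup G) [R.Normal]
    (hR : Group.IsSolvable R) : R ≤ CG(x) := by
  obtain ⟨L, hL, hxL, hLs, hLn⟩ := exists_solvable_nonab_mem hx.2
    (Subgroup.mem_centralizer_singleton_iff.2 rfl : x ∈ CG(x))
    (fun y hy => Subgroup.mem_centralizer_singleton_iff.1 hy)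
  haveI := hR
  haveI := hLs
  refine le_sup_left.trans (h.le_centralizer' (h.ne_top_of_solvable
    (Derangements.CyclicTimesZ.isSolvable_sup_of_normal R L)) (le_sup_right (a := R) hxL)
    (hLn.mono (le_inf le_sup_right hL)))

theorem not_nonab_solvable_normal (R : Subgroup G) [R.Normal] (hR : Group.IsSolvable R) :
    ¬ Nonab R := by
  obtain ⟨x, hx⟩ := h.ex
  exact h.not_nonab_normal_le hx (h.solvable_normal_le_centralizer hx R hR)

/-- Solvable normal subgroups are central. -/
theorem solvable_normal_le_center (R : Subgroup G) [R.Normal] (hR : Group.IsSolvable R) :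
    R ≤ Subgroup.center G := by
  intro r hr
  by_contra hrc
  set D : Subgroup G := Subgroup.centralizer (R : Set G) with hD
  have hRD : R ≤ D := fun a ha => Subgroup.mem_centralizer_iff.2 fun b hb =>
    comm_of_not_nonab (h.not_nonab_solvable_normal R hR) hb ha
  haveI hDn : D.Normal := inferInstance
  have hDab : ¬ Nonab D := fun hna => by
    have hle : D ≤ CG(r) := fun a ha => Subgroup.mem_centralizer_singleton_iff.2
      (Subgroup.mem_centralizer_iff.1 ha r hr).symm
    exact h.not_nonab_normal_le ⟨hrc, hna.mono hle⟩ hle hna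
  haveI hDs : Group.IsSolvable D := isSolvable_of_not_nonab hDab
  have hself : ∀ a : G, (∀ d ∈ D, d * a = a * d) → a ∈ D := fun a ha =>
    Subgroup.mem_centralizer_iff.2 fun b hb => ha b (hRD hb)
  obtain ⟨x, hx⟩ := h.ex
  have hDx : D ≤ CG(x) := h.solvable_normal_le_centralizer hx D hDs
  have hxD : x ∈ D := hself x fun d hd => Subgroup.mem_centralizer_singleton_iff.1 (hDx hd)
  set M : Subgroup G := CG(x) with hM
  -- the image of `M` is a Frobenius complement
  let π := QuotientGroup.mk' D
  have hcomap : (M.map π).comap π = M :=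
    Subgroup.comap_map_eq_self ((QuotientGroup.ker_mk' D).le.trans hDx)
  have hfrob : IsFrobeniusComplement (M.map π) := by
    refine ⟨fun e => ?_, fun e => h.centralizer_ne_top hx.1 ?_, fun g hg => ?_⟩
    · obtain ⟨a, ha, b, hb, hab⟩ := hx.2
      have hMD : M ≤ D := fun m hm => (QuotientGroup.eq_one_iff m).1 (by
        have : π m ∈ M.map π := ⟨m, hm, rfl⟩
        rwa [e, Subgroup.mem_bot] at this)
      exact hDab ⟨a, hMD ha, b, hMD hb, hab⟩
    · exact hcomap.symm.trans (by rw [e, Subgroup.comap_top])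
    obtain ⟨g, rfl⟩ := QuotientGroup.mk'_surjective D g
    rw [Subgroup.eq_bot_iff_forall]
    intro y hy
    obtain ⟨hy1, hm'⟩ := Subgroup.mem_inf.1 hy
    obtain ⟨m, hm, rfl⟩ := Subgroup.mem_map.1 hy1
    by_contra hm1
    have hmD : m ∉ D := fun hmD => hm1 ((QuotientGroup.eq_one_iff m).2 hmD)
    obtain ⟨d, hd, hdm⟩ : ∃ d ∈ D, d * m ≠ m * d := by
      by_contra hne
      push Not at hne
      exact hmD (hself m hne)
    rw [Subgroup.mem_pointwise_smul_iff_inv_smul_mem] at hm'
    have hgm : g⁻¹ * m * g ∈ M := by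
      have : π (g⁻¹ * m * g) ∈ M.map π := by
        simpa [map_mul, MulAut.smul_def, π] using hm'
      rw [← hcomap]; exact this
    have hconj : ∀ y : G, g⁻¹ * y * g ∈ M → y ∈ CG(g * x * g⁻¹) := fun y hy => by
      refine Subgroup.mem_centralizer_singleton_iff.2 ?_
      have h1 := Subgroup.mem_centralizer_singleton_iff.1 hy
      calc y * (g * x * g⁻¹) = g * ((g⁻¹ * y * g) * x) * g⁻¹ := by group
        _ = g * (x * (g⁻¹ * y * g)) * g⁻¹ := by rw [h1]
        _ = g * x * g⁻¹ * y := by group
    have hT : Nonab (M ⊓ CG(g * x * g⁻¹)) := ⟨d, ⟨hDx hd, hconj d (hDx (by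
      simpa [mul_assoc] using hDn.conj_mem d hd g⁻¹))⟩, m, ⟨hm, hconj m hgm⟩, hdm⟩
    have hs : Special (g * x * g⁻¹) := ⟨fun hc => hx.1 (by
      have := (inferInstance : (Subgroup.center G).Normal).conj_mem _ hc g⁻¹
      rwa [show g⁻¹ * (g * x * g⁻¹) * g⁻¹⁻¹ = x by group] at this), hT.mono inf_le_right⟩
    have heq := h.centralizer_eq_of_le hx hs hT inf_le_left inf_le_right
    -- `g` normalizes `M`, so lies in it
    have hgN : g ∈ Subgroup.normalizer (M : Set G) := Subgroup.mem_normalizer_iff.2 fun y => by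
      constructor
      · intro hy
        show g * y * g⁻¹ ∈ CG(x)
        rw [heq]
        exact hconj _ (by rw [show g⁻¹ * (g * y * g⁻¹) * g = y by group]; exact hy)
      · intro hy
        have h1 : g * y * g⁻¹ ∈ (CG(g * x * g⁻¹) : Subgroup G) := heq ▸ hy
        refine Subgroup.mem_centralizer_singleton_iff.2 ?_
        have h2 := Subgroup.mem_centralizer_singleton_iff.1 h1
        calc y * x = g⁻¹ * ((g * y * g⁻¹) * (g * x * g⁻¹)) * g := by group
          _ = g⁻¹ * ((g * x * g⁻¹) * (g * y * g⁻¹)) * g := by rw [h2]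
          _ = x * y := by group
    have hNtop : Subgroup.normalizer (M : Set G) ≠ ⊤ := fun e =>
      h.not_normal_centralizer hx (Subgroup.normalizer_eq_top_iff.1 e)
    have hgM : g ∈ M := h.le_centralizer' hNtop
      (Subgroup.le_normalizer (Subgroup.mem_centralizer_singleton_iff.2 rfl : x ∈ M))
      (hx.2.mono (le_inf Subgroup.le_normalizer le_rfl)) hgN
    exact hg ⟨g, hgM, rfl⟩
  obtain ⟨K, hKeq, hKn, hKnil⟩ := Cfsg.Agent.S0042.result _ hfrob
  haveI := hKn
  haveI := hKnil
  obtain ⟨N, hNeq, -, hNc⟩ := Cfsg.Agent.S0035.result _ hfrob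
  have hK1 : K ≠ ⊥ := fun e => hfrob.2.1 (by
    rw [← SetLike.coe_injective (hNeq.trans hKeq.symm)] at e
    subst e
    exact Subgroup.isComplement'_bot_left.1 hNc)
  haveI : Group.IsSolvable K := inferInstance
  have hKs : Group.IsSolvable (K.comap π) := solvable_of_ker_le_range
    (Subgroup.inclusion (fun a ha => by
      show π a ∈ K
      rw [show π a = 1 from (QuotientGroup.eq_one_iff a).2 ha]
      exact one_mem K : D ≤ K.comap π)) (π.subgroupComap K)
    fun a ha => ⟨⟨a, (QuotientGroup.eq_one_iff _).1 (congrArg Subtype.val ha)⟩, Subtype.ext rfl⟩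
  refine hK1 (eq_bot_iff.2 fun k hk => ?_)
  obtain ⟨k, rfl⟩ := QuotientGroup.mk'_surjective D k
  refine (QuotientGroup.eq_one_iff k).2 (hself k fun d hd => ?_)
  have hDK : D ≤ K.comap π := fun a ha => by
    show π a ∈ K
    rw [show π a = 1 from (QuotientGroup.eq_one_iff a).2 ha]
    exact one_mem K
  exact comm_of_not_nonab (h.not_nonab_solvable_normal _ hKs) (hDK hd) hk

end MNC

end CfsgLib.MinNonCA
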