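import Cfsg.Agent.Lib.MinNonCA.Matrices
import Cfsg.Agent.Lib.ReflectionsSpinor.PSLAutBasic

/-!
Centralizers in `PSL(2, q)`, `q` odd, and the maps given by subfields.
-/

set_option autoImplicit false
set_option linter.style.haveILetI false
set_option linter.unusedSectionVars false
open Matrix

namespace CfsgLib.MinNonCA

open CfsgLib.ReflectionsSpinor.PSL CfsgLib.GW.PGLTwo

variable {K : Type*} [Field K] [Fintype K]

local notation "M₂" => Matrix (Fin 2) (Fin 2) K
local notation "SL₂" => Matrix.SpecialLinearGroup (Fin 2) K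
local notation "P₂" => Matrix.ProjectiveSpecialLinearGroup (Fin 2) K

theorem commute_cases {t s : SL₂} (h : cl t * cl s = cl s * cl t) :
    (t : M₂) * (s : M₂) = (s : M₂) * (t : M₂) ∨ (t : M₂) * (s : M₂) = -((s : M₂) * (t : M₂)) := by
  rw [← cl_mul, ← cl_mul, cl_eq_cl_iff] at h
  obtain ⟨c, hc⟩ := h
  have hd := congrArg Matrix.det hc
  rw [Matrix.SpecialLinearGroup.det_coe, Matrix.det_smul, Matrix.SpecialLinearGroup.det_coe,
    Fintype.card_fin, mul_one] at hd
  rw [Matrix.SpecialLinearGroup.coe_mul, Matrix.SpecialLinearGroup.coe_mul] at hc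
  rcases sq_eq_one_iff.1 hd.symm with e | e <;> rw [e] at hc
  · exact Or.inl (by rw [hc, one_smul])
  · exact Or.inr (by rw [hc, neg_one_smul, neg_neg])

theorem cl_eq_of_smul {s t : SL₂} {c : K} (h : (t : M₂) = c • (s : M₂)) : cl s = cl t :=
  cl_eq_cl_iff.2 ⟨c, h⟩

theorem cl_comm_of_exact {s t : SL₂} (h : (s : M₂) * (t : M₂) = (t : M₂) * (s : M₂)) :
    cl s * cl t = cl t * cl s := by
  rw [← cl_mul, ← cl_mul, show s * t = t * s from Subtype.ext h]

theorem not_scalar {s : SL₂} (hs : cl s ≠ 1) : ∀ c : K, (s : M₂) ≠ c • (1 : M₂) := fun c e => hs (by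
  show cl s = cl 1
  exact (cl_eq_of_smul (c := c) (by rw [e, Matrix.SpecialLinearGroup.coe_one])).symm)

theorem sl_sq (s : SL₂) : (s : M₂) * (s : M₂) = (s : M₂).trace • (s : M₂) - (1 : M₂) := by
  rw [sq_eq, Matrix.SpecialLinearGroup.det_coe, one_smul]

variable (h2 : (2 : K) ≠ 0)
include h2

theorem trace_zero_of_anti {s t : SL₂} (h : (t : M₂) * (s : M₂) = -((s : M₂) * (t : M₂))) :
    (s : M₂).trace = 0 := by
  have h1 : ((t⁻¹ : SL₂) : M₂) * (t : M₂) = 1 := by
    rw [← Matrix.SpecialLinearGroup.coe_mul, inv_mul_cancel, Matrix.SpecialLinearGroup.coe_one]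
  have h1' : (t : M₂) * ((t⁻¹ : SL₂) : M₂) = 1 := by
    rw [← Matrix.SpecialLinearGroup.coe_mul, mul_inv_cancel, Matrix.SpecialLinearGroup.coe_one]
  have h3 : (((t⁻¹ : SL₂) : M₂) * ((s : M₂) * (t : M₂))).trace = (s : M₂).trace := by
    rw [Matrix.trace_mul_comm, Matrix.mul_assoc, h1', Matrix.mul_one]
  have h4 : (((t⁻¹ : SL₂) : M₂) * ((t : M₂) * (s : M₂))).trace = (s : M₂).trace := by
    rw [← Matrix.mul_assoc, h1, Matrix.one_mul]
  rw [h, Matrix.mul_neg, Matrix.trace_neg, h3] at h4
  exact (mul_eq_zero.1 (show (2 : K) * (s : M₂).trace = 0 by linear_combination -h4)).resolve_left h2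

theorem sq_one_iff {s : SL₂} (hs : cl s ≠ 1) : cl s * cl s = 1 ↔ (s : M₂).trace = 0 := by
  constructor
  · intro h
    rw [← cl_mul, show (1 : P₂) = cl 1 from rfl, eq_comm, cl_eq_cl_iff] at h
    obtain ⟨c, hc⟩ := h
    rw [Matrix.SpecialLinearGroup.coe_mul, Matrix.SpecialLinearGroup.coe_one, sl_sq,
      sub_eq_iff_eq_add] at hc
    by_contra ht
    refine not_scalar hs ((c + 1) / (s : M₂).trace) ?_
    rw [div_eq_inv_mul, mul_smul, add_smul, one_smul, ← hc, smul_smul, inv_mul_cancel₀ ht, one_smul]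
  · intro h
    rw [← cl_mul, show (1 : P₂) = cl 1 from rfl]
    refine (cl_eq_of_smul (c := -1) ?_).symm
    rw [Matrix.SpecialLinearGroup.coe_mul, Matrix.SpecialLinearGroup.coe_one, sl_sq, h, zero_smul,
      zero_sub, neg_one_smul]

theorem cent_comm_of_sq_ne {x a b : P₂} (hx : x * x ≠ 1) (ha : a * x = x * a) (hb : b * x = x * b) :
    a * b = b * a := by
  obtain ⟨s, rfl⟩ := cl_surjective x
  obtain ⟨t, rfl⟩ := cl_surjective a
  obtain ⟨u, rfl⟩ := cl_surjective b
  have hs : cl s ≠ 1 := fun e => hx (by rw [e, one_mul])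
  have hns : (s : M₂).trace ≠ 0 := fun e => hx ((sq_one_iff h2 hs).2 e)
  exact cl_comm_of_exact (comm_of_nonscalar (not_scalar hs)
    ((commute_cases ha).resolve_right fun e => hns (trace_zero_of_anti h2 e))
    ((commute_cases hb).resolve_right fun e => hns (trace_zero_of_anti h2 e)))

/-- A nontrivial element of order the characteristic commutes with no involution. -/
theorem eq_one_of_commute_pow {p : ℕ} [hp : Fact p.Prime] [CharP K p] {x d : P₂} (hx : x ≠ 1)
    (hx2 : x * x = 1) (hd : d ^ p = 1) (hdx : d * x = x * d) : d = 1 := by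
  have hp2 : p ≠ 2 := fun e => h2 (by subst e; exact CharTwo.two_eq_zero)
  obtain ⟨j, hj⟩ := hp.out.odd_of_ne_two hp2
  obtain ⟨s, rfl⟩ := cl_surjective x
  obtain ⟨t, rfl⟩ := cl_surjective d
  rcases commute_cases hdx with e | e
  · have hs0 : (s : M₂).trace = 0 := (sq_one_iff h2 hx).1 hx2
    obtain ⟨a, b, hab⟩ := exists_of_commute h2
      (g := (Matrix.SpecialLinearGroup.toGL s : GL (Fin 2) K)) hs0 (P := (t : M₂)) e
    change (t : M₂) = a • (1 : M₂) + b • (s : M₂) at hab
    have hsq : (s : M₂) * (s : M₂) = -1 := by rw [sl_sq, hs0, zero_smul, zero_sub]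
    have hpow : (s : M₂) ^ p = (-1 : K) ^ j • (s : M₂) := by
      rw [hj, pow_succ, pow_mul, pow_two, hsq, ← neg_one_smul K (1 : M₂), smul_pow, one_pow,
        Matrix.smul_mul, Matrix.one_mul]
    have ht : (t : M₂) ^ p = a ^ p • (1 : M₂) + (b ^ p * (-1) ^ j) • (s : M₂) := by
      rw [hab, add_pow_char_of_commute _ ((Commute.one_left _).smul_left a |>.smul_right b),
        smul_pow, smul_pow, one_pow, hpow, smul_smul]
    rw [show (1 : P₂) = cl 1 from rfl]
    by_cases hb : b = 0
    · rw [hb, zero_smul, add_zero] at hab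
      exact (cl_eq_of_smul (c := a) (by rw [hab, Matrix.SpecialLinearGroup.coe_one])).symm
    · exfalso
      have h1 : cl (t ^ p) = cl 1 := by
        refine Eq.trans ?_ hd
        exact map_pow (QuotientGroup.mk' (Subgroup.center SL₂)) t p
      obtain ⟨c, hc⟩ := cl_eq_cl_iff.1 h1.symm
      rw [Matrix.SpecialLinearGroup.coe_pow, Matrix.SpecialLinearGroup.coe_one, ht] at hc
      refine not_scalar hx ((c - a ^ p) / (b ^ p * (-1) ^ j)) ?_
      rw [div_eq_inv_mul, mul_smul, sub_smul, ← hc, add_sub_cancel_left, smul_smul,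
        inv_mul_cancel₀ (mul_ne_zero (pow_ne_zero _ hb) (pow_ne_zero _ (neg_ne_zero.2 one_ne_zero))),
        one_smul]
  · by_contra ht
    have h0 : (t : M₂).trace = 0 := trace_zero_of_anti h2 (s := t) (t := s) (by rw [e, neg_neg])
    have hdd := (sq_one_iff h2 ht).2 h0
    rw [hj, pow_succ, pow_mul, pow_two, hdd, one_pow, one_mul] at hd
    exact ht hd

theorem cent_comm_small (hq : ∀ a b : K, a ^ 2 + b ^ 2 = 1 → a * b = 0) {x a b : P₂} (hx : x ≠ 1)
    (ha : a * x = x * a) (hb : b * x = x * b) : a * b = b * a := by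
  by_cases hx2 : x * x = 1
  swap
  · exact cent_comm_of_sq_ne h2 hx2 ha hb
  obtain ⟨s, rfl⟩ := cl_surjective x
  obtain ⟨t, rfl⟩ := cl_surjective a
  obtain ⟨u, rfl⟩ := cl_surjective b
  have hs0 : (s : M₂).trace = 0 := (sq_one_iff h2 hx).1 hx2
  have hexact : ∀ w : SL₂, (w : M₂) * (s : M₂) = (s : M₂) * (w : M₂) → cl w = 1 ∨ cl w = cl s := by
    intro w hw
    obtain ⟨c, d, hcd⟩ := exists_of_commute h2
      (g := (Matrix.SpecialLinearGroup.toGL s : GL (Fin 2) K)) hs0 (P := (w : M₂)) hw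
    change (w : M₂) = c • (1 : M₂) + d • (s : M₂) at hcd
    have hdet := det_add_smul h2 (g := (Matrix.SpecialLinearGroup.toGL s : GL (Fin 2) K)) hs0 c d
    change (c • (1 : M₂) + d • (s : M₂)).det = c ^ 2 + (s : M₂).det * d ^ 2 at hdet
    rw [← hcd, Matrix.SpecialLinearGroup.det_coe, Matrix.SpecialLinearGroup.det_coe, one_mul] at hdet
    rcases mul_eq_zero.1 (hq c d hdet.symm) with e | e
    · rw [e, zero_smul, zero_add] at hcd
      exact Or.inr (cl_eq_of_smul hcd).symm
    · rw [e, zero_smul, add_zero] at hcd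
      exact Or.inl (cl_eq_of_smul (s := 1) (c := c)
        (by rw [hcd, Matrix.SpecialLinearGroup.coe_one])).symm
  rcases commute_cases ha with et | et
  · rcases hexact t et with e | e <;> rw [e]
    · rw [one_mul, mul_one]
    · exact hb.symm
  rcases commute_cases hb with eu | eu
  · rcases hexact u eu with e | e <;> rw [e]
    · rw [one_mul, mul_one]
    · exact ha
  have h1 : ((t * u : SL₂) : M₂) * (s : M₂) = (s : M₂) * ((t * u : SL₂) : M₂) := by
    rw [Matrix.SpecialLinearGroup.coe_mul, Matrix.mul_assoc, eu, Matrix.mul_neg, ← Matrix.mul_assoc,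
      et, Matrix.neg_mul, neg_neg, Matrix.mul_assoc]
  have hta : cl t * cl t = 1 := by
    by_cases e : cl t = 1
    · rw [e, one_mul]
    · exact (sq_one_iff h2 e).2 (trace_zero_of_anti h2 (s := t) (t := s) (by rw [et, neg_neg]))
  rcases hexact _ h1 with e | e
  · rw [show cl u = cl t by
      calc cl u = (cl t * cl t) * cl u := by rw [hta, one_mul]
        _ = cl t * cl (t * u) := by rw [cl_mul]; group
        _ = cl t := by rw [e, mul_one]]
  · rw [show cl u = cl t * cl s by
      calc cl u = (cl t * cl t) * cl u := by rw [hta, one_mul]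
        _ = cl t * cl (t * u) := by rw [cl_mul]; group
        _ = cl t * cl s := by rw [e]]
    rw [mul_assoc (cl t) (cl s) (cl t), ← ha]

/-- For more than five elements some involution has a nonabelian centralizer. -/
theorem exists_cent_not_comm (hq : 5 < Fintype.card K) :
    ∃ x a b y : P₂, a * x = x * a ∧ b * x = x * b ∧ a * b ≠ b * a ∧ y * x ≠ x * y := by
  classical
  obtain ⟨s, hs⟩ : ∃ s : K, s ≠ 0 ∧ s ^ 2 ≠ 1 ∧ s ^ 2 ≠ -1 := by
    by_contra hcon
    push Not at hcon
    obtain ⟨i, hi⟩ : ∃ i : K, ∀ s : K, s ^ 2 = -1 → s = i ∨ s = -i := by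
      by_cases h : ∃ i : K, i ^ 2 = -1
      · obtain ⟨i, hi⟩ := h
        exact ⟨i, fun s hs => sq_eq_sq_iff_eq_or_eq_neg.1 (hs.trans hi.symm)⟩
      · exact ⟨0, fun s hs => absurd ⟨s, hs⟩ h⟩
    have hsub : (Finset.univ : Finset K) ⊆ {0, 1, -1, i, -i} := by
      intro s _
      simp only [Finset.mem_insert, Finset.mem_singleton]
      by_cases h0 : s = 0
      · exact Or.inl h0
      by_cases h1 : s ^ 2 = 1
      · rcases sq_eq_one_iff.1 h1 with e | e <;> simp [e]
      · rcases hi s (hcon s h0 h1) with e | e <;> simp [e]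
    have h5 := (Finset.card_le_card hsub).trans Finset.card_le_five
    rw [Finset.card_univ] at h5
    omega
  obtain ⟨hs0, hs1, hs2⟩ := hs
  have hden : 1 + s ^ 2 ≠ 0 := fun e => hs2 (by linear_combination e)
  set a := (1 - s ^ 2) / (1 + s ^ 2) with ha
  set b := 2 * s / (1 + s ^ 2) with hb
  have ha0 : a ≠ 0 := div_ne_zero (sub_ne_zero.2 (Ne.symm hs1)) hden
  have hb0 : b ≠ 0 := div_ne_zero (mul_ne_zero h2 hs0) hden
  have hab : a * a + b * b = 1 := by rw [ha, hb]; field_simp; ring
  obtain ⟨c, d, hcd⟩ := exists_norm_eq h2 (δ := (1 : K)) one_ne_zero (-1)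
  let J : SL₂ := ⟨!![0, 1; -1, 0], by simp [Matrix.det_fin_two_of]⟩
  let R : SL₂ := ⟨!![a, b; -b, a], by rw [Matrix.det_fin_two_of]; linear_combination hab⟩
  let S : SL₂ := ⟨!![c, d; d, -c], by rw [Matrix.det_fin_two_of]; linear_combination -hcd⟩
  let U : SL₂ := ⟨!![1, 1; 0, 1], by simp [Matrix.det_fin_two_of]⟩
  refine ⟨cl J, cl R, cl S, cl U, cl_comm_of_exact ?_, ?_, fun e => ?_, fun e => ?_⟩
  · show !![a, b; -b, a] * !![0, 1; -1, 0] = !![0, 1; -1, 0] * !![a, b; -b, a]
    ext i j; fin_cases i <;> fin_cases j <;> simp [Matrix.mul_apply, Fin.sum_univ_two]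
  · rw [← cl_mul, ← cl_mul]
    refine (cl_eq_of_smul (c := -1) ?_).symm
    show !![c, d; d, -c] * !![0, 1; -1, 0] = (-1 : K) • (!![0, 1; -1, 0] * !![c, d; d, -c])
    ext i j; fin_cases i <;> fin_cases j <;> simp [Matrix.mul_apply, Fin.sum_univ_two]
  · have key : c = 0 ∧ d = 0 := by
      rcases commute_cases e with e' | e'
      · change !![a, b; -b, a] * !![c, d; d, -c] = !![c, d; d, -c] * !![a, b; -b, a] at e'
        have h00 := congrFun (congrFun e' 0) 0
        have h01 := congrFun (congrFun e' 0) 1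
        simp [Matrix.mul_apply, Fin.sum_univ_two] at h00 h01
        exact ⟨mul_left_cancel₀ (mul_ne_zero h2 hb0) (by linear_combination -h01),
          mul_left_cancel₀ (mul_ne_zero h2 hb0) (by linear_combination h00)⟩
      · change !![a, b; -b, a] * !![c, d; d, -c] = -(!![c, d; d, -c] * !![a, b; -b, a]) at e'
        have h00 := congrFun (congrFun e' 0) 0
        have h01 := congrFun (congrFun e' 0) 1
        simp [Matrix.mul_apply, Fin.sum_univ_two] at h00 h01
        exact ⟨mul_left_cancel₀ (mul_ne_zero h2 ha0) (by linear_combination h00),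
          mul_left_cancel₀ (mul_ne_zero h2 ha0) (by linear_combination h01)⟩
    rw [key.1, key.2] at hcd
    exact one_ne_zero (show (1 : K) = 0 by linear_combination hcd)
  · rcases commute_cases e with e' | e'
    · change !![(1 : K), 1; 0, 1] * !![0, 1; -1, 0] = !![0, 1; -1, 0] * !![1, 1; 0, 1] at e'
      have h00 := congrFun (congrFun e' 0) 0
      simp [Matrix.mul_apply, Fin.sum_univ_two] at h00
    · change !![(1 : K), 1; 0, 1] * !![0, 1; -1, 0] = -(!![0, 1; -1, 0] * !![1, 1; 0, 1]) at e'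
      have h00 := congrFun (congrFun e' 0) 0
      simp [Matrix.mul_apply, Fin.sum_univ_two] at h00

omit h2 in
/-- The map given by a field embedding. -/
theorem exists_pslMap {L : Type*} [Field L] [Fintype L] (ι : K →+* L) :
    ∃ f : P₂ →* Matrix.ProjectiveSpecialLinearGroup (Fin 2) L, Function.Injective f := by
  let m : SL₂ →* Matrix.SpecialLinearGroup (Fin 2) L := Matrix.SpecialLinearGroup.map ι
  let g : SL₂ →* Matrix.ProjectiveSpecialLinearGroup (Fin 2) L :=
    (QuotientGroup.mk' (Subgroup.center _)).comp m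
  have hker : g.ker = Subgroup.center SL₂ := by
    ext z
    rw [MonoidHom.mem_ker]
    show (QuotientGroup.mk (m z) : Matrix.ProjectiveSpecialLinearGroup (Fin 2) L) = 1 ↔ _
    rw [QuotientGroup.eq_one_iff, Matrix.SpecialLinearGroup.mem_center_iff,
      Matrix.SpecialLinearGroup.mem_center_iff]
    constructor
    · rintro ⟨r, hr, hrz⟩
      have h00 : r = ι ((z : M₂) 0 0) := by
        have := congrFun (congrFun hrz 0) 0
        simpa [m] using this
      refine ⟨(z : M₂) 0 0, ι.injective (by rw [map_pow, map_one, ← h00, hr]), ?_⟩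
      ext i j
      refine ι.injective ?_
      have := congrFun (congrFun hrz i) j
      rw [h00] at this
      fin_cases i <;> fin_cases j <;> simpa [m] using this
    · rintro ⟨r, hr, hrz⟩
      refine ⟨ι r, by rw [← map_pow, hr, map_one], ?_⟩
      ext i j
      have := congrArg ι (congrFun (congrFun hrz i) j)
      fin_cases i <;> fin_cases j <;> simpa [m] using this
  refine ⟨QuotientGroup.lift (Subgroup.center SL₂) g hker.ge, ?_⟩
  rw [← MonoidHom.ker_eq_bot_iff, eq_bot_iff]
  intro y hy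
  obtain ⟨z, rfl⟩ := QuotientGroup.mk'_surjective (Subgroup.center SL₂) y
  rw [Subgroup.mem_bot]
  refine (QuotientGroup.eq_one_iff z).2 (hker ▸ ?_)
  exact hy

end CfsgLib.MinNonCA
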