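import Cfsg.Agent.Lib.MinNonCA.Centralizers
import Cfsg.Agent.Lib.AltGroups.MoebiusRecognition
import Cfsg.Agent.Lib.CoprimeAction.Glauberman
import Cfsg.Agent.S0799
import Mathlib.GroupTheory.FixedPointFree

/-!
The proper subgroups of `PSL(2, q)` with `q` prime, `16 ∤ q² - 1`, or `q = 3^p, 5^p`, are CA-groups.
-/

set_option autoImplicit false
set_option linter.style.haveILetI false
open Cfsg Matrix

namespace CfsgLib.MinNonCA

open CfsgLib.ReflectionsSpinor.PSL CfsgLib.GW.PGLTwo

theorem alt_four_comm : ∀ x : alternatingGroup (Fin 4), x * x = 1 → x ≠ 1 → ∀ a, a * x = x * a →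
    ∀ b, b * x = x * b → a * b = b * a := by
  decide +kernel

def altFiveInv : alternatingGroup (Fin 5) :=
  ⟨Equiv.swap 0 1 * Equiv.swap 2 3, by rw [Equiv.Perm.mem_alternatingGroup]; decide⟩

theorem alt_five_cent : ∀ a : alternatingGroup (Fin 5), a * altFiveInv = altFiveInv * a →
    ∀ b, b * altFiveInv = altFiveInv * b → a * b = b * a := by
  decide +kernel

theorem alt_five_conj : ∀ x : alternatingGroup (Fin 5), x * x = 1 → x ≠ 1 →
    ∃ g : alternatingGroup (Fin 5), g * x * g⁻¹ = altFiveInv := by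
  decide +kernel

theorem alt_five_comm (x a b : alternatingGroup (Fin 5)) (hx2 : x * x = 1) (hx : x ≠ 1)
    (ha : a * x = x * a) (hb : b * x = x * b) : a * b = b * a := by
  obtain ⟨g, hg⟩ := alt_five_conj x hx2 hx
  have key : ∀ c, c * x = x * c → g * c * g⁻¹ * altFiveInv = altFiveInv * (g * c * g⁻¹) := by
    intro c hc
    rw [← hg]
    calc g * c * g⁻¹ * (g * x * g⁻¹) = g * (c * x) * g⁻¹ := by group
      _ = g * (x * c) * g⁻¹ := by rw [hc]
      _ = g * x * g⁻¹ * (g * c * g⁻¹) := by group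
  have := alt_five_cent _ (key a ha) _ (key b hb)
  calc a * b = g⁻¹ * ((g * a * g⁻¹) * (g * b * g⁻¹)) * g := by group
    _ = g⁻¹ * ((g * b * g⁻¹) * (g * a * g⁻¹)) * g := by rw [this]
    _ = b * a := by group

/-- In a dihedral group an element of square one whose centralizer is nonabelian is central. -/
theorem dihedral_central {k : ℕ} {x a b : DihedralGroup k} (hx : x * x = 1) (ha : a * x = x * a)
    (hb : b * x = x * b) (hab : a * b ≠ b * a) (h : DihedralGroup k) : h * x = x * h := by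
  rcases x with i | i
  · rw [DihedralGroup.r_mul_r, DihedralGroup.one_def, DihedralGroup.r.injEq] at hx
    rcases h with j | j
    · rw [DihedralGroup.r_mul_r, DihedralGroup.r_mul_r, add_comm]
    · rw [DihedralGroup.sr_mul_r, DihedralGroup.r_mul_sr, DihedralGroup.sr.injEq]
      linear_combination hx
  · exfalso
    refine hab ?_
    rcases a with j | j <;> rcases b with l | l <;>
      simp only [DihedralGroup.r_mul_r, DihedralGroup.r_mul_sr, DihedralGroup.sr_mul_r,
        DihedralGroup.sr_mul_sr, DihedralGroup.r.injEq, DihedralGroup.sr.injEq] at ha hb ⊢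
    · exact add_comm _ _
    · linear_combination ha
    · linear_combination -hb
    · linear_combination ha - hb

variable {F : Type*} [Field F] [Fintype F]

local notation "X" => Matrix.ProjectiveSpecialLinearGroup (Fin 2) F

theorem exact_comm (h2 : (2 : F) ≠ 0) {x a b : X} (hx : x ≠ 1) (ha2 : a * a ≠ 1) (hb2 : b * b ≠ 1)
    (ha : a * x = x * a) (hb : b * x = x * b) : a * b = b * a := by
  obtain ⟨s, rfl⟩ := cl_surjective x
  obtain ⟨t, rfl⟩ := cl_surjective a
  obtain ⟨u, rfl⟩ := cl_surjective b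
  have key : ∀ {w : Matrix.SpecialLinearGroup (Fin 2) F}, cl w * cl w ≠ 1 → cl w * cl s = cl s * cl w →
      (w : Matrix (Fin 2) (Fin 2) F) * (s : Matrix (Fin 2) (Fin 2) F) =
        (s : Matrix (Fin 2) (Fin 2) F) * (w : Matrix (Fin 2) (Fin 2) F) := fun {w} hw2 hw =>
    (commute_cases hw).resolve_right fun e => hw2 ((sq_one_iff h2 (fun e' => hw2 (by rw [e', one_mul]))).2
      (trace_zero_of_anti h2 (s := w) (t := s) (by rw [e, neg_neg])))
  exact cl_comm_of_exact (comm_of_nonscalar (not_scalar hx) (key ha2 ha) (key hb2 hb))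

/-- The centralizers of involutions in the normalizer of a Sylow subgroup for the characteristic are
abelian. -/
theorem normalizer_cent_comm (h2 : (2 : F) ≠ 0) {p : ℕ} [hp : Fact p.Prime] [CharP F p]
    (hpX : p ∣ Nat.card X) (P : Sylow p X) {x a b : X} (hx : x ≠ 1) (hx2 : x * x = 1)
    (hxN : x ∈ Subgroup.normalizer ((P : Subgroup X) : Set X))
    (haN : a ∈ Subgroup.normalizer ((P : Subgroup X) : Set X))
    (hbN : b ∈ Subgroup.normalizer ((P : Subgroup X) : Set X))
    (ha : a * x = x * a) (hb : b * x = x * b) : a * b = b * a := by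
  obtain ⟨d, hd⟩ : ∃ d : (P : Subgroup X), orderOf d = p := exists_prime_orderOf_dvd_card' p (by
    obtain ⟨k, hk⟩ := P.isPGroup'.exists_card_eq
    rcases k with _ | k
    · exact absurd hpX (fun h => by
        have h1 := P.card_eq_multiplicity
        rw [hk, pow_zero] at h1
        have h3 := (hp.out.pow_dvd_iff_le_factorization Nat.card_pos.ne').1 (show p ^ 1 ∣ _ by simpa using h)
        have := Nat.pow_le_pow_right hp.out.pos h3
        rw [← h1, pow_one] at this
        exact absurd this (Nat.not_le.2 hp.out.one_lt))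
    · rw [hk]; exact dvd_pow_self p (Nat.succ_ne_zero k))
  have hp2 : p ≠ 2 := fun e => h2 (by subst e; exact CharTwo.two_eq_zero)
  have hinv : ∀ w ∈ Subgroup.normalizer ((P : Subgroup X) : Set X), w ≠ 1 → w * w = 1 →
      ∀ e ∈ (P : Subgroup X), w * e * w⁻¹ = e⁻¹ := by
    intro w hwN hw hw2 e he
    let φ : (P : Subgroup X) →* (P : Subgroup X) :=
      ((P : Subgroup X).normalizerMonoidHom ⟨w, hwN⟩).toMonoidHom
    have hφ : ∀ v : (P : Subgroup X), (φ v : X) = w * v * w⁻¹ := fun _ => rfl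
    have hfpf : MonoidHom.FixedPointFree φ := by
      intro v hv
      by_contra hv1
      have hv' : w * (v : X) * w⁻¹ = v := (hφ v).symm.trans (congrArg Subtype.val hv)
      obtain ⟨k, hk⟩ := IsPGroup.iff_orderOf.1 P.isPGroup' v
      rcases k with _ | k
      · exact hv1 (orderOf_eq_one_iff.1 (by simpa using hk))
      have h1 : orderOf ((v : X) ^ p ^ k) = p := by
        rw [orderOf_pow_of_dvd (pow_ne_zero _ hp.out.ne_zero)
          (by rw [Subgroup.orderOf_coe, hk]; exact pow_dvd_pow p k.le_succ), Subgroup.orderOf_coe, hk,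
          pow_succ, Nat.mul_div_cancel_left _ (pow_pos hp.out.pos k)]
      have h3 := eq_one_of_commute_pow h2 (p := p) hw hw2
        (orderOf_dvd_iff_pow_eq_one.1 (dvd_of_eq h1))
        ((show Commute (v : X) w from (mul_inv_eq_iff_eq_mul.1 hv').symm).pow_left _).eq
      rw [h3, orderOf_one] at h1
      exact hp.out.ne_one h1.symm
    have hinvol : Function.Involutive φ := fun v => Subtype.ext (by
      rw [hφ, hφ, show w * (w * (v : X) * w⁻¹) * w⁻¹ = (w * w) * v * (w * w)⁻¹ by group, hw2]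
      group)
    have := congrFun (hfpf.coe_eq_inv_of_involutive hinvol) ⟨e, he⟩
    rw [← hφ ⟨e, he⟩, this]; rfl
  have key : ∀ w ∈ Subgroup.normalizer ((P : Subgroup X) : Set X), w * x = x * w →
      w = 1 ∨ w = x ∨ w * w ≠ 1 := by
    intro w hwN hwx
    by_contra hcon
    push Not at hcon
    obtain ⟨hw1, hwx', hw2⟩ := hcon
    have h3 : w * x * (w * x) = 1 := by
      calc w * x * (w * x) = w * (x * w) * x := by group
        _ = (w * w) * (x * x) := by rw [← hwx]; group
        _ = 1 := by rw [hw2, hx2, one_mul]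
    have hwx1 : w * x ≠ 1 := fun e => hwx' (by
      rw [eq_inv_of_mul_eq_one_left e, inv_eq_of_mul_eq_one_right hx2])
    have h4 := hinv (w * x) (mul_mem hwN hxN) hwx1 h3 d d.2
    rw [show w * x * (d : X) * (w * x)⁻¹ = w * (x * d * x⁻¹) * w⁻¹ by group, hinv x hxN hx hx2 d d.2,
      hinv w hwN hw1 hw2 _ (inv_mem d.2), inv_inv] at h4
    have h5 : orderOf (d : X) ∣ 2 := orderOf_dvd_of_pow_eq_one (by
      rw [pow_two]; nth_rewrite 1 [h4]; rw [inv_mul_cancel])
    rw [Subgroup.orderOf_coe, hd] at h5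
    exact hp2 ((Nat.prime_dvd_prime_iff_eq hp.out Nat.prime_two).1 h5)
  rcases key a haN ha with rfl | rfl | ha2
  · rw [one_mul, mul_one]
  · exact hb.symm
  rcases key b hbN hb with rfl | rfl | hb2
  · rw [one_mul, mul_one]
  · exact ha
  exact exact_comm h2 hx ha2 hb2 ha hb

/-- The numerical conditions on `q`. -/
theorem card_facts {q : ℕ} (hq : (q.Prime ∧ 5 < q ∧ ¬ 16 ∣ q ^ 2 - 1) ∨
    ∃ p : ℕ, p.Prime ∧ p ≠ 2 ∧ (q = 3 ^ p ∨ q = 5 ^ p)) :
    Odd q ∧ 5 < q ∧ ¬ 16 ∣ q ^ 2 - 1 ∧ ∀ k m : ℕ, k ^ m = q → k = q ∨ k = 3 ∨ k = 5 := by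
  rcases hq with ⟨hqp, h5, h16⟩ | ⟨p, hp, hp2, hq⟩
  · refine ⟨hqp.odd_of_ne_two (by omega), h5, h16, fun k m hkm => Or.inl ?_⟩
    rcases m with _ | _ | m
    · rw [pow_zero] at hkm; omega
    · rwa [pow_one] at hkm
    · exfalso
      have h1 := hqp
      rw [← hkm] at h1
      exact Nat.Prime.not_prime_pow (by omega) h1
  obtain ⟨r, hr, hr35, rfl⟩ : ∃ r : ℕ, r.Prime ∧ (r = 3 ∨ r = 5) ∧ q = r ^ p := by
    rcases hq with e | e
    · exact ⟨3, Nat.prime_three, Or.inl rfl, e⟩
    · exact ⟨5, Nat.prime_five, Or.inr rfl, e⟩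
  obtain ⟨j, hj⟩ := hp.odd_of_ne_two hp2
  have hp3 : 3 ≤ p := by have := hp.two_le; omega
  refine ⟨(hr.odd_of_ne_two (by omega)).pow, ?_, ?_, fun k m hkm => ?_⟩
  · have h1 : r ^ 3 ≤ r ^ p := Nat.pow_le_pow_right hr.pos hp3
    rcases hr35 with rfl | rfl <;> norm_num at h1 <;> omega
  · intro h16
    have h9 : (r ^ p) ^ 2 % 16 = 9 := by
      rw [← pow_mul, mul_comm, pow_mul, hj, pow_succ, pow_mul, Nat.mul_mod, Nat.pow_mod]
      rcases hr35 with rfl | rfl <;> norm_num
    have hpos : 1 ≤ (r ^ p) ^ 2 := Nat.one_le_pow _ _ (pow_pos hr.pos p)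
    omega
  · obtain ⟨i, -, rfl⟩ := (Nat.dvd_prime_pow hr).1 (show k ∣ r ^ p from by
      rcases m with _ | m
      · rw [pow_zero] at hkm
        exact absurd hkm.symm (Nat.one_lt_pow hp.ne_zero hr.one_lt).ne'
      · exact ⟨k ^ m, by rw [← hkm, pow_succ']⟩)
    rw [← pow_mul] at hkm
    have hip := Nat.pow_right_injective hr.two_le hkm
    rcases (Nat.dvd_prime hp).1 (Dvd.intro m hip) with rfl | rfl
    · rw [pow_one]; exact Or.inr hr35
    · exact Or.inl rfl

theorem hq_small {K : Type*} [Field K] [Fintype K] (h : Fintype.card K = 3 ∨ Fintype.card K = 5)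
    (a b : K) (hab : a ^ 2 + b ^ 2 = 1) : a * b = 0 := by
  by_contra hne
  obtain ⟨ha, hb⟩ := mul_ne_zero_iff.1 hne
  have key : ∀ c : K, c ≠ 0 → c ^ 2 = 1 ∨ (c ^ 2 = -1 ∧ Fintype.card K = 5) := by
    intro c hc
    rcases h with h | h
    · have := FiniteField.pow_card_sub_one_eq_one c hc
      rw [h] at this
      exact Or.inl this
    · have := FiniteField.pow_card_sub_one_eq_one c hc
      rw [h, show (5 - 1 : ℕ) = 2 * 2 from rfl, pow_mul, sq_eq_one_iff] at this
      rcases this with e | e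
      exacts [Or.inl e, Or.inr ⟨e, h⟩]
  have h3 : ∀ {n : ℕ}, ((n : ℕ) : K) = 0 → n.Coprime (Fintype.card K) → False := by
    intro n hn hcop
    have hc : ((Fintype.card K : ℕ) : K) = 0 := Nat.cast_card_eq_zero K
    have hg := Nat.gcd_eq_gcd_ab n (Fintype.card K)
    rw [hcop.gcd_eq_one] at hg
    have := congrArg (fun z : ℤ => (z : K)) hg
    push_cast at this
    rw [hn, hc] at this
    simp at this
  rcases key a ha with ea | ⟨ea, h5⟩ <;> rcases key b hb with eb | ⟨eb, h5⟩
  · exact one_ne_zero (show (1 : K) = 0 by linear_combination hab - ea - eb)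
  · exact one_ne_zero (show (1 : K) = 0 by linear_combination ea + eb - hab)
  · exact one_ne_zero (show (1 : K) = 0 by linear_combination ea + eb - hab)
  · exact h3 (n := 3) (by push_cast; linear_combination ea + eb - hab) (by rw [h5]; norm_num)

theorem two_ne_zero_of_odd {K : Type*} [Field K] [Fintype K] (h : Odd (Fintype.card K)) :
    (2 : K) ≠ 0 := Ring.two_ne_zero fun h' => by
  have := (FiniteField.even_card_iff_char_two (F := K)).1 h'
  rw [Nat.odd_iff] at h
  omega

theorem eight_dvd_iff (hodd : Odd (Fintype.card F)) :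
    8 ∣ Nat.card X ↔ 16 ∣ Fintype.card F ^ 2 - 1 := by
  have h := CfsgLib.ClassicalLinear.card_PSL_two_of_odd (F := F) rfl hodd
  constructor <;> intro h8
  · have h1 : 2 * 8 ∣ Fintype.card F * (Fintype.card F ^ 2 - 1) := h ▸ Nat.mul_dvd_mul_left 2 h8
    exact ((Nat.Coprime.pow_left 4 (Nat.coprime_two_left.2 hodd))).dvd_of_dvd_mul_left h1
  · refine Nat.dvd_of_mul_dvd_mul_left two_pos ?_
    rw [h]
    exact Dvd.dvd.mul_left h8 _

theorem proper_ca (hq : ((Fintype.card F).Prime ∧ 5 < Fintype.card F ∧ ¬ 16 ∣ Fintype.card F ^ 2 - 1) ∨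
      ∃ p : ℕ, p.Prime ∧ p ≠ 2 ∧ (Fintype.card F = 3 ^ p ∨ Fintype.card F = 5 ^ p))
    (H : Subgroup X) (hH : H ≠ ⊤) : ∀ x a b : H, a * x = x * a → b * x = x * b →
      a * b ≠ b * a → ∀ h : H, h * x = x * h := by
  classical
  obtain ⟨hodd, h5, h16, hpow⟩ := card_facts hq
  have h2 := two_ne_zero_of_odd hodd
  have h8 : ¬ 8 ∣ Nat.card X := fun h => h16 ((eight_dvd_iff hodd).1 h)
  intro x a b ha hb hab
  by_cases hx : x = 1
  · intro h; rw [hx, one_mul, mul_one]
  have hx' : (x : X) ≠ 1 := fun e => hx (Subtype.ext e)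
  have hx2 : x * x = 1 := by
    by_contra hne
    exact hab (Subtype.ext (cent_comm_of_sq_ne h2 (x := (x : X)) (fun e => hne (Subtype.ext e))
      (congrArg Subtype.val ha) (congrArg Subtype.val hb)))
  set p := ringChar F with hp
  haveI : CharP F p := ringChar.charP F
  haveI : Fact p.Prime := ⟨CharP.char_is_prime F p⟩
  rcases Cfsg.Agent.S0799.result (F := F) rfl p H with ⟨k, -, h | ⟨⟨e⟩⟩⟩ | ⟨P, K, hK, ⟨e⟩⟩ |
    ⟨⟨e⟩⟩ | ⟨⟨e⟩⟩ | ⟨⟨e⟩⟩ | ⟨K, iK, iF, m, hm, h | h⟩
  · haveI := h.1
    exact absurd (mul_comm' a b) hab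
  · intro g
    apply e.injective
    rw [map_mul, map_mul]
    exact dihedral_central (x := e x) (a := e a) (b := e b) (by rw [← map_mul, hx2, map_one])
      (by rw [← map_mul, ← map_mul, ha]) (by rw [← map_mul, ← map_mul, hb])
      (by rw [← map_mul, ← map_mul]; exact fun h' => hab (e.injective h')) (e g)
  · exfalso
    refine hab (e.injective (Subtype.ext ?_))
    have hpX : p ∣ Nat.card X := by
      obtain ⟨n, -, hn⟩ := FiniteField.card F p
      refine (Nat.Coprime.dvd_of_dvd_mul_left (k := p) (m := 2) ?_ ?_)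
      · refine (Nat.coprime_primes (Fact.out : p.Prime) Nat.prime_two).2 fun e => ?_
        rw [Nat.odd_iff, hn, e, Nat.pow_mod] at hodd
        simp at hodd
      · rw [CfsgLib.ClassicalLinear.card_PSL_two_of_odd rfl hodd]
        exact Dvd.dvd.mul_right (hn ▸ dvd_pow_self p n.pos.ne') _
    simp only [map_mul, Subgroup.coe_mul]
    exact normalizer_cent_comm h2 hpX P (x := (e x : X))
      (fun e' => hx (e.injective ((Subtype.ext e' : e x = 1).trans (map_one e).symm)))
      (by rw [← Subgroup.coe_mul, ← map_mul, hx2, map_one]; rfl)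
      (hK (e x).2) (hK (e a).2) (hK (e b).2)
      (by rw [← Subgroup.coe_mul, ← Subgroup.coe_mul, ← map_mul, ← map_mul, ha])
      (by rw [← Subgroup.coe_mul, ← Subgroup.coe_mul, ← map_mul, ← map_mul, hb])
  · exact absurd (e.injective (by
      rw [map_mul, map_mul]
      exact alt_four_comm (e x) (by rw [← map_mul, hx2, map_one])
        (fun e' => hx (e.map_eq_one_iff.1 e')) (e a) (by rw [← map_mul, ← map_mul, ha])
        (e b) (by rw [← map_mul, ← map_mul, hb]))) hab
  · exfalso
    apply h8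
    refine Dvd.dvd.trans ?_ (Subgroup.card_subgroup_dvd_card H)
    rw [Nat.card_congr e.toEquiv, Nat.card_perm, Nat.card_fin]
    decide
  · exact absurd (e.injective (by
      rw [map_mul, map_mul]
      exact alt_five_comm (e x) (e a) (e b) (by rw [← map_mul, hx2, map_one])
        (fun e' => hx (e.map_eq_one_iff.1 e')) (by rw [← map_mul, ← map_mul, ha])
        (by rw [← map_mul, ← map_mul, hb]))) hab
  · obtain ⟨e⟩ := h
    rcases hpow _ _ hm with hk | hk
    · exfalso
      refine hH (Subgroup.eq_top_of_card_eq H ?_)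
      rw [Nat.card_congr e.toEquiv]
      refine Nat.eq_of_mul_eq_mul_left two_pos ?_
      rw [CfsgLib.ClassicalLinear.card_PSL_two_of_odd hk hodd,
        CfsgLib.ClassicalLinear.card_PSL_two_of_odd rfl hodd]
    · exact absurd (e.injective (by
        rw [map_mul, map_mul]
        exact cent_comm_small (two_ne_zero_of_odd (by rcases hk with hk | hk <;> rw [hk] <;> decide))
          (hq_small hk) (x := e x) (fun e' => hx (e.map_eq_one_iff.1 e'))
          (by rw [← map_mul, ← map_mul, ha]) (by rw [← map_mul, ← map_mul, hb]))) hab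
  · obtain ⟨e⟩ := h
    exfalso
    apply h8
    refine Dvd.dvd.trans ?_ (Subgroup.card_subgroup_dvd_card H)
    rw [Nat.card_congr e.toEquiv, AltGroups.card_PGL_two]
    refine Dvd.dvd.mul_left ?_ _
    have hkodd : Odd (Fintype.card K) := by
      rcases Nat.even_or_odd (Fintype.card K) with he | ho
      · exfalso
        rcases m with _ | m
        · rw [pow_zero] at hm; omega
        · exact (Nat.not_odd_iff_even.2 (he.pow_of_ne_zero (Nat.succ_ne_zero m))) (hm ▸ hodd)
      · exact ho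
    exact Nat.eight_dvd_sq_sub_one_of_odd hkodd

end CfsgLib.MinNonCA
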