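import Cfsg.Agent.Lib.MinNonCA.Models
import Cfsg.Agent.Lib.MinNonCA.Converse
import Cfsg.Agent.Lib.SL2.Dickson.Minimal

/-!
The classification of the nonsolvable groups which are not CA-groups while all their proper subgroups are.
-/

set_option autoImplicit false
set_option linter.style.haveILetI false
open Cfsg Matrix

namespace CfsgLib.MinNonCA

variable {G : Type*} [Group G]

theorem MNC.of_equiv_psl {F : Type} [Field F] [Fintype F]
    (e : G ≃* ProjectiveSpecialLinearGroup (Fin 2) F)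
    (hq : ((Fintype.card F).Prime ∧ 5 < Fintype.card F ∧ ¬ 16 ∣ Fintype.card F ^ 2 - 1) ∨
      ∃ p : ℕ, p.Prime ∧ p ≠ 2 ∧ (Fintype.card F = 3 ^ p ∨ Fintype.card F = 5 ^ p)) :
    MNC G := by
  obtain ⟨hodd, h5, -, -⟩ := card_facts hq
  have h2 := two_ne_zero_of_odd hodd
  refine ⟨fun hs => ?_, ?_, fun H hH x hx a ha b hb hax hbx hab k hk => ?_⟩
  · haveI := hs
    exact CfsgLib.SL2.Dickson.not_isSolvable_psl (K := F) (by rw [Nat.card_eq_fintype_card]; omega)
      (Group.isSolvable_of_surjective (f := e.toMonoidHom) e.surjective)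
  · obtain ⟨x, a, b, y, ha, hb, hab, hy⟩ := exists_cent_not_comm h2 h5
    refine ⟨e.symm x, fun hc => hy ?_, e.symm a, ?_, e.symm b, ?_, fun h => hab ?_⟩
    · have := congrArg e (Subgroup.mem_center_iff.1 hc (e.symm y))
      simpa using this
    · rw [Subgroup.mem_centralizer_singleton_iff, ← map_mul, ← map_mul, ha]
    · rw [Subgroup.mem_centralizer_singleton_iff, ← map_mul, ← map_mul, hb]
    · have := congrArg e h
      simpa using this
  · have hH' : H.map e.toMonoidHom ≠ ⊤ := fun h => hH (by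
      rw [← Subgroup.comap_map_eq_self_of_injective (f := e.toMonoidHom) e.injective H]
      rw [h, Subgroup.comap_top])
    have hm : ∀ {w : G}, w ∈ H → e w ∈ H.map e.toMonoidHom := fun hw => ⟨_, hw, rfl⟩
    have key := proper_ca hq (H.map e.toMonoidHom) hH' ⟨e x, hm hx⟩ ⟨e a, hm ha⟩ ⟨e b, hm hb⟩
      (Subtype.ext (by rw [Subgroup.coe_mul, Subgroup.coe_mul, ← map_mul, ← map_mul, hax]))
      (Subtype.ext (by rw [Subgroup.coe_mul, Subgroup.coe_mul, ← map_mul, ← map_mul, hbx]))
      (fun h => hab (e.injective (by rw [map_mul, map_mul]; exact congrArg Subtype.val h)))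
      ⟨e k, hm hk⟩
    exact e.injective (by rw [map_mul, map_mul]; exact congrArg Subtype.val key)

theorem MNC.exists_psl_card [Finite G] (h : MNC G) :
    ∃ (F : Type) (_ : Field F) (_ : Fintype F),
      Nonempty (G ≃* ProjectiveSpecialLinearGroup (Fin 2) F) ∧
        (((Fintype.card F).Prime ∧ 5 < Fintype.card F ∧ ¬ 16 ∣ Fintype.card F ^ 2 - 1) ∨
         (∃ p : ℕ, p.Prime ∧ p ≠ 2 ∧ (Fintype.card F = 3 ^ p ∨ Fintype.card F = 5 ^ p))) := by
  obtain ⟨F, iF, iT, hodd, h3, h8, ⟨e⟩⟩ := h.exists_equiv_psl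
  refine ⟨F, iF, iT, ⟨e⟩, ?_⟩
  have h2 := two_ne_zero_of_odd hodd
  have h16 : ¬ 16 ∣ Fintype.card F ^ 2 - 1 := fun h16 =>
    h8 (by rw [Nat.card_congr e.toEquiv]; exact (eight_dvd_iff hodd).2 h16)
  have h5 : Fintype.card F ≠ 5 := fun h5 => by
    obtain ⟨x, hx, a, ha, b, hb, hab⟩ := h.ex
    rw [Subgroup.mem_centralizer_singleton_iff] at ha hb
    have hx1 : e x ≠ 1 := fun he => hx (by rw [e.map_eq_one_iff.1 he]; exact one_mem _)
    exact hab (e.injective (by
      rw [map_mul, map_mul]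
      exact cent_comm_small h2 (hq_small (Or.inr h5)) hx1 (by rw [← map_mul, ← map_mul, ha])
        (by rw [← map_mul, ← map_mul, hb])))
  have h6 : 5 < Fintype.card F := by
    rw [Nat.odd_iff] at hodd; omega
  set p := ringChar F
  haveI : CharP F p := ringChar.charP F
  obtain ⟨n, hp, hn⟩ := FiniteField.card F p
  haveI : Fact p.Prime := ⟨hp⟩
  by_cases hn1 : (n : ℕ) = 1
  · exact Or.inl ⟨by rw [hn, hn1, pow_one]; exact hp, h6, h16⟩
  refine Or.inr ?_
  have hp2 : p ≠ 2 := fun hp2 => by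
    rw [Nat.odd_iff, hn, hp2, Nat.pow_mod] at hodd
    simp at hodd
  have hnodd : Odd (n : ℕ) := by
    rw [← Nat.not_even_iff_odd]
    rintro ⟨m, hm⟩
    apply h16
    rw [hn, hm]
    have ho : Odd (p ^ m) := (hp.odd_of_ne_two hp2).pow
    have h8' := Nat.eight_dvd_sq_sub_one_of_odd ho
    have hsq : (p ^ m) ^ 2 % 2 = 1 := Nat.odd_iff.1 ho.pow
    have : (p ^ (m + m)) ^ 2 - 1 = ((p ^ m) ^ 2 + 1) * ((p ^ m) ^ 2 - 1) := by
      rw [← Nat.sq_sub_sq, one_pow, pow_add]; ring_nf
    rw [this, show 16 = 2 * 8 from rfl]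
    exact Nat.mul_dvd_mul (by omega) h8'
  -- subfields have at most five elements
  have hsub : ∀ d : ℕ, d ∣ n → d < n → p ^ d ≤ 5 := by
    intro d hd hdn
    by_contra hlt
    push Not at hlt
    have hd0 : d ≠ 0 := by rintro rfl; simp at hlt
    let _ : Algebra (ZMod p) F := ZMod.algebra F p
    have hfin : Module.finrank (ZMod p) F = n := by
      have := Module.natCard_eq_pow_finrank (K := ZMod p) (V := F)
      rw [Nat.card_eq_fintype_card, hn, Nat.card_zmod] at this
      exact (Nat.pow_right_injective hp.two_le this).symm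
    letI : Fintype (GaloisField p d) := Fintype.ofFinite _
    have hK : Fintype.card (GaloisField p d) = p ^ d := by
      rw [← Nat.card_eq_fintype_card]; exact GaloisField.card p d hd0
    obtain ⟨f⟩ := FiniteField.nonempty_algHom_of_finrank_dvd (F := ZMod p) (K := GaloisField p d)
      (L := F) (by rw [GaloisField.finrank p hd0, hfin]; exact hd)
    obtain ⟨φ, hφ⟩ := exists_pslMap (K := GaloisField p d) f.toRingHom
    have hKodd : Odd (Fintype.card (GaloisField p d)) := by
      rw [hK]; exact (hp.odd_of_ne_two hp2).pow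
    let ψ : ProjectiveSpecialLinearGroup (Fin 2) (GaloisField p d) →* G := e.symm.toMonoidHom.comp φ
    have hψ : Function.Injective ψ := e.symm.injective.comp hφ
    have hne : ψ.range ≠ ⊤ := fun htop => by
      have h1 := Nat.card_eq_of_bijective ψ ⟨hψ, MonoidHom.range_eq_top.1 htop⟩
      have e1 := CfsgLib.ClassicalLinear.card_PSL_two_of_odd hK (hK ▸ hKodd)
      have e2 := CfsgLib.ClassicalLinear.card_PSL_two_of_odd hn (hn ▸ hodd)
      rw [h1, Nat.card_congr e.toEquiv, e2] at e1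
      have hlt' : p ^ d < p ^ (n : ℕ) := Nat.pow_lt_pow_right hp.one_lt hdn
      refine absurd e1.symm (ne_of_lt (Nat.mul_lt_mul_of_lt_of_lt hlt' ?_))
      have := Nat.pow_lt_pow_left hlt' two_ne_zero
      have : 1 ≤ (p ^ d) ^ 2 := Nat.one_le_pow _ _ (pow_pos hp.pos d)
      omega
    obtain ⟨x, a, b, y, ha, hb, hab, hy⟩ := exists_cent_not_comm
      (two_ne_zero_of_odd hKodd) (show 5 < Fintype.card (GaloisField p d) by rw [hK]; exact hlt)
    refine hy (hψ ?_)
    rw [map_mul, map_mul]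
    exact h.ca ψ.range hne (ψ x) ⟨x, rfl⟩ (ψ a) ⟨a, rfl⟩ (ψ b) ⟨b, rfl⟩
      (by rw [← map_mul, ← map_mul, ha]) (by rw [← map_mul, ← map_mul, hb])
      (fun he => hab (hψ (by rw [map_mul, map_mul, he]))) (ψ y) ⟨y, rfl⟩
  have hp3 : 3 ≤ p := by have := hp.two_le; omega
  have hnp : (n : ℕ).Prime := by
    by_contra hnp
    obtain ⟨l, hl, hl1, hln⟩ := Nat.exists_dvd_of_not_prime2
      (show 2 ≤ (n : ℕ) by have := n.pos; omega) hnp
    have hl3 : 3 ≤ l := by
      obtain ⟨k, hk⟩ := hl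
      have : Odd l := (Nat.odd_mul.1 (hk ▸ hnodd)).1
      rw [Nat.odd_iff] at this
      omega
    have := hsub l hl hln
    have : 3 ^ 3 ≤ p ^ l := (Nat.pow_le_pow_left hp3 3).trans (Nat.pow_le_pow_right hp.pos hl3)
    omega
  have hp5 : p ≤ 5 := by simpa using hsub 1 (one_dvd _) hnp.one_lt
  refine ⟨n, hnp, fun hn2 => ?_, ?_⟩
  · rw [hn2] at hnodd; exact (Nat.not_odd_iff_even.2 even_two) hnodd
  · rw [hn]
    interval_cases p
    · exact Or.inl rfl
    · exact absurd hp (by norm_num)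
    · exact Or.inr rfl

end CfsgLib.MinNonCA
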