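import Cfsg.Agent.Lib.MinNonCA.Sylow

/-!
Minimal nonsolvable non-CA groups: the special elements are 2-central involutions modulo the centre
and the Sylow 2-subgroups are abelian, once the centralizers of the elements of order greater than
two of the central quotient are abelian.
-/

set_option autoImplicit false
set_option linter.style.haveILetI false
open Cfsg

namespace CfsgLib.MinNonCA

variable {G : Type*} [Group G] [Finite G]

local notation "CG(" x ")" => Subgroup.centralizer ({x} : Set _)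
local notation "Z" => Subgroup.center G
local notation "π" => QuotientGroup.mk' (Subgroup.center G)

theorem mem_map_modCent (x : G) {g : G} (hg : g ∈ (CG(x) : Subgroup G)) :
    π g ∈ (CG(π x) : Subgroup (G ⧸ Z)) :=
  Subgroup.mem_centralizer_singleton_iff.2 (by
    rw [← map_mul, ← map_mul, Subgroup.mem_centralizer_singleton_iff.1 hg])

namespace MNC

variable (h : MNC G)
include h

/-- An abelian centralizer of the image of a special element is its own normalizer. -/
theorem normalizer_centralizer_le {x : G} (hx : Special x)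
    (hab : ∀ a ∈ (CG(π x) : Subgroup (G ⧸ Z)), ∀ b ∈ (CG(π x) : Subgroup (G ⧸ Z)), a * b = b * a) :
    Subgroup.normalizer ((CG(π x) : Subgroup (G ⧸ Z)) : Set (G ⧸ Z)) ≤ CG(π x) := by
  set C : Subgroup (G ⧸ Z) := CG(π x) with hC
  set H : Subgroup G := (Subgroup.normalizer (C : Set (G ⧸ Z))).comap (π) with hH
  have hHtop : H ≠ ⊤ := fun e => by
    have h1 := congrArg (Subgroup.map (π)) e
    rw [hH, Subgroup.map_comap_eq_self_of_surjective (QuotientGroup.mk'_surjective Z),
      Subgroup.map_top_of_surjective _ (QuotientGroup.mk'_surjective Z)] at h1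
    haveI : C.Normal := Subgroup.normalizer_eq_top_iff.1 h1
    have h2 := h.radFree C inferInstance
      (Group.isSolvable_of_comm fun a b => Subtype.ext (hab a a.2 b b.2))
    exact hx.1 ((QuotientGroup.eq_one_iff x).1 (Subgroup.mem_bot.1
      (h2 ▸ (Subgroup.mem_centralizer_singleton_iff.2 rfl : π x ∈ C))))
  have hle : (CG(x) : Subgroup G) ≤ H := fun g hg =>
    Subgroup.mem_comap.2 (Subgroup.le_normalizer (mem_map_modCent x hg))
  have h3 := h.le_centralizer' hHtop (hle (Subgroup.mem_centralizer_singleton_iff.2 rfl))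
    (hx.2.mono (le_inf hle le_rfl))
  intro n hn
  obtain ⟨g, rfl⟩ := QuotientGroup.mk'_surjective Z n
  exact mem_map_modCent x (h3 (Subgroup.mem_comap.2 hn))

theorem cent_image_not_comm (hperf : ∀ K : Subgroup (G ⧸ Z), K.Normal → Odd K.index → K = ⊤)
    (hgen : ∀ d : G ⧸ Z, d ≠ 1 → orderOf d ≠ 2 → ∀ a ∈ (CG(d) : Subgroup (G ⧸ Z)),
      ∀ b ∈ (CG(d) : Subgroup (G ⧸ Z)), a * b = b * a)
    {x : G} (hx : Special x)
    (hab : ∀ a ∈ (CG(π x) : Subgroup (G ⧸ Z)), ∀ b ∈ (CG(π x) : Subgroup (G ⧸ Z)), a * b = b * a) :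
    False := by
  classical
  have hN := h.normalizer_centralizer_le hx hab
  set C : Subgroup (G ⧸ Z) := CG(π x) with hC
  have hxC : π x ∈ C := Subgroup.mem_centralizer_singleton_iff.2 rfl
  by_cases hodd : ∃ p : ℕ, p.Prime ∧ p ≠ 2 ∧ p ∣ Nat.card C
  · obtain ⟨p, hp, hp2, hpC⟩ := hodd
    haveI := Fact.mk hp
    obtain ⟨Q⟩ : Nonempty (Sylow p C) := inferInstance
    haveI hQn : (Q : Subgroup C).Normal := ⟨fun q hq g => by
      have : g * q * g⁻¹ = q := Subtype.ext (by
        show (g : G ⧸ Z) * q * (g : G ⧸ Z)⁻¹ = q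
        rw [hab g g.2 q q.2, mul_inv_cancel_right])
      rwa [this]⟩
    obtain ⟨d, hd⟩ := exists_prime_orderOf_dvd_card' p hpC
    have hmemQ : ∀ y : C, (∃ k, orderOf y = p ^ k) → y ∈ (Q : Subgroup C) := fun y ⟨k, hk⟩ => by
      haveI : (Subgroup.zpowers y).Normal := ⟨fun q hq g => by
        have : g * q * g⁻¹ = q := Subtype.ext (by
          show (g : G ⧸ Z) * q * (g : G ⧸ Z)⁻¹ = q
          rw [hab g g.2 q q.2, mul_inv_cancel_right])
        rwa [this]⟩
      exact (IsPGroup.of_card (n := k) (by rw [Nat.card_zpowers, hk])).le_sylow_of_normal Q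
        (Subgroup.mem_zpowers y)
    set Q' : Subgroup (G ⧸ Z) := (Q : Subgroup C).map C.subtype with hQ'
    have hdQ : (d : G ⧸ Z) ∈ Q' := ⟨d, hmemQ d ⟨1, by rw [hd, pow_one]⟩, rfl⟩
    have hdo : orderOf (d : G ⧸ Z) = p := by rw [Subgroup.orderOf_coe, hd]
    have hCQ : Subgroup.centralizer (Q' : Set (G ⧸ Z)) ≤ C := fun y hy => by
      have hgd := hgen (d : G ⧸ Z) (fun e => by rw [e, orderOf_one] at hdo; exact hp.ne_one hdo.symm)
        (by rw [hdo]; exact hp2)
      refine Subgroup.mem_centralizer_singleton_iff.2 (hgd y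
        (Subgroup.mem_centralizer_singleton_iff.2 (Subgroup.mem_centralizer_iff.1 hy d hdQ).symm)
        (π x) (Subgroup.mem_centralizer_singleton_iff.2 (hab _ hxC _ d.2)))
    have hQC : ∀ q ∈ Q', ∀ y ∈ C, q * y = y * q := fun q hq y hy =>
      hab q (Subgroup.map_subtype_le _ hq) y hy
    have hNQ : Subgroup.normalizer (Q' : Set (G ⧸ Z)) ≤ C := by
      intro n hn
      have hiff : ∀ m ∈ Subgroup.normalizer (Q' : Set (G ⧸ Z)), ∀ c ∈ C, m * c * m⁻¹ ∈ C := by
        intro m hm c hc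
        refine hCQ (Subgroup.mem_centralizer_iff.2 fun q hq => ?_)
        have hq' : m⁻¹ * q * m ∈ Q' := (Subgroup.mem_normalizer_iff.1 hm _).2 (by
          rw [show m * (m⁻¹ * q * m) * m⁻¹ = q by group]; exact hq)
        calc q * (m * c * m⁻¹) = m * (m⁻¹ * q * m * c) * m⁻¹ := by group
          _ = m * (c * (m⁻¹ * q * m)) * m⁻¹ := by rw [hQC _ hq' c hc]
          _ = m * c * m⁻¹ * q := by group
      refine hN (Subgroup.mem_normalizer_iff.2 fun c => ⟨fun hc => hiff n hn c hc, fun hc => ?_⟩)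
      have h4 := hiff n⁻¹ (inv_mem hn) _ hc
      convert h4 using 1
      group
    obtain ⟨T, hT⟩ := (Q.isPGroup'.map C.subtype).exists_le_sylow
    have hTQ : (T : Subgroup (G ⧸ Z)) = Q' := by
      by_contra hne
      haveI : Group.IsNilpotent (T : Subgroup (G ⧸ Z)) := T.2.isNilpotent
      have hlt : Q'.subgroupOf T < ⊤ := lt_top_iff_ne_top.2 fun e =>
        hne (le_antisymm (Subgroup.subgroupOf_eq_top.1 e) hT)
      obtain ⟨w, hw, hwQ⟩ := SetLike.exists_of_lt (Group.normalizerCondition_of_isNilpotent _ hlt)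
      have hwN : (w : G ⧸ Z) ∈ Subgroup.normalizer (Q' : Set (G ⧸ Z)) :=
        Subgroup.mem_normalizer_iff.2 fun y =>
          ⟨fun hy => (Subgroup.mem_normalizer_iff.1 hw ⟨y, hT hy⟩).1 hy, fun hy =>
            (Subgroup.mem_normalizer_iff.1 hw ⟨y, by
              have := mul_mem (mul_mem (inv_mem w.2) (hT hy)) w.2
              simpa [mul_assoc] using this⟩).2 hy⟩
      have hwC := hNQ hwN
      obtain ⟨k, hk⟩ := IsPGroup.iff_orderOf.1 T.isPGroup' w
      exact hwQ ⟨⟨w, hwC⟩, hmemQ _ ⟨k, by rw [Subgroup.orderOf_mk, Subgroup.orderOf_coe, hk]⟩, rfl⟩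
    have hNC : Subgroup.normalizer ((T : Subgroup (G ⧸ Z)) : Set (G ⧸ Z)) ≤
        Subgroup.centralizer ((T : Subgroup (G ⧸ Z)) : Set (G ⧸ Z)) := by
      rw [hTQ]
      exact fun n hn => Subgroup.mem_centralizer_iff.2 fun q hq => hQC q hq n (hNQ hn)
    set φ := MonoidHom.transferSylow T hNC
    have hker : φ.ker = ⊤ := hperf _ inferInstance (by
      rw [Subgroup.index_ker]
      obtain ⟨k, hk⟩ := T.isPGroup'.exists_card_eq
      exact ((hp.odd_of_ne_two hp2).pow (n := k)).of_dvd_nat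
        (hk ▸ Subgroup.card_subgroup_dvd_card φ.range))
    refine MonoidHom.not_dvd_card_ker_transferSylow T hNC ?_
    change p ∣ Nat.card φ.ker
    rw [hker, Subgroup.card_top]
    exact hdo ▸ orderOf_dvd_natCard (d : G ⧸ Z)
  · haveI : Fact (Nat.Prime 2) := ⟨Nat.prime_two⟩
    push Not at hodd
    have hC2 : IsPGroup 2 C := by
      refine IsPGroup.of_card (n := (Nat.card C).primeFactorsList.length) ?_
      exact Nat.eq_prime_pow_of_unique_prime_dvd Nat.card_pos.ne' fun {q} hq hqd => by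
        by_contra hq2
        exact hodd q hq hq2 hqd
    obtain ⟨T, hT⟩ := hC2.exists_le_sylow
    have hTC : (T : Subgroup (G ⧸ Z)) = C := by
      by_contra hne
      haveI : Group.IsNilpotent (T : Subgroup (G ⧸ Z)) := T.2.isNilpotent
      have hlt : C.subgroupOf T < ⊤ := lt_top_iff_ne_top.2 fun e =>
        hne (le_antisymm (Subgroup.subgroupOf_eq_top.1 e) hT)
      obtain ⟨w, hw, hwQ⟩ := SetLike.exists_of_lt (Group.normalizerCondition_of_isNilpotent _ hlt)
      exact hwQ (hN (Subgroup.mem_normalizer_iff.2 fun y =>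
          ⟨fun hy => (Subgroup.mem_normalizer_iff.1 hw ⟨y, hT hy⟩).1 hy, fun hy =>
            (Subgroup.mem_normalizer_iff.1 hw ⟨y, by
              have := mul_mem (mul_mem (inv_mem w.2) (hT hy)) w.2
              simpa [mul_assoc] using this⟩).2 hy⟩))
    refine h.nonsolvable_quotient (FrobSystem.isSolvable_of_normalizer_le_centralizer T ?_)
    rw [hTC]
    exact fun n hn => Subgroup.mem_centralizer_iff.2 fun q hq => hab q hq n (hN hn)

/-- The Sylow 2-subgroups are abelian. -/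
theorem sylow_two_comm (hperf : ∀ K : Subgroup (G ⧸ Z), K.Normal → Odd K.index → K = ⊤)
    (hgen : ∀ d : G ⧸ Z, d ≠ 1 → orderOf d ≠ 2 → ∀ a ∈ (CG(d) : Subgroup (G ⧸ Z)),
      ∀ b ∈ (CG(d) : Subgroup (G ⧸ Z)), a * b = b * a)
    (S : Sylow 2 G) : ∀ a ∈ (S : Subgroup G), ∀ b ∈ (S : Subgroup G), a * b = b * a := by
  haveI : Fact (Nat.Prime 2) := ⟨Nat.prime_two⟩
  obtain ⟨x, hx⟩ := h.ex
  have h2 : orderOf (π x) = 2 := by
    by_contra hne
    exact h.cent_image_not_comm hperf hgen hx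
      (hgen (π x) (fun e => hx.1 ((QuotientGroup.eq_one_iff x).1 e)) hne)
  obtain ⟨e, m, hm, he⟩ := Nat.exists_eq_pow_mul_and_not_dvd (orderOf_pos x).ne' 2 (by norm_num)
  obtain ⟨j, hj⟩ : Odd m := Nat.not_even_iff_odd.1 fun h => hm h.two_dvd
  have hπ : π (x ^ m) = π x := by
    rw [map_pow, hj, pow_succ, pow_mul, show π x ^ 2 = 1 from h2 ▸ pow_orderOf_eq_one _, one_pow,
      one_mul]
  have htZ : x ^ m ∉ Z := fun hz => hx.1 ((QuotientGroup.eq_one_iff x).1
    (hπ.symm.trans ((QuotientGroup.eq_one_iff _).2 hz)))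
  have hts : Special (x ^ m) := ⟨htZ, hx.2.mono fun g hg => Subgroup.mem_centralizer_singleton_iff.2
    ((show Commute g x from Subgroup.mem_centralizer_singleton_iff.1 hg).pow_right m).eq⟩
  have ht2 : IsPGroup 2 (Subgroup.zpowers (x ^ m)) := by
    obtain ⟨k, -, hk⟩ := (Nat.dvd_prime_pow Nat.prime_two).1
      (orderOf_dvd_of_pow_eq_one (x := x ^ m) (n := 2 ^ e) (by
        rw [← pow_mul, mul_comm, ← he, pow_orderOf_eq_one]))
    exact IsPGroup.of_card (n := k) (by rw [Nat.card_zpowers, hk])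
  obtain ⟨T, hT⟩ := ht2.exists_le_sylow
  have htT : x ^ m ∈ (T : Subgroup G) := hT (Subgroup.mem_zpowers _)
  have hsq : π (x ^ m) * π (x ^ m) = 1 := by
    rw [hπ, ← pow_two]; exact h2 ▸ pow_orderOf_eq_one _
  have hl : Lift (x ^ m) := lift_of_mem T htT htZ (map_sq.1 hsq)
  have hTc : ∀ a ∈ (T : Subgroup G), ∀ b ∈ (T : Subgroup G), a * b = b * a := by
    by_cases hna : ∃ a ∈ (T : Subgroup G), ∃ b ∈ (T : Subgroup G), π a * π b ≠ π b * π a
    · obtain ⟨z, A, f⟩ := h.exists_frame T hna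
      exact (h.frame_special_central f htT hl hts).elim
    push Not at hna
    have hle : (T : Subgroup G) ≤ CG(x ^ m) := fun s hs => h.modCent_eq hl hts ▸
      Subgroup.mem_comap.2 (Subgroup.mem_centralizer_singleton_iff.2 (hna s hs _ htT))
    exact fun a ha b hb => comm_of_not_nonab (h.twoGroup_comm hl T.isPGroup' hle) ha hb
  intro a ha b hb
  obtain ⟨g, rfl⟩ := MulAction.exists_smul_eq G T S
  obtain ⟨a', ha', rfl⟩ := ha
  obtain ⟨b', hb', rfl⟩ := hb
  show g * a' * g⁻¹ * (g * b' * g⁻¹) = g * b' * g⁻¹ * (g * a' * g⁻¹)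
  rw [show g * a' * g⁻¹ * (g * b' * g⁻¹) = g * (a' * b') * g⁻¹ by group, hTc a' ha' b' hb']
  group

end MNC

end CfsgLib.MinNonCA
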