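import Cfsg.Agent.Lib.MinNonCA.Basic
import Cfsg.Agent.Lib.Balance.CentralizerCore
import Cfsg.Agent.Lib.Subnormal.InvariantClassTwo
import Cfsg.Agent.S0116
import Cfsg.Agent.S0215

/-!
Minimal nonsolvable non-CA groups: the centralizers of the involutions modulo the centre.
-/

set_option autoImplicit false
open Cfsg

namespace CfsgLib.MinNonCA

variable {G : Type*} [Group G]

local notation "CG(" x ")" => Subgroup.centralizer ({x} : Set _)
local notation "Z" => Subgroup.center G
local notation "π" => QuotientGroup.mk' (Subgroup.center G)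

/-- A lift of an involution of `G / Z(G)` of 2-power order. -/
structure Lift (t : G) : Prop where
  ne : t ∉ Subgroup.center G
  sq : t * t ∈ Subgroup.center G
  two : ∃ k : ℕ, orderOf t = 2 ^ k

/-- The elements commuting with `t` modulo the centre. -/
def modCent (t : G) : Subgroup G :=
  (Subgroup.centralizer ({π t} : Set (G ⧸ Z))).comap (π)

theorem mem_modCent {t g : G} : g ∈ modCent t ↔ g * t * g⁻¹ * t⁻¹ ∈ Subgroup.center G := by
  rw [modCent, Subgroup.mem_comap, Subgroup.mem_centralizer_singleton_iff, ← map_mul, ← map_mul,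
    QuotientGroup.mk'_apply, QuotientGroup.mk'_apply, QuotientGroup.eq]
  constructor <;> intro h
  · have h2 := (Subgroup.center G).inv_mem h
    have h3 := (inferInstance : (Subgroup.center G).Normal).conj_mem _ h2 (t * g)
    have : g * t * g⁻¹ * t⁻¹ = (t * g) * ((g * t)⁻¹ * (t * g))⁻¹ * (t * g)⁻¹ := by group
    rw [this]; exact h3
  · have h2 := (inferInstance : (Subgroup.center G).Normal).conj_mem _ h (t * g)⁻¹
    have h3 := (Subgroup.center G).inv_mem h2
    have : (g * t)⁻¹ * (t * g) = ((t * g)⁻¹ * (g * t * g⁻¹ * t⁻¹) * (t * g)⁻¹⁻¹)⁻¹ := by group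
    rw [this]; exact h3

theorem centralizer_le_modCent (t : G) : CG(t) ≤ modCent t := fun g hg => mem_modCent.2 (by
  rw [Subgroup.mem_centralizer_singleton_iff.1 hg]
  simp)

theorem self_mem_modCent (t : G) : t ∈ modCent t :=
  centralizer_le_modCent t (Subgroup.mem_centralizer_singleton_iff.2 rfl)

theorem Lift.sq_mem_centralizer {t : G} (ht : Lift t) {g : G} (hg : g ∈ modCent t) :
    g * g ∈ CG(t) := by
  have hz := mem_modCent.1 hg
  set z := g * t * g⁻¹ * t⁻¹ with hzdef
  have hzc := Subgroup.mem_center_iff.1 hz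
  have h1 : g * t * g⁻¹ = z * t := by rw [hzdef]; group
  have h2 : z * z = 1 := by
    have h3 : g * (t * t) * g⁻¹ = t * t := by
      rw [Subgroup.mem_center_iff.1 ht.sq g, mul_inv_cancel_right]
    have h4 : g * (t * t) * g⁻¹ = z * z * (t * t) := by
      calc g * (t * t) * g⁻¹ = (g * t * g⁻¹) * (g * t * g⁻¹) := by group
        _ = (z * t) * (z * t) := by rw [h1]
        _ = z * (t * z) * t := by group
        _ = z * (z * t) * t := by rw [hzc t]
        _ = z * z * (t * t) := by group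
    exact mul_eq_right.1 (h4.symm.trans h3)
  refine Subgroup.mem_centralizer_singleton_iff.2 ?_
  have h5 : g * g * t * (g * g)⁻¹ = t := by
    calc g * g * t * (g * g)⁻¹ = g * (g * t * g⁻¹) * g⁻¹ := by group
      _ = g * (z * t) * g⁻¹ := by rw [h1]
      _ = g * z * (t * g⁻¹) := by group
      _ = z * g * (t * g⁻¹) := by rw [hzc g]
      _ = z * (g * t * g⁻¹) := by group
      _ = z * (z * t) := by rw [h1]
      _ = t := by rw [← mul_assoc, h2, one_mul]
  calc g * g * t = g * g * t * (g * g)⁻¹ * (g * g) := by group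
    _ = t * (g * g) := by rw [h5]

variable [Finite G]

theorem eq_one_of_center {ρ : G ⧸ Z} {g : G} (hg : π g = ρ) (hz : g ∈ Z) : ρ = 1 :=
  hg ▸ (QuotientGroup.eq_one_iff g).2 hz

theorem exists_lift {ρ : G ⧸ Z} (hρ : orderOf ρ = 2) : ∃ t : G, π t = ρ ∧ Lift t := by
  haveI : Fact (Nat.Prime 2) := ⟨Nat.prime_two⟩
  obtain ⟨g, rfl⟩ := QuotientGroup.mk'_surjective Z ρ
  obtain ⟨e, m, hm, he⟩ := Nat.exists_eq_pow_mul_and_not_dvd (orderOf_pos g).ne' 2 (by norm_num)
  have hodd : Odd m := Nat.not_even_iff_odd.1 fun h => hm h.two_dvd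
  have himg : π (g ^ m) = π g := by
    obtain ⟨j, rfl⟩ := hodd
    rw [map_pow, pow_succ, pow_mul, show π g ^ 2 = 1 from hρ ▸ pow_orderOf_eq_one _, one_pow, one_mul]
  refine ⟨g ^ m, himg, fun hz => ?_, ?_, ?_⟩
  · have h1 := eq_one_of_center himg hz
    rw [h1, orderOf_one] at hρ
    exact absurd hρ (by norm_num)
  · refine (QuotientGroup.eq_one_iff _).1 ?_
    show π (g ^ m * g ^ m) = 1
    rw [map_mul, himg, ← pow_two, ← hρ, pow_orderOf_eq_one]
  · obtain ⟨k, -, hk⟩ := (Nat.dvd_prime_pow Nat.prime_two).1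
      (orderOf_dvd_of_pow_eq_one (x := g ^ m) (n := 2 ^ e) (by
        rw [← pow_mul, mul_comm, ← he, pow_orderOf_eq_one]))
    exact ⟨k, hk⟩

theorem Nonab.map_conj {H : Subgroup G} (hH : Nonab H) (g : G) :
    Nonab (H.map (MulAut.conj g).toMonoidHom) := by
  obtain ⟨a, ha, b, hb, hab⟩ := hH
  refine ⟨_, ⟨a, ha, rfl⟩, _, ⟨b, hb, rfl⟩, fun e => hab ?_⟩
  rw [← map_mul, ← map_mul] at e
  exact (MulAut.conj g).injective e

/-- Inside a subgroup, a 2-subgroup which is its own normalizer's only 2-overgroup is Sylow. -/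
theorem exists_normalized_lt {M U : Subgroup G} (hU : IsPGroup 2 U) (hUM : U ≤ M)
    (hnot : ∀ T : Sylow 2 M, U ≠ (T : Subgroup M).map M.subtype) :
    ∃ W : Subgroup G, IsPGroup 2 W ∧ U < W ∧ W ≤ M ∧ W ≤ Subgroup.normalizer (U : Set G) := by
  haveI : Fact (Nat.Prime 2) := ⟨Nat.prime_two⟩
  obtain ⟨T, hT⟩ := IsPGroup.exists_le_sylow (hU.comap_subtype (K := M))
  set T' := (T : Subgroup M).map M.subtype with hT'
  have hUT : U ≤ T' := fun u hu => ⟨⟨u, hUM hu⟩, hT hu, rfl⟩
  haveI : Group.IsNilpotent T' := (T.2.map M.subtype).isNilpotent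
  have hlt : U.subgroupOf T' < ⊤ := lt_top_iff_ne_top.2 fun e =>
    hnot T (le_antisymm hUT (Subgroup.subgroupOf_eq_top.1 e))
  obtain ⟨w, hw, hwU⟩ := SetLike.exists_of_lt (Group.normalizerCondition_of_isNilpotent _ hlt)
  refine ⟨T' ⊓ Subgroup.normalizer (U : Set G), (T.2.map M.subtype).to_le inf_le_left,
    lt_of_le_of_ne (le_inf hUT Subgroup.le_normalizer) ?_, inf_le_left.trans
      (Subgroup.map_subtype_le _), inf_le_right⟩
  intro e
  refine hwU ?_
  show (w : G) ∈ U
  rw [e]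
  refine ⟨w.2, Subgroup.mem_normalizer_iff.2 fun y => ⟨fun hy => ?_, fun hy => ?_⟩⟩
  · exact (Subgroup.mem_normalizer_iff.1 hw ⟨y, hUT hy⟩).1 hy
  · have hyT : y ∈ T' := by
      have := mul_mem (mul_mem (inv_mem w.2) (hUT hy)) w.2
      simpa [mul_assoc] using this
    exact (Subgroup.mem_normalizer_iff.1 hw ⟨y, hyT⟩).2 hy

namespace MNC

variable (h : MNC G)
include h

theorem center_quotient : Subgroup.center (G ⧸ Z) = ⊥ := by
  have hK : (Subgroup.center (G ⧸ Z)).comap (π) ≤ Z := by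
    refine h.solvable_normal_le_center _ ?_
    haveI : Group.IsSolvable (Subgroup.center (G ⧸ Z)) :=
      Group.isSolvable_of_comm fun a b => Subtype.ext (Subgroup.mem_center_iff.1 b.2 a)
    haveI : Group.IsSolvable Z :=
      Group.isSolvable_of_comm fun a b => Subtype.ext (Subgroup.mem_center_iff.1 b.2 a)
    exact solvable_of_ker_le_range (Subgroup.inclusion (fun a ha => by
      show π a ∈ Subgroup.center (G ⧸ Z)
      rw [show π a = 1 from (QuotientGroup.eq_one_iff a).2 ha]
      exact one_mem _ : Z ≤ (Subgroup.center (G ⧸ Z)).comap (π)))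
      ((π).subgroupComap _) fun a ha => ⟨⟨a, (QuotientGroup.eq_one_iff _).1
        (congrArg Subtype.val ha)⟩, Subtype.ext rfl⟩
  rw [Subgroup.eq_bot_iff_forall]
  intro x hx
  obtain ⟨g, rfl⟩ := QuotientGroup.mk'_surjective Z x
  exact (QuotientGroup.eq_one_iff g).2 (hK hx)

theorem radFree : Derangements.CyclicTimesZ.RadFree (G ⧸ Z) := by
  haveI : Group.IsSolvable Z :=
    Group.isSolvable_of_comm fun a b => Subtype.ext (Subgroup.mem_center_iff.1 b.2 a)
  exact Derangements.CyclicTimesZ.radFree_quotient Z fun N hN hs =>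
    (by haveI := hN; exact h.solvable_normal_le_center N hs)

theorem oddCore_quotient : Cfsg.oddCore (G ⧸ Z) = ⊥ :=
  h.radFree _ inferInstance (Cfsg.Agent.S0205.result CfsgLib.Cores.odd_card_oddCore)

theorem modCent_ne_top {t : G} (ht : Lift t) : modCent t ≠ ⊤ := fun e => ht.ne (by
  have hc : π t ∈ Subgroup.center (G ⧸ Z) := Subgroup.mem_center_iff.2 fun x => by
    obtain ⟨g, rfl⟩ := QuotientGroup.mk'_surjective Z x
    exact Subgroup.mem_centralizer_singleton_iff.1
      (Subgroup.mem_comap.1 (show g ∈ modCent t from e ▸ Subgroup.mem_top g))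
  rw [h.center_quotient, Subgroup.mem_bot] at hc
  exact (QuotientGroup.eq_one_iff t).1 hc)

theorem modCent_eq {t : G} (ht : Lift t) (hs : Special t) : modCent t = CG(t) :=
  le_antisymm (h.le_centralizer' (h.modCent_ne_top ht) (self_mem_modCent t)
    (hs.2.mono (le_inf (centralizer_le_modCent t) le_rfl))) (centralizer_le_modCent t)

/-- If the Sylow normalizers of `C(t)` are nonabelian, `C(t)` contains the normalizers of its
2-subgroups containing `t`. -/
theorem normalizer_le {t : G} (ht : Lift t) (hs : Special t)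
    (hN : ∀ T : Sylow 2 (CG(t) : Subgroup G),
      Nonab ((CG(t) : Subgroup G) ⊓ Subgroup.normalizer
        (((T : Subgroup _).map (CG(t) : Subgroup G).subtype) : Set G))) :
    ∀ U : Subgroup G, IsPGroup 2 U → t ∈ U → U ≤ CG(t) →
      Subgroup.normalizer (U : Set G) ≤ CG(t) := by
  haveI : Fact (Nat.Prime 2) := ⟨Nat.prime_two⟩
  suffices ∀ n : ℕ, ∀ U : Subgroup G, IsPGroup 2 U → t ∈ U → U ≤ CG(t) →
      Nat.card (CG(t) : Subgroup G) < n + Nat.card U → Subgroup.normalizer (U : Set G) ≤ CG(t) by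
    exact fun U h1 h2 h3 => this (Nat.card (CG(t) : Subgroup G)) U h1 h2 h3
      (Nat.lt_add_of_pos_right Nat.card_pos)
  intro n
  induction n with
  | zero =>
    intro U _ _ hU hlt
    exact absurd (Subgroup.card_le_of_le hU) (by omega)
  | succ n ih =>
    intro U hU2 htU hUM hlt
    set X := Subgroup.normalizer (U : Set G) with hX
    have hXtop : X ≠ ⊤ := fun e => ht.ne (by
      haveI : U.Normal := Subgroup.normalizer_eq_top_iff.1 e
      haveI : Group.IsNilpotent U := hU2.isNilpotent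
      exact h.solvable_normal_le_center U inferInstance htU)
    have htX : t ∈ X := Subgroup.le_normalizer htU
    by_cases hT : ∃ T : Sylow 2 (CG(t) : Subgroup G),
        U = (T : Subgroup (CG(t) : Subgroup G)).map (CG(t) : Subgroup G).subtype
    · obtain ⟨T, rfl⟩ := hT
      exact h.le_centralizer' hXtop htX ((hN T).mono (le_inf inf_le_right inf_le_left))
    push Not at hT
    obtain ⟨W₀, hW₀, hUW₀, hW₀M, hW₀X⟩ := exists_normalized_lt hU2 hUM hT
    obtain ⟨T, hT'⟩ := IsPGroup.exists_le_sylow (hW₀.comap_subtype (K := CG(t) ⊓ X))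
    set W := (T : Subgroup (CG(t) ⊓ X : Subgroup G)).map (Subgroup.subtype _) with hWdef
    have hW2 : IsPGroup 2 W := T.2.map _
    have hW₀W : W₀ ≤ W := fun w hw => ⟨⟨w, hW₀M hw, hW₀X hw⟩, hT' hw, rfl⟩
    have hWMX : W ≤ CG(t) ⊓ X := Subgroup.map_subtype_le _
    by_cases hWn : Nonab W
    · exact h.le_centralizer' hXtop htX (hWn.mono (hWMX.trans (le_inf inf_le_right inf_le_left)))
    have hUW : U < W := lt_of_lt_of_le hUW₀ hW₀W
    have hcard : Nat.card U < Nat.card W := lt_of_le_of_ne (Subgroup.card_le_of_le hUW.le)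
      fun e => hUW.ne (Subgroup.eq_of_le_of_card_ge hUW.le e.ge)
    have hNW := ih W hW2 (hUW.le htU) (hWMX.trans inf_le_left) (by omega)
    -- `W` is a Sylow 2-subgroup of `X`
    have hWX : W ≤ X := hWMX.trans inf_le_right
    have hsyl : ∀ T' : Subgroup G, IsPGroup 2 T' → W ≤ T' → T' ≤ X → T' = W := by
      intro T' hT2 hle hTX
      by_contra hne
      haveI : Group.IsNilpotent T' := hT2.isNilpotent
      have hlt' : W.subgroupOf T' < ⊤ := lt_top_iff_ne_top.2 fun e =>
        hne (le_antisymm (Subgroup.subgroupOf_eq_top.1 e) hle)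
      obtain ⟨w, hw, hwW⟩ := SetLike.exists_of_lt (Group.normalizerCondition_of_isNilpotent _ hlt')
      have hwN : (w : G) ∈ Subgroup.normalizer (W : Set G) := Subgroup.mem_normalizer_iff.2 fun y =>
        ⟨fun hy => (Subgroup.mem_normalizer_iff.1 hw ⟨y, hle hy⟩).1 hy, fun hy =>
          (Subgroup.mem_normalizer_iff.1 hw ⟨y, by
            have := mul_mem (mul_mem (inv_mem w.2) (hle hy)) w.2
            simpa [mul_assoc] using this⟩).2 hy⟩
      obtain ⟨T'', hT''⟩ := IsPGroup.exists_le_sylow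
        ((hT2.to_le (Subgroup.zpowers_le.2 w.2 |> fun hz => sup_le hle hz :
          W ⊔ Subgroup.zpowers (w : G) ≤ T')).comap_subtype (K := CG(t) ⊓ X))
      have hle'' : T ≤ T'' := by
        intro a ha
        exact hT'' (show ((a : (CG(t) ⊓ X : Subgroup G)) : G) ∈ W ⊔ Subgroup.zpowers (w : G) from
          le_sup_left (a := W) ⟨a, ha, rfl⟩)
      have hwT : (⟨(w : G), hNW hwN, hTX w.2⟩ : (CG(t) ⊓ X : Subgroup G)) ∈ T :=
        (T.3 T''.2 hle'').le (hT'' (show (w : G) ∈ W ⊔ Subgroup.zpowers (w : G) from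
          le_sup_right (a := W) (Subgroup.mem_zpowers _)))
      exact hwW ⟨_, hwT, rfl⟩
    intro x hx
    refine Subgroup.mem_centralizer_singleton_iff.2 ?_
    set t' := x * t * x⁻¹ with ht'
    have htU' : t' ∈ U := (Subgroup.mem_normalizer_iff.1 hx t).1 htU
    set Y := X ⊓ CG(t') with hY
    have hWY : W ≤ Y := le_inf hWX fun a ha => Subgroup.mem_centralizer_singleton_iff.2
      (comm_of_not_nonab hWn ha (hUW.le htU'))
    set W' := W.map (MulAut.conj x).toMonoidHom with hW'
    have hW'Y : W' ≤ Y := by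
      rintro _ ⟨a, ha, rfl⟩
      refine ⟨X.mul_mem (X.mul_mem hx (hWX ha)) (X.inv_mem hx), ?_⟩
      refine Subgroup.mem_centralizer_singleton_iff.2 ?_
      show x * a * x⁻¹ * t' = t' * (x * a * x⁻¹)
      have := comm_of_not_nonab hWn ha (hUW.le htU)
      calc x * a * x⁻¹ * t' = x * (a * t) * x⁻¹ := by rw [ht']; group
        _ = x * (t * a) * x⁻¹ := by rw [this]
        _ = t' * (x * a * x⁻¹) := by rw [ht']; group
    obtain ⟨T₁, hT₁⟩ := IsPGroup.exists_le_sylow (hW2.comap_subtype (K := Y))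
    obtain ⟨T₂, hT₂⟩ := IsPGroup.exists_le_sylow ((hW2.map (MulAut.conj x).toMonoidHom).comap_subtype (K := Y))
    have e1 : (T₁ : Subgroup Y).map Y.subtype = W :=
      hsyl _ (T₁.2.map _) (fun a ha => ⟨⟨a, hWY ha⟩, hT₁ ha, rfl⟩)
        ((Subgroup.map_subtype_le _).trans inf_le_left)
    obtain ⟨c, hc⟩ := MulAction.exists_smul_eq Y T₂ T₁
    have hn : (c : G) * x ∈ Subgroup.normalizer (W : Set G) := by
      have hmap : W.map (MulAut.conj ((c : G) * x)).toMonoidHom ≤ W := by
        rintro _ ⟨a, ha, rfl⟩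
        have ha2 : (⟨x * a * x⁻¹, hW'Y ⟨a, ha, rfl⟩⟩ : Y) ∈ (T₂ : Subgroup Y) :=
          hT₂ ⟨a, ha, rfl⟩
        have : (c * ⟨x * a * x⁻¹, hW'Y ⟨a, ha, rfl⟩⟩ * c⁻¹ : Y) ∈ (T₁ : Subgroup Y) := by
          rw [← hc]
          exact ⟨_, ha2, rfl⟩
        rw [← e1]
        refine ⟨_, this, ?_⟩
        show (c : G) * (x * a * x⁻¹) * (c : G)⁻¹ = (c : G) * x * a * ((c : G) * x)⁻¹
        group
      have heq := Subgroup.eq_of_le_of_card_ge hmap
        (Subgroup.card_map_of_injective (MulAut.conj ((c : G) * x)).injective).ge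
      refine Subgroup.mem_normalizer_iff.2 fun a => ⟨fun ha => heq ▸ ⟨a, ha, rfl⟩, fun ha => ?_⟩
      rw [← heq] at ha
      obtain ⟨b, hb, hbe⟩ := ha
      exact (MulAut.conj ((c : G) * x)).injective hbe ▸ hb
    have hcx := Subgroup.mem_centralizer_singleton_iff.1 (hNW hn)
    have hct := Subgroup.mem_centralizer_singleton_iff.1 c.2.2
    have : (c : G) * t' = (c : G) * t := by
      calc (c : G) * t' = ((c : G) * x * t) * x⁻¹ := by rw [ht']; group
        _ = t * ((c : G) * x) * x⁻¹ := by rw [hcx]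
        _ = t * c := by group
        _ = (c : G) * t := by
          have ht'' : t' = t := by
            have h1 : (c : G) * t' * (c : G)⁻¹ = t' := by rw [hct, mul_inv_cancel_right]
            have h2 : (c : G) * t' * (c : G)⁻¹ = t := by
              calc (c : G) * t' * (c : G)⁻¹ = ((c : G) * x * t) * ((c : G) * x)⁻¹ := by rw [ht']; group
                _ = t := by rw [hcx, mul_inv_cancel_right]
            exact h1.symm.trans h2
          rw [ht''] at hct
          exact hct.symm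
    have h3 := mul_left_cancel this
    rw [ht'] at h3
    exact mul_inv_eq_iff_eq_mul.1 h3

/-- The Sylow normalizers of `C(t)` are abelian. -/
theorem not_nonab_sylow_normalizer {t : G} (ht : Lift t) (hs : Special t)
    (T : Sylow 2 (CG(t) : Subgroup G)) :
    ¬ Nonab ((CG(t) : Subgroup G) ⊓ Subgroup.normalizer
      (((T : Subgroup _).map (CG(t) : Subgroup G).subtype) : Set G)) := by
  haveI : Fact (Nat.Prime 2) := ⟨Nat.prime_two⟩
  revert T
  set M : Subgroup G := CG(t) with hM
  intro T hT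
  have hN : ∀ T' : Sylow 2 M, Nonab (M ⊓ Subgroup.normalizer
      (((T' : Subgroup M).map M.subtype) : Set G)) := by
    intro T'
    obtain ⟨m, rfl⟩ := MulAction.exists_smul_eq M T T'
    refine (hT.map_conj (m : G)).mono ?_
    rintro _ ⟨a, ⟨haM, haN⟩, rfl⟩
    refine ⟨M.mul_mem (M.mul_mem m.2 haM) (M.inv_mem m.2), Subgroup.mem_normalizer_iff.2 fun y => ?_⟩
    have key : ∀ y : G, y ∈ ((m • T : Sylow 2 M) : Subgroup M).map M.subtype ↔
        (m : G)⁻¹ * y * m ∈ (T : Subgroup M).map M.subtype := by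
      intro y
      constructor
      · rintro ⟨_, ⟨b, hb, rfl⟩, rfl⟩
        exact ⟨b, hb, by simp [MulAut.conj_apply, mul_assoc]⟩
      · rintro ⟨b, hb, hbe⟩
        refine ⟨_, ⟨b, hb, rfl⟩, ?_⟩
        have : (b : G) = (m : G)⁻¹ * y * m := hbe
        simp [MulAut.conj_apply, this, mul_assoc]
    rw [key, key]
    convert Subgroup.mem_normalizer_iff.1 haN ((m : G)⁻¹ * y * m) using 2
    simp only [MulEquiv.coe_toMonoidHom, MulAut.conj_apply]
    group
  set T' : Subgroup G := (T : Subgroup M).map M.subtype with hT'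
  have hTM : T' ≤ M := Subgroup.map_subtype_le _
  have h2 : IsPGroup 2 T' := T.2.map _
  -- 2-elements of the centre lie in every Sylow 2-subgroup
  have hcen : ∀ z ∈ Subgroup.center G, ∀ k : ℕ, z ^ 2 ^ k = 1 → z ∈ T' := by
    intro z hz k hk
    have hzM : z ∈ M := Subgroup.mem_centralizer_singleton_iff.2 (Subgroup.mem_center_iff.1 hz t).symm
    set A : Subgroup M := Subgroup.zpowers ⟨z, hzM⟩ with hA
    have hA2 : IsPGroup 2 A := by
      refine IsPGroup.of_card (n := Nat.log 2 (Nat.card A)) ?_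
      obtain ⟨j, -, hj⟩ := (Nat.dvd_prime_pow Nat.prime_two).1 (orderOf_dvd_of_pow_eq_one
        (x := (⟨z, hzM⟩ : M)) (n := 2 ^ k) (Subtype.ext (by simpa using hk)))
      rw [hA, Nat.card_zpowers, hj, Nat.log_pow (by norm_num)]
    haveI : A.Normal := ⟨fun a ha g => by
      obtain ⟨n, rfl⟩ := ha
      have : Commute g (⟨z, hzM⟩ : M) := Subtype.ext (Subgroup.mem_center_iff.1 hz g)
      show g * _ ^ n * g⁻¹ ∈ A
      rw [(this.zpow_right n).eq, mul_inv_cancel_right]
      exact Subgroup.zpow_mem_zpowers _ n⟩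
    exact ⟨⟨z, hzM⟩, hA2.le_sylow_of_normal T (Subgroup.mem_zpowers _), rfl⟩
  have htT : t ∈ T' := by
    obtain ⟨k, hk⟩ := ht.two
    have htM : t ∈ M := Subgroup.mem_centralizer_singleton_iff.2 rfl
    set A : Subgroup M := Subgroup.zpowers ⟨t, htM⟩ with hA
    have hA2 : IsPGroup 2 A := IsPGroup.of_card (n := k) (by
      rw [hA, Nat.card_zpowers, Subgroup.orderOf_mk, hk])
    haveI : A.Normal := ⟨fun a ha g => by
      obtain ⟨n, rfl⟩ := ha
      have : Commute g (⟨t, htM⟩ : M) := Subtype.ext (Subgroup.mem_centralizer_singleton_iff.1 g.2)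
      show g * _ ^ n * g⁻¹ ∈ A
      rw [(this.zpow_right n).eq, mul_inv_cancel_right]
      exact Subgroup.zpow_mem_zpowers _ n⟩
    exact ⟨⟨t, htM⟩, hA2.le_sylow_of_normal T (Subgroup.mem_zpowers _), rfl⟩
  have hnorm := h.normalizer_le ht hs hN
  -- `T'` is Sylow in `G`
  obtain ⟨P, hP⟩ := h2.exists_le_sylow
  have hPT : (P : Subgroup G) = T' := by
    by_contra hne
    haveI : Group.IsNilpotent (P : Subgroup G) := P.2.isNilpotent
    have hlt' : T'.subgroupOf P < ⊤ := lt_top_iff_ne_top.2 fun e =>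
      hne (le_antisymm (Subgroup.subgroupOf_eq_top.1 e) hP)
    obtain ⟨w, hw, hwW⟩ := SetLike.exists_of_lt (Group.normalizerCondition_of_isNilpotent _ hlt')
    have hwN : (w : G) ∈ Subgroup.normalizer (T' : Set G) := Subgroup.mem_normalizer_iff.2 fun y =>
      ⟨fun hy => (Subgroup.mem_normalizer_iff.1 hw ⟨y, hP hy⟩).1 hy, fun hy =>
        (Subgroup.mem_normalizer_iff.1 hw ⟨y, by
          have := mul_mem (mul_mem (inv_mem w.2) (hP hy)) w.2
          simpa [mul_assoc] using this⟩).2 hy⟩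
    have hwM : (w : G) ∈ M := hnorm T' h2 htT hTM hwN
    have hle : (T : Subgroup M) ≤ (P : Subgroup G).subgroupOf M := fun a ha => hP ⟨a, ha, rfl⟩
    exact hwW ⟨⟨w, hwM⟩, (T.3 P.2.comap_subtype hle) ▸ w.2, rfl⟩
  have hiso : ∀ g : G, g⁻¹ * t * g ∈ T' → g⁻¹ * t * g = t := by
    intro g hg
    obtain ⟨n, Q, x, hprod, hx, h0, hstep⟩ := Cfsg.Agent.S0116.result (p := 2) P {t} g
      (Set.singleton_subset_iff.2 (hPT.ge htT)) (by rintro _ ⟨_, rfl, rfl⟩; exact hPT.ge hg)
    have key : ∀ k ≤ n, ((List.ofFn x).take k).prod ∈ M := by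
      intro k hk
      induction k with
      | zero => simp
      | succ k ih =>
        have hmem := ih (by omega)
        rw [List.prod_take_succ _ _ (by simp; omega), List.getElem_ofFn]
        refine mul_mem hmem ?_
        set D := (P : Subgroup G) ⊓ (Q ⟨k, by omega⟩ : Subgroup G) with hD
        have htD : t ∈ D := by
          rcases k with _ | j
          · exact h0 (by omega) rfl
          · refine hstep ⟨j, by omega⟩ (by simp; omega) ⟨t, rfl, ?_⟩
            show ((List.ofFn x).take (j + 1)).prod⁻¹ * t * ((List.ofFn x).take (j + 1)).prod = t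
            rw [mul_assoc, ← Subgroup.mem_centralizer_singleton_iff.1 hmem, inv_mul_cancel_left]
        exact hnorm D (P.2.to_le inf_le_left) htD (inf_le_left.trans (hPT.le.trans hTM))
          (hx ⟨k, by omega⟩).1
    have hgM : g ∈ M := by
      rw [← hprod]
      have h1 := key n le_rfl
      rwa [List.take_of_length_le (by simp)] at h1
    rw [mul_assoc, ← Subgroup.mem_centralizer_singleton_iff.1 hgM, inv_mul_cancel_left]
  -- isolation modulo the centre
  set Pb : Sylow 2 (G ⧸ Z) := P.mapSurjective (QuotientGroup.mk'_surjective Z) with hPb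
  have hne1 : π t ≠ 1 := fun e => ht.ne ((QuotientGroup.eq_one_iff t).1 e)
  have hord : orderOf (π t) = 2 := orderOf_eq_prime (by
    rw [pow_two, ← map_mul]
    exact (QuotientGroup.eq_one_iff _).2 ht.sq) hne1
  obtain ⟨N, hNn, hNodd, hNc⟩ := Cfsg.Agent.S0215.result Pb (π t) hord
    ⟨t, hPT ▸ htT, rfl⟩ (fun a ha => by
      obtain ⟨g, rfl⟩ := QuotientGroup.mk'_surjective Z a
      obtain ⟨τ, hτ, hτe⟩ := ha
      set t' := g * t * g⁻¹ with ht'
      have hz : τ⁻¹ * t' ∈ Subgroup.center G := by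
        refine (QuotientGroup.eq_one_iff _).1 ?_
        show π (τ⁻¹ * t') = 1
        rw [map_mul, map_inv, hτe, ht', map_mul, map_mul, map_inv]
        group
      have hτT : τ ∈ T' := hPT ▸ hτ
      obtain ⟨k₁, hk₁⟩ := (IsPGroup.iff_orderOf.1 h2) ⟨τ, hτT⟩
      rw [Subgroup.orderOf_mk] at hk₁
      obtain ⟨k₂, hk₂⟩ := ht.two
      have hpow : (τ⁻¹ * t') ^ 2 ^ (k₁ + k₂) = 1 := by
        have e1 : τ * (τ⁻¹ * t') = t' := by group
        have hcomm : Commute τ (τ⁻¹ * t') := Subgroup.mem_center_iff.1 hz τ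
        have e2 : t' ^ 2 ^ (k₁ + k₂) = 1 := by
          rw [ht', ← MulAut.conj_apply, ← map_pow, pow_add, mul_comm, pow_mul, ← hk₂,
            pow_orderOf_eq_one, one_pow, map_one]
        have e3 : τ ^ 2 ^ (k₁ + k₂) = 1 := by
          rw [pow_add, pow_mul, ← hk₁, pow_orderOf_eq_one, one_pow]
        rw [← e1, hcomm.mul_pow, e3, one_mul] at e2
        exact e2
      have ht'T : t' ∈ T' := by
        have := mul_mem hτT (hcen _ hz _ hpow)
        rwa [mul_inv_cancel_left] at this
      have h3 := hiso g⁻¹ (by rwa [inv_inv])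
      rw [inv_inv] at h3
      rw [← map_inv, ← map_mul, ← map_mul, h3])
  have hN1 : N = ⊥ := h.radFree N hNn (Cfsg.Agent.S0205.result hNodd)
  have hc : π t ∈ Subgroup.center (G ⧸ Z) := Subgroup.mem_center_iff.2 fun a => by
    have h1 := hNc a
    rw [hN1, Subgroup.mem_bot] at h1
    calc a * π t = 1 * (a * π t) := (one_mul _).symm
      _ = π t * a * (π t)⁻¹ * a⁻¹ * (a * π t) := by rw [h1]
      _ = π t * a := by group
  rw [h.center_quotient, Subgroup.mem_bot] at hc
  exact hne1 hc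

theorem sylow_comm {t : G} (ht : Lift t) (hs : Special t) (T : Sylow 2 (CG(t) : Subgroup G)) :
    Subgroup.normalizer ((T : Subgroup (CG(t) : Subgroup G)) : Set (CG(t) : Subgroup G)) ≤
      Subgroup.centralizer ((T : Subgroup (CG(t) : Subgroup G)) : Set (CG(t) : Subgroup G)) := by
  intro g hg
  refine Subgroup.mem_centralizer_iff.2 fun s hs' => Subtype.ext ?_
  have hmap : ∀ a : (CG(t) : Subgroup G), a ∈ Subgroup.normalizer
      ((T : Subgroup (CG(t) : Subgroup G)) : Set (CG(t) : Subgroup G)) →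
      (a : G) ∈ (CG(t) : Subgroup G) ⊓ Subgroup.normalizer
        (((T : Subgroup _).map (CG(t) : Subgroup G).subtype) : Set G) := fun a ha =>
    ⟨a.2, Subgroup.le_normalizer_map _ ⟨a, ha, rfl⟩⟩
  exact comm_of_not_nonab (h.not_nonab_sylow_normalizer ht hs T)
    (hmap s (Subgroup.le_normalizer hs')) (hmap g hg)

/-- 2-subgroups of `C(t)` are abelian. -/
theorem twoGroup_comm {t : G} (ht : Lift t) {V : Subgroup G} (hV : IsPGroup 2 V)
    (hVt : V ≤ CG(t)) : ¬ Nonab V := by
  intro hn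
  haveI : Fact (Nat.Prime 2) := ⟨Nat.prime_two⟩
  have hs : Special t := ⟨ht.ne, hn.mono hVt⟩
  obtain ⟨T, hT⟩ := IsPGroup.exists_le_sylow (hV.comap_subtype (K := CG(t)))
  obtain ⟨a, ha, b, hb, hab⟩ := hn
  have h1 := Subgroup.mem_centralizer_iff.1 (h.sylow_comm ht hs T
    (Subgroup.le_normalizer (hT (show (⟨b, hVt hb⟩ : (CG(t) : Subgroup G)) ∈
      V.subgroupOf CG(t) from hb))))
      ⟨a, hVt ha⟩ (hT (show (⟨a, hVt ha⟩ : (CG(t) : Subgroup G)) ∈ V.subgroupOf CG(t) from ha))
  exact hab (congrArg Subtype.val h1)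

/-- `C(t) mod Z` has a normal 2-complement. -/
theorem exists_odd_core {t : G} (ht : Lift t) :
    ∃ K : Subgroup G, K ≤ CG(t) ∧ Odd (Nat.card K) ∧
      modCent t ≤ Subgroup.normalizer (K : Set G) ∧
      ∀ y ∈ modCent t, Odd (orderOf y) → y ∈ K := by
  haveI : Fact (Nat.Prime 2) := ⟨Nat.prime_two⟩
  set M : Subgroup G := CG(t) with hM
  have hodd : ∀ y ∈ modCent t, Odd (orderOf y) → y ∈ M := by
    intro y hy ho
    obtain ⟨j, hj⟩ := ho
    have h1 : (y * y) ^ (j + 1) = y := by
      rw [← pow_two, ← pow_mul, show 2 * (j + 1) = orderOf y + 1 by omega, pow_succ,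
        pow_orderOf_eq_one, one_mul]
    rw [← h1]
    exact pow_mem (ht.sq_mem_centralizer hy) _
  by_cases hab : Nonab M
  · have hs : Special t := ⟨ht.ne, hab⟩
    rw [h.modCent_eq ht hs]
    obtain ⟨T⟩ : Nonempty (Sylow 2 M) := inferInstance
    have hc : Cfsg.HasNormalPComplement 2 M :=
      ⟨T, _, inferInstance, MonoidHom.ker_transferSylow_isComplement' T (h.sylow_comm ht hs T)⟩
    refine ⟨(Cfsg.pPrimeCore 2 M).map M.subtype, Subgroup.map_subtype_le _, ?_, ?_, fun y hy ho => ?_⟩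
    · rw [Subgroup.card_map_of_injective M.subtype_injective]
      exact Nat.coprime_two_right.1 (CfsgLib.Cores.card_pPrimeCore_coprime 2)
    · intro a ha
      exact Subgroup.le_normalizer_map M.subtype
        ⟨⟨a, ha⟩, by rw [Subgroup.normalizer_eq_top]; exact Subgroup.mem_top _, rfl⟩
    · exact ⟨⟨y, hy⟩, NormalPComplement.mem_pPrimeCore_of_coprime hc (by
        rw [Subgroup.orderOf_mk]; exact Nat.coprime_two_right.2 ho), rfl⟩
  · let K : Subgroup G :=
      { carrier := {y | y ∈ M ∧ Odd (orderOf y)}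
        one_mem' := ⟨one_mem _, by simp⟩
        mul_mem' := fun {a b} ha hb => ⟨mul_mem ha.1 hb.1,
          ((ha.2.mul hb.2)).of_dvd_nat
            ((show Commute a b from comm_of_not_nonab hab ha.1 hb.1).orderOf_mul_dvd_mul_orderOf)⟩
        inv_mem' := fun {a} ha => ⟨inv_mem ha.1, by rw [orderOf_inv]; exact ha.2⟩ }
    refine ⟨K, fun y hy => hy.1, ?_, fun g hg => Subgroup.mem_normalizer_iff.2 fun y => ?_,
      fun y hy ho => ⟨hodd y hy ho, ho⟩⟩
    · refine Nat.not_even_iff_odd.1 fun he => ?_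
      obtain ⟨a, ha⟩ := exists_prime_orderOf_dvd_card' 2 he.two_dvd
      have h2 := a.2.2
      rw [Subgroup.orderOf_coe, ha] at h2
      exact absurd h2 (by decide)
    · have hordc : orderOf (g * y * g⁻¹) = orderOf y := by
        rw [← MulAut.conj_apply]; exact MulEquiv.orderOf_eq _ y
      constructor
      · intro hy
        exact ⟨hodd _ (mul_mem (mul_mem hg (centralizer_le_modCent t hy.1)) (inv_mem hg))
          (hordc ▸ hy.2), hordc ▸ hy.2⟩
      · intro hy
        refine ⟨hodd _ ?_ (hordc ▸ hy.2), hordc ▸ hy.2⟩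
        have h' := mul_mem (mul_mem (inv_mem hg) (centralizer_le_modCent t hy.1)) hg
        simpa [mul_assoc] using h'

theorem nilp {ρ : G ⧸ Z} (hρ : orderOf ρ = 2) {y : G ⧸ Z}
    (hy : y ∈ Subgroup.centralizer ({ρ} : Set (G ⧸ Z))) (ho : Odd (orderOf y)) :
    y ∈ Cfsg.centralizerPPrimeCore 2 ρ := by
  obtain ⟨t, rfl, ht⟩ := exists_lift hρ
  obtain ⟨K, hKM, hKodd, hKn, hKmem⟩ := h.exists_odd_core ht
  obtain ⟨w, rfl, hw⟩ := Subnormal.exists_odd_lift (QuotientGroup.mk'_surjective Z) ho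
  refine Balance.le_centralizerPPrimeCore (K := K.map (π)) ?_ ?_ ?_ ⟨w, hKmem w hy hw, rfl⟩
  · rintro _ ⟨a, ha, rfl⟩
    exact (centralizer_le_modCent t (hKM ha))
  · intro a ha
    obtain ⟨g, rfl⟩ := QuotientGroup.mk'_surjective Z a
    exact Subgroup.le_normalizer_map (π) ⟨g, hKn ha, rfl⟩
  · exact Nat.coprime_two_right.2 (hKodd.of_dvd_nat (Subgroup.card_map_dvd K (π)))

end MNC

end CfsgLib.MinNonCA
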