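import Cfsg.Agent.Lib.GW.AutLPSL

/-!
Centralizers in `PSL(2, q)` and `PGL(2, q)`; pure field automorphisms.
-/

set_option autoImplicit false
set_option linter.style.haveILetI false
open Matrix

namespace CfsgLib.MinNonCA

open CfsgLib.GW.PGLTwo CfsgLib.GW.AutL CfsgLib.GW.AutL.PSL CfsgLib.GW CfsgLib.ReflectionsSpinor.PSL

universe u

variable {F : Type u} [Field F]

local notation "M₂" => Matrix (Fin 2) (Fin 2) F

/-- The matrices commuting with a nonscalar `2 × 2` matrix commute with each other. -/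
theorem comm_of_nonscalar {M P Q : M₂} (hM : ∀ c : F, M ≠ c • (1 : M₂)) (hP : P * M = M * P)
    (hQ : Q * M = M * Q) : P * Q = Q * P := by
  have p00 := congrFun (congrFun hP 0) 0
  have p01 := congrFun (congrFun hP 0) 1
  have p10 := congrFun (congrFun hP 1) 0
  have q00 := congrFun (congrFun hQ 0) 0
  have q01 := congrFun (congrFun hQ 0) 1
  have q10 := congrFun (congrFun hQ 1) 0
  simp only [Matrix.mul_apply, Fin.sum_univ_two] at p00 p01 p10 q00 q01 q10
  have k1 : P 0 1 * Q 1 0 = Q 0 1 * P 1 0 ∧ P 0 1 * (Q 1 1 - Q 0 0) = Q 0 1 * (P 1 1 - P 0 0) ∧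
      P 1 0 * (Q 1 1 - Q 0 0) = Q 1 0 * (P 1 1 - P 0 0) := by
    by_cases hb : M 0 1 = 0
    · by_cases hc : M 1 0 = 0
      · have hd : M 0 0 - M 1 1 ≠ 0 := fun e => hM (M 0 0) (by
          ext i j
          fin_cases i <;> fin_cases j <;> simp [hb, hc]
          linear_combination -e)
        simp only [hb, hc, mul_zero, zero_mul, add_zero, zero_add] at p01 p10 q01 q10
        have hp1 : P 0 1 = 0 := mul_right_cancel₀ hd (by linear_combination -p01)
        have hp2 : P 1 0 = 0 := mul_right_cancel₀ hd (by linear_combination p10)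
        have hq1 : Q 0 1 = 0 := mul_right_cancel₀ hd (by linear_combination -q01)
        have hq2 : Q 1 0 = 0 := mul_right_cancel₀ hd (by linear_combination q10)
        simp [hp1, hp2, hq1, hq2]
      · simp only [hb, zero_mul, mul_zero] at p00 p01 q00 q01
        have hx : P 0 1 = 0 := mul_right_cancel₀ hc (by linear_combination p00)
        have hx' : Q 0 1 = 0 := mul_right_cancel₀ hc (by linear_combination q00)
        refine ⟨by simp [hx, hx'], by simp [hx, hx'], mul_right_cancel₀ hc ?_⟩
        linear_combination P 1 0 * q10 - Q 1 0 * p10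
    · refine ⟨mul_right_cancel₀ hb ?_, mul_right_cancel₀ hb ?_, mul_right_cancel₀ (mul_ne_zero hb hb) ?_⟩
      · linear_combination Q 0 1 * p00 - P 0 1 * q00
      · linear_combination Q 0 1 * p01 - P 0 1 * q01
      · linear_combination -(M 0 1 * (Q 1 1 - Q 0 0)) * p00 - P 0 1 * M 1 0 * q01 +
          M 0 1 * (P 1 1 - P 0 0) * q00 + Q 0 1 * M 1 0 * p01
  obtain ⟨k1, k2, k3⟩ := k1
  ext i j
  fin_cases i <;> fin_cases j <;> simp [Matrix.mul_apply, Fin.sum_univ_two] <;>
    first
    | linear_combination k1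
    | linear_combination -k1
    | linear_combination k2
    | linear_combination -k2
    | linear_combination k3
    | linear_combination -k3

local notation "GL₂" => GL (Fin 2) F
local notation "A" => toAutHom (n := 2) (F := F)
local notation "SL₂" => Matrix.SpecialLinearGroup (Fin 2) F
local notation "AutP" => MulAut (Matrix.ProjectiveSpecialLinearGroup (Fin 2) F)

theorem psl_centralizer_comm [Fintype F] (h2 : (2 : F) = 0)
    {x a b : Matrix.ProjectiveSpecialLinearGroup (Fin 2) F} (hx : x ≠ 1) (ha : a * x = x * a)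
    (hb : b * x = x * b) : a * b = b * a := by
  obtain ⟨s, rfl⟩ := cl_surjective x
  obtain ⟨t, rfl⟩ := cl_surjective a
  obtain ⟨u, rfl⟩ := cl_surjective b
  have key : ∀ {w : SL₂}, cl w * cl s = cl s * cl w → (w : M₂) * (s : M₂) = (s : M₂) * (w : M₂) := by
    intro w hw
    rw [← cl_mul, ← cl_mul, cl_eq_cl_iff] at hw
    obtain ⟨c, hc⟩ := hw
    have hd := congrArg Matrix.det hc
    rw [Matrix.SpecialLinearGroup.det_coe, Matrix.det_smul, Matrix.SpecialLinearGroup.det_coe,
      Fintype.card_fin, mul_one] at hd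
    have hc1 : c = 1 := by
      have : (c - 1) ^ 2 = 0 := by linear_combination -hd + (1 - c) * h2
      exact sub_eq_zero.1 (sq_eq_zero_iff.1 this)
    rw [hc1, one_smul, Matrix.SpecialLinearGroup.coe_mul, Matrix.SpecialLinearGroup.coe_mul] at hc
    exact hc.symm
  have hns : ∀ c : F, (s : M₂) ≠ c • (1 : M₂) := fun c e => hx (by
    show cl s = cl 1
    exact (cl_eq_cl_iff.2 ⟨c, by rw [e, Matrix.SpecialLinearGroup.coe_one]⟩).symm)
  have : t * u = u * t := Subtype.ext (comm_of_nonscalar hns (key ha) (key hb))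
  rw [← cl_mul, ← cl_mul, this]

theorem range_comm [Fintype F] (h2 : (2 : F) ≠ 0) {g a b : GL₂} (hne : A g ≠ 1)
    (ho : orderOf (A g) ≠ 2) (ha : A a * A g = A g * A a) (hb : A b * A g = A g * A b) :
    A a * A b = A b * A a := by
  have ht : (g : M₂).trace ≠ 0 := fun e => ho ((orderOf_A_iff h2).2 e)
  have hns : ∀ c : F, (g : M₂) ≠ c • (1 : M₂) := fun c e => hne (A_eq_one_iff.2
    ⟨c, fun h0 => det_ne_zero g (by rw [e, h0]; simp), e⟩)
  have : a * b = b * a := Units.ext (comm_of_nonscalar hns (comm_matrices ht ha) (comm_matrices ht hb))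
  rw [← map_mul, ← map_mul, this]

/-- The upper unitriangular matrices. -/
noncomputable def uni : Multiplicative F →* GL₂ :=
  MonoidHom.mk' (fun a => Matrix.GeneralLinearGroup.mkOfDetNeZero
    (!![1, a.toAdd; 0, 1] : M₂) (by simp [Matrix.det_fin_two_of]))
    fun a b => Units.ext (by
      ext i j
      fin_cases i <;> fin_cases j <;>
        simp [Matrix.GeneralLinearGroup.mkOfDetNeZero, Matrix.mul_apply, Fin.sum_univ_two, add_comm])

theorem coe_uni (a : F) : (uni (Multiplicative.ofAdd a) : M₂) = !![1, a; 0, 1] := rfl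

theorem gmap_uni (τ : F ≃+* F) (a : F) :
    gmap τ (uni (Multiplicative.ofAdd a)) = uni (Multiplicative.ofAdd (τ a)) := Units.ext (by
  rw [coe_gmap, coe_uni, coe_uni]
  ext i j
  fin_cases i <;> fin_cases j <;> simp)

theorem det_uni (a : Multiplicative F) : (uni a : M₂).det = 1 := by
  rw [show a = Multiplicative.ofAdd a.toAdd from rfl, coe_uni, Matrix.det_fin_two_of]; simp

theorem semiAut_conj_uni (τ : F ≃+* F) (a : F) :
    semiAut (1 : GL₂) τ * A (uni (Multiplicative.ofAdd a)) * (semiAut (1 : GL₂) τ)⁻¹ =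
      A (uni (Multiplicative.ofAdd (τ a))) := by
  rw [mul_inv_eq_iff_eq_mul, toAutHom_apply, toAutHom_apply, semiAut_mul, semiAut_mul, gmap_uni,
    gmap_one, one_mul, mul_one, mul_one, one_mul]

theorem A_uni_injective [Fintype F] {a b : F}
    (e : A (uni (Multiplicative.ofAdd a)) = A (uni (Multiplicative.ofAdd b))) : a = b := by
  obtain ⟨c, -, hc⟩ := A_eq_iff.1 e
  rw [coe_uni, coe_uni] at hc
  have h1 := congrFun (congrFun hc 0) 0
  have h2 := congrFun (congrFun hc 0) 1
  simp at h1 h2
  rw [h2, ← h1, one_mul]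

/-- `diag(m², 1)`. -/
noncomputable def tor (m : Fˣ) : GL₂ :=
  Matrix.GeneralLinearGroup.mkOfDetNeZero (!![(m : F) * m, 0; 0, 1] : M₂)
    (by simp [Matrix.det_fin_two_of])

theorem det_tor (m : Fˣ) : IsSquare (tor m : M₂).det :=
  ⟨m, by show Matrix.det !![(m : F) * m, 0; 0, 1] = _; simp [Matrix.det_fin_two_of]⟩

theorem tor_conj_uni (m : Fˣ) (a : F) :
    A (tor m) * A (uni (Multiplicative.ofAdd a)) * (A (tor m))⁻¹ =
      A (uni (Multiplicative.ofAdd ((m : F) * m * a))) := by
  rw [mul_inv_eq_iff_eq_mul, ← map_mul, ← map_mul]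
  congr 1
  refine Units.ext ?_
  show (tor m : M₂) * (uni (Multiplicative.ofAdd a) : M₂) =
    (uni (Multiplicative.ofAdd ((m : F) * m * a)) : M₂) * (tor m : M₂)
  rw [coe_uni, coe_uni]
  show !![(m : F) * m, 0; 0, 1] * !![1, a; 0, 1] = !![1, (m : F) * m * a; 0, 1] * !![(m : F) * m, 0; 0, 1]
  ext i j
  fin_cases i <;> fin_cases j <;> simp [Matrix.mul_apply, Fin.sum_univ_two]

/-- A group of automorphisms with odd field parts containing an outer field part contains a pure
field automorphism. -/
theorem exists_pure [Fintype F] {R : Subgroup AutP} (hinn : innG F ≤ R)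
    (hodd : Odd (Nat.card (R.map fieldPart))) {α : AutP} (hα : α ∈ R) (hne : fieldPart α ≠ 1) :
    ∃ τ : F ≃+* F, τ ≠ 1 ∧ Odd (orderOf τ) ∧ semiAut (1 : GL₂) τ ∈ R := by
  obtain ⟨g, σ, rfl⟩ := exists_form α
  rw [fieldPart_semiAut] at hne
  have hσo : Odd (orderOf σ) := hodd.of_dvd_nat (by
    have hm : σ ∈ R.map fieldPart := ⟨_, hα, fieldPart_semiAut g σ⟩
    exact Subgroup.orderOf_dvd_natCard _ hm)
  refine ⟨σ * σ, fun e => hne (one_of_sq_one hσo e), hσo.of_dvd_nat ?_, ?_⟩
  · rw [← pow_two]; exact orderOf_pow_dvd 2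
  have hsq : semiAut g σ * semiAut g σ ∈ R := mul_mem hα hα
  rw [semiAut_mul] at hsq
  have hd : A (g * gmap σ g) ∈ innG F := A_mem_inn_iff.2 (by
    rw [Units.val_mul, Matrix.det_mul, det_gmap,
      isSquare_mul_iff (det_ne_zero g) (fun h0 => det_ne_zero g (by
        simpa using congrArg σ.symm h0)), isSquare_map])
  have h1 : semiAut (g * gmap σ g) (σ * σ) = A (g * gmap σ g) * semiAut (1 : GL₂) (σ * σ) := by
    rw [toAutHom_apply, semiAut_mul, gmap_one, mul_one, one_mul]
  have h2 := mul_mem (R.inv_mem (hinn hd)) hsq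
  rwa [h1, inv_mul_cancel_left] at h2

/-- The field of nine elements has no automorphism of odd order but the identity. -/
theorem card_ne_nine [Fintype F] {τ : F ≃+* F} (hτ : τ ≠ 1) (ho : Odd (orderOf τ)) :
    Fintype.card F ≠ 9 := by
  intro h9
  classical
  obtain ⟨i, hi⟩ := (FiniteField.isSquare_neg_one_iff (F := F)).2 (by rw [h9]; norm_num)
  have h2 : (2 : F) ≠ 0 := Ring.two_ne_zero fun h => by
    have := (FiniteField.even_card_iff_char_two (F := F)).1 h
    omega
  have hτi : τ i = i := by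
    have hsq : τ i * τ i = i * i := by rw [← map_mul, ← hi, map_neg, map_one]
    rcases mul_self_eq_mul_self_iff.1 hsq with e | e
    · exact e
    · exfalso
      obtain ⟨j, hj⟩ := ho
      have hp : ∀ k : ℕ, (τ ^ (2 * k)) i = i := by
        intro k
        induction k with
        | zero => rfl
        | succ k ih =>
          rw [show 2 * (k + 1) = 2 * k + 1 + 1 by ring, pow_succ, pow_succ]
          show (τ ^ (2 * k)) (τ (τ i)) = i
          rw [e, map_neg, e, neg_neg, ih]
      have h1 := hp j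
      have h3 : (τ ^ orderOf τ) i = i := by rw [pow_orderOf_eq_one]; rfl
      rw [hj, pow_succ] at h3
      have h4 : (τ ^ (2 * j)) (τ i) = i := h3
      rw [e, map_neg, h1] at h4
      have hi0 : i ≠ 0 := fun h0 => by rw [h0, mul_zero] at hi; exact neg_ne_zero.2 one_ne_zero hi
      exact hi0 (by
        have : (2 : F) * i = 0 := by linear_combination -h4
        exact (mul_eq_zero.1 this).resolve_left h2)
  let S : AddSubgroup F := τ.toAddMonoidHom.eqLocus (AddMonoidHom.id F)
  have hne : S ≠ ⊤ := fun e => hτ (RingEquiv.ext fun x => by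
    have : x ∈ S := e ▸ AddSubgroup.mem_top x
    exact this)
  have h4 : 4 ≤ Nat.card S := by
    rw [Nat.card_eq_fintype_card]
    refine le_trans ?_ (Finset.card_le_univ ({⟨0, map_zero τ⟩, ⟨1, map_one τ⟩,
      ⟨-1, by show τ (-1) = -1; rw [map_neg, map_one]⟩, ⟨i, hτi⟩} : Finset S))
    have a : (1 : F) ≠ -1 := fun h => h2 (by linear_combination h)
    have b : i ≠ 0 := fun h => by rw [h, mul_zero] at hi; exact neg_ne_zero.2 one_ne_zero hi
    have c : i ≠ 1 := fun h => by rw [h, mul_one] at hi; exact a hi.symm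
    have d : i ≠ -1 := fun h => by rw [h] at hi; simp at hi; exact a hi.symm
    simp [Finset.card_insert_of_notMem, Subtype.ext_iff, a, b.symm, c.symm, d.symm,
      zero_ne_one, (neg_ne_zero.2 (one_ne_zero (α := F))).symm]
  have hd := AddSubgroup.card_addSubgroup_dvd_card S
  rw [Nat.card_eq_fintype_card (α := F), h9] at hd
  have hlt : Nat.card S < 9 := by
    refine lt_of_le_of_ne (Nat.le_of_dvd (by norm_num) hd) fun e => hne ?_
    exact AddSubgroup.eq_top_of_card_eq S (by rw [e, Nat.card_eq_fintype_card (α := F), h9])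
  interval_cases hS : Nat.card S <;> omega

end CfsgLib.MinNonCA
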