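import Cfsg.Agent.Lib.MinNonCA.Generic
import Cfsg.Agent.Lib.MinNonCA.Matrices
import Cfsg.Agent.Lib.GW.AutL
import Cfsg.Agent.Lib.GWApps.Basic
import Cfsg.Agent.S0483
import Cfsg.Agent.S2086
import Cfsg.Agent.S0144

/-!
Minimal nonsolvable non-CA groups are groups `PSL(2, q)` with abelian Sylow 2-subgroups.
-/

set_option autoImplicit false
set_option linter.style.haveILetI false
open Cfsg

namespace CfsgLib.MinNonCA

open CfsgLib.GW CfsgLib.GW.AutL CfsgLib.GW.PGLTwo CfsgLib.ReflectionsSpinor.PSL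

variable {G : Type*} [Group G] [Finite G]

local notation "CG(" x ")" => Subgroup.centralizer ({x} : Set _)
local notation "Z" => Subgroup.center G
local notation "π" => QuotientGroup.mk' (Subgroup.center G)

theorem map_perfectCore : (perfectCore G).map (π) = perfectCore (G ⧸ Z) := by
  refine le_antisymm (Cores.map_perfectCore_le _) ?_
  obtain ⟨n, hn⟩ := Cores.exists_derivedSeries_eq_perfectCore (G := G)
  rw [← hn, map_derivedSeries_eq (QuotientGroup.mk'_surjective Z) n]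
  exact Cores.perfectCore_le_derivedSeries n

omit [Finite G] in
/-- Commuting modulo the centre with coprime orders implies commuting. -/
theorem commute_of_coprime {u v : G} (h : π u * π v = π v * π u) {a b : ℕ} (hab : a.Coprime b)
    (hu : u ^ a = 1) (hv : v ^ b = 1) : u * v = v * u := by
  set c := u⁻¹ * (v * u * v⁻¹) with hc
  have hcz : c ∈ Z := map_eq_one.1 (by
    simp only [hc, map_mul, map_inv]
    rw [← h]; group)
  have hcomm : Commute u c := Subgroup.mem_center_iff.1 hcz u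
  have e1 : v * u * v⁻¹ = u * c := by rw [hc]; group
  have ha : c ^ a = 1 := by
    have h1 : (v * u * v⁻¹) ^ a = 1 := by rw [conj_pow, hu]; group
    rwa [e1, hcomm.mul_pow, hu, one_mul] at h1
  have e2 : u⁻¹ * v * u = v * c⁻¹ * 1 → True := fun _ => trivial
  have e3 : u⁻¹ * v * u = c * v := by rw [hc]; group
  have hb : c ^ b = 1 := by
    have h1 : (u⁻¹ * v * u⁻¹⁻¹) ^ b = 1 := by rw [conj_pow, hv]; group
    rw [inv_inv, e3, (show Commute c v from (Subgroup.mem_center_iff.1 hcz v).symm).mul_pow, hv,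
      mul_one] at h1
    exact h1
  have h1 : c = 1 := orderOf_eq_one_iff.1 (Nat.eq_one_of_dvd_coprimes hab
    (orderOf_dvd_of_pow_eq_one ha) (orderOf_dvd_of_pow_eq_one hb))
  rw [h1, mul_one] at e1
  exact (mul_inv_eq_iff_eq_mul.1 e1).symm

/-- An element of order `p` modulo the centre has a lift of `p`-power order. -/
theorem exists_power_lift {p : ℕ} (hp : p.Prime) (L : Subgroup G) {x : G} (hxL : x ∈ L)
    (hx : π x ^ p = 1) : ∃ y ∈ L, π y = π x ∧ ∃ k, y ^ p ^ k = 1 := by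
  obtain ⟨e, m, hm, he⟩ := Nat.exists_eq_pow_mul_and_not_dvd (orderOf_pos x).ne' p hp.one_lt.ne'
  obtain ⟨n, hn⟩ : ∃ n, (π x ^ m) ^ n = π x := exists_pow_eq_self_of_coprime
    ((((Nat.Prime.coprime_iff_not_dvd hp).2 hm).symm).coprime_dvd_right (orderOf_dvd_of_pow_eq_one hx))
  refine ⟨(x ^ m) ^ n, pow_mem (pow_mem hxL m) n, by rw [map_pow, map_pow, hn], e, ?_⟩
  rw [← pow_mul, ← pow_mul, show m * (n * p ^ e) = p ^ e * m * n by ring, pow_mul, ← he,
    pow_orderOf_eq_one, one_pow]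

theorem not_eight_dvd {X : Type*} [Group X] [Finite X] (hd : GW.HasDihedralSylow X)
    (hc : ∀ P : Sylow 2 X, ∀ a ∈ (P : Subgroup X), ∀ b ∈ (P : Subgroup X), a * b = b * a) :
    ¬ 8 ∣ Nat.card X := by
  haveI : Fact (Nat.Prime 2) := ⟨Nat.prime_two⟩
  obtain ⟨P, n, hn, ⟨e⟩⟩ := hd
  haveI : NeZero n := ⟨by omega⟩
  have h1 : (DihedralGroup.r 1 : DihedralGroup n) * DihedralGroup.sr 0 =
      DihedralGroup.sr 0 * DihedralGroup.r 1 := by
    obtain ⟨a, ha⟩ := e.surjective (DihedralGroup.r 1)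
    obtain ⟨b, hb⟩ := e.surjective (DihedralGroup.sr 0)
    rw [← ha, ← hb, ← map_mul, ← map_mul,
      show a * b = b * a from Subtype.ext (hc P a a.2 b b.2)]
  rw [DihedralGroup.r_mul_sr, DihedralGroup.sr_mul_r, DihedralGroup.sr.injEq] at h1
  have h2 : ((2 : ℕ) : ZMod n) = 0 := by push_cast; linear_combination -h1
  have hn2 : n = 2 := le_antisymm (Nat.le_of_dvd two_pos ((CharP.cast_eq_zero_iff (ZMod n) n 2).1 h2)) hn
  intro h8
  have h3 := (Nat.prime_two.pow_dvd_iff_le_factorization Nat.card_pos.ne').1 (show 2 ^ 3 ∣ Nat.card X from h8)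
  have h4 := Nat.pow_dvd_pow 2 h3
  rw [← P.card_eq_multiplicity, Nat.card_congr e.toEquiv, DihedralGroup.nat_card, hn2] at h4
  norm_num at h4

/-- Kernels of perfect central extensions of `PSL(2, q)`, `q` odd, not nine. -/
theorem card_ker_dvd_two {L : Type*} [Group L] [Finite L] (hL : commutator L = ⊤)
    {F : Type} [Field F] [Fintype F] (hodd : Odd (Fintype.card F)) (h4 : 4 ≤ Fintype.card F)
    (h9 : Fintype.card F ≠ 9) (σ : L →* Matrix.ProjectiveSpecialLinearGroup (Fin 2) F)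
    (hs : Function.Surjective σ) (hk : σ.ker ≤ Subgroup.center L) : Nat.card σ.ker ∣ 2 := by
  haveI : Small.{0} L := small_of_injective (Finite.equivFin L).injective
  haveI : Finite (Shrink.{0} L) := Finite.of_equiv L (equivShrink L)
  let e : Shrink.{0} L ≃* L := Shrink.mulEquiv
  let σ' := σ.comp e.toMonoidHom
  have hst : Cfsg.IsStemExtension σ' := by
    refine ⟨hs.comp e.surjective, fun z hz => Subgroup.mem_center_iff.2 fun g => e.injective ?_, ?_⟩
    · rw [map_mul, map_mul]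
      exact Subgroup.mem_center_iff.1 (hk hz) (e g)
    · intro z _
      have h1 : (commutator (Shrink.{0} L)).map e.toMonoidHom = ⊤ := by
        rw [commutator_def, Subgroup.map_commutator,
          Subgroup.map_top_of_surjective e.toMonoidHom e.surjective, ← commutator_def, hL]
      obtain ⟨w, hw, hwe⟩ := h1.ge (Subgroup.mem_top (e z))
      exact e.injective hwe ▸ hw
  have hg : Nat.gcd 2 (Fintype.card F - 1) = 2 := by
    obtain ⟨j, hj⟩ := hodd
    rw [hj, Nat.add_sub_cancel]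
    exact Nat.gcd_mul_right_right 2 j |> fun _ => Nat.gcd_eq_left (Dvd.intro j rfl)
  have hm := Cfsg.Agent.S2086.result (F := F) rfl 2 le_rfl (fun _ => h4) (by
    simp only [Set.mem_insert_iff, Set.mem_singleton_iff, Prod.mk.injEq]
    have := Nat.odd_iff.1 hodd
    rintro (h | h | h | h | h) <;> omega)
  rw [hg] at hm
  obtain ⟨φ, hφ⟩ := hm.2 (Shrink.{0} L) σ' hst
  have hker : σ'.ker = σ.ker.comap e.toMonoidHom := (MonoidHom.comap_ker σ e.toMonoidHom).symm
  have h1 := Subgroup.card_dvd_of_surjective φ hφ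
  rw [Nat.card_congr Multiplicative.toAdd, Nat.card_zmod, hker,
    Nat.card_congr ((σ.ker.comap e.toMonoidHom).equivMapOfInjective e.toMonoidHom e.injective).toEquiv,
    Subgroup.map_comap_eq_self_of_surjective e.surjective] at h1
  exact h1

namespace MNC

variable (h : MNC G)
include h

theorem false_of_moved {u v₁ v₂ g : G}
    (hu : u ∉ Z) (h1 : π v₁ * π u = π u * π v₁) (h2 : π v₂ * π u = π u * π v₂)
    (e1 : v₁ * u = u * v₁) (e2 : v₂ * u = u * v₂) (hv : v₁ * v₂ ≠ v₂ * v₁)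
    (hg : π g * π u * (π g)⁻¹ = (π u)⁻¹) (hg1 : (π u)⁻¹ ≠ π u) : False := by
  set U := Subgroup.zpowers (π u) with hU
  set H : Subgroup G := (Subgroup.normalizer (U : Set (G ⧸ Z))).comap (π) with hH
  have hHtop : H ≠ ⊤ := fun e => by
    have h1 := congrArg (Subgroup.map (π)) e
    rw [hH, Subgroup.map_comap_eq_self_of_surjective (QuotientGroup.mk'_surjective Z),
      Subgroup.map_top_of_surjective _ (QuotientGroup.mk'_surjective Z)] at h1
    haveI : U.Normal := Subgroup.normalizer_eq_top_iff.1 h1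
    have h2 := h.radFree U inferInstance (Group.isSolvable_of_comm fun a b => mul_comm' a b)
    exact hu ((QuotientGroup.eq_one_iff u).1 (Subgroup.mem_bot.1 (h2 ▸ Subgroup.mem_zpowers (π u))))
  have hmem : ∀ w : G, π w * π u * (π w)⁻¹ ∈ U → w ∈ H := fun w hw =>
    Subgroup.mem_comap.2 (CoprimeAction.mem_normalizer_of_conj_mem fun y hy => by
      obtain ⟨n, rfl⟩ := hy
      show π w * π u ^ n * (π w)⁻¹ ∈ U
      rw [← conj_zpow]; exact zpow_mem hw n)
  have hgu := h.le_centralizer (H := H) hHtop (x := u) (a := v₁) (b := v₂)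
    (hmem u (by rw [mul_inv_cancel_right]; exact Subgroup.mem_zpowers _))
    (hmem v₁ (by rw [h1, mul_inv_cancel_right]; exact Subgroup.mem_zpowers _))
    (hmem v₂ (by rw [h2, mul_inv_cancel_right]; exact Subgroup.mem_zpowers _))
    e1 e2 hv (hmem g (by rw [hg]; exact inv_mem (Subgroup.mem_zpowers _)))
  refine hg1 ?_
  rw [← hg, ← map_mul, Subgroup.mem_centralizer_singleton_iff.1 hgu, map_mul, mul_inv_cancel_right]

theorem no_alt_seven (hd : GW.HasDihedralSylow (G ⧸ Z)) (f : G ⧸ Z →* Equiv.Perm (Fin 7))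
    (hf : Function.Injective f) (hr : f.range = alternatingGroup (Fin 7)) : False := by
  haveI : Fact (Nat.Prime 2) := ⟨Nat.prime_two⟩
  let k : Equiv.Perm (Fin 7) := Equiv.swap 4 5 * Equiv.swap 5 6
  let w₁ : Equiv.Perm (Fin 7) := Equiv.swap 0 1 * Equiv.swap 2 3
  let w₂ : Equiv.Perm (Fin 7) := Equiv.swap 0 2 * Equiv.swap 1 3
  let s : Equiv.Perm (Fin 7) := Equiv.swap 0 1 * Equiv.swap 4 5
  have facts : Equiv.Perm.sign k = 1 ∧ Equiv.Perm.sign w₁ = 1 ∧ Equiv.Perm.sign w₂ = 1 ∧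
      Equiv.Perm.sign s = 1 ∧ k ^ 3 = 1 ∧ k ≠ 1 ∧ k⁻¹ ≠ k ∧ w₁ * k = k * w₁ ∧ w₂ * k = k * w₂ ∧
      w₁ * w₁ = 1 ∧ w₂ * w₂ = 1 ∧ w₁ ≠ 1 ∧ w₂ ≠ 1 ∧ w₁ ≠ w₂ ∧ w₁ * w₂ = w₂ * w₁ ∧
      s * k * s⁻¹ = k⁻¹ := by decide
  obtain ⟨fk, fw1, fw2, fs, hk3, hk1, hkinv, hc1, hc2, hs1, hs2, hn1, hn2, hn12, hw, hsk⟩ := facts
  obtain ⟨uq, hu⟩ := GW.AutL.Seven.exists_preimage hr fk
  obtain ⟨aq, ha⟩ := GW.AutL.Seven.exists_preimage hr fw1
  obtain ⟨bq, hb⟩ := GW.AutL.Seven.exists_preimage hr fw2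
  obtain ⟨gq, hg⟩ := GW.AutL.Seven.exists_preimage hr fs
  -- a Sylow subgroup containing lifts of the four-group
  have hab : aq * bq = bq * aq := hf (by rw [map_mul, map_mul, ha, hb, hw])
  have ha2 : aq * aq = 1 := hf (by rw [map_mul, ha, hs1, map_one])
  have hb2 : bq * bq = 1 := hf (by rw [map_mul, hb, hs2, map_one])
  obtain ⟨S₀⟩ : Nonempty (Sylow 2 G) := inferInstance
  have hV : IsPGroup 2 (Subgroup.closure {aq, bq} : Subgroup (G ⧸ Z)) := by
    intro y
    refine ⟨1, Subtype.ext ?_⟩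
    obtain ⟨y, hy⟩ := y
    show y ^ 2 ^ 1 = 1
    have : ∀ z ∈ Subgroup.closure {aq, bq}, z * z = 1 ∧ z * aq = aq * z ∧ z * bq = bq * z := by
      intro z hz
      induction hz using Subgroup.closure_induction with
      | mem z hz =>
        rcases hz with rfl | rfl
        exacts [⟨ha2, rfl, hab⟩, ⟨hb2, hab.symm, rfl⟩]
      | one => simp
      | mul z z' hz hz' ih ih' =>
        have hc : z * z' = z' * z := by
          have : Subgroup.closure {aq, bq} ≤ Subgroup.centralizer ({z'} : Set (G ⧸ Z)) := by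
            rw [Subgroup.closure_le]
            rintro _ (rfl | rfl)
            exacts [Subgroup.mem_centralizer_singleton_iff.2 ih'.2.1.symm,
              Subgroup.mem_centralizer_singleton_iff.2 ih'.2.2.symm]
          exact Subgroup.mem_centralizer_singleton_iff.1 (this hz)
        refine ⟨?_, ?_, ?_⟩
        · calc z * z' * (z * z') = z * (z' * z) * z' := by group
            _ = (z * z) * (z' * z') := by rw [← hc]; group
            _ = 1 := by rw [ih.1, ih'.1, one_mul]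
        · exact ((show Commute z aq from ih.2.1).mul_left (show Commute z' aq from ih'.2.1)).eq
        · exact ((show Commute z bq from ih.2.2).mul_left (show Commute z' bq from ih'.2.2)).eq
      | inv z _ ih =>
        rw [inv_eq_of_mul_eq_one_right ih.1]
        exact ih
    rw [pow_one, pow_two]
    exact (this y hy).1
  obtain ⟨P, hP⟩ := hV.exists_le_sylow
  obtain ⟨c, hc⟩ := MulAction.exists_smul_eq (G ⧸ Z)
    (S₀.mapSurjective (QuotientGroup.mk'_surjective Z)) P
  obtain ⟨c₀, rfl⟩ := QuotientGroup.mk'_surjective Z c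
  set S : Sylow 2 G := c₀ • S₀ with hS
  have hmem : ∀ y ∈ (P : Subgroup (G ⧸ Z)), ∃ x ∈ (S : Subgroup G), π x = y := by
    intro y hy
    rw [← hc] at hy
    obtain ⟨_, ⟨x, hx, rfl⟩, rfl⟩ := hy
    exact ⟨c₀ * x * c₀⁻¹, ⟨x, hx, rfl⟩, by
      rw [map_mul, map_mul, map_inv]; rfl⟩
  obtain ⟨v₁, hv₁, ev₁⟩ := hmem aq (hP (Subgroup.subset_closure (by simp)))
  obtain ⟨v₂, hv₂, ev₂⟩ := hmem bq (hP (Subgroup.subset_closure (by simp)))
  by_cases hna : ∃ a ∈ (S : Subgroup G), ∃ b ∈ (S : Subgroup G), π a * π b ≠ π b * π a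
  · obtain ⟨z, A, fr⟩ := h.exists_frame S hna
    have hne : ∀ {q : G ⧸ Z} {w : Equiv.Perm (Fin 7)}, f q = w → w ≠ 1 → q ≠ 1 := fun e hw e' =>
      hw (by rw [← e, e', map_one])
    have hv := h.frame_four fr hv₁ hv₂ (map_sq.1 (by rw [ev₁, ha2])) (map_sq.1 (by rw [ev₂, hb2]))
      (by rw [ev₁]; exact hne ha hn1) (by rw [ev₂]; exact hne hb hn2)
      (by rw [ev₁, ev₂]; exact fun e => hn12 (by rw [← ha, ← hb, e]))
    obtain ⟨u₀, rfl⟩ := QuotientGroup.mk'_surjective Z uq
    obtain ⟨u, -, eu, ku, hku⟩ := exists_power_lift Nat.prime_three ⊤ (Subgroup.mem_top u₀)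
      (hf (by rw [map_pow, hu, hk3, map_one]))
    obtain ⟨g, rfl⟩ := QuotientGroup.mk'_surjective Z gq
    obtain ⟨k₁, hk₁⟩ := IsPGroup.iff_orderOf.1 S.isPGroup' ⟨v₁, hv₁⟩
    obtain ⟨k₂, hk₂⟩ := IsPGroup.iff_orderOf.1 S.isPGroup' ⟨v₂, hv₂⟩
    rw [Subgroup.orderOf_mk] at hk₁ hk₂
    have c1 : π v₁ * π u = π u * π v₁ := hf (by rw [ev₁, eu, map_mul, map_mul, ha, hu, hc1])
    have c2 : π v₂ * π u = π u * π v₂ := hf (by rw [ev₂, eu, map_mul, map_mul, hb, hu, hc2])
    have hcop : ∀ i j : ℕ, (2 ^ i).Coprime (3 ^ j) := fun i j => Nat.Coprime.pow _ _ (by norm_num)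
    refine h.false_of_moved (u := u) (g := g) (fun hz => hk1 ?_) c1 c2
      (commute_of_coprime c1 (hcop k₁ ku) (hk₁ ▸ pow_orderOf_eq_one v₁) hku)
      (commute_of_coprime c2 (hcop k₂ ku) (hk₂ ▸ pow_orderOf_eq_one v₂) hku) hv
      (hf (by rw [eu]; simp only [map_mul, map_inv]; rw [hg, hu, hsk]))
      (fun e => hkinv (by rw [← hu, ← map_inv, ← eu, e]))
    rw [← hu, ← eu, map_eq_one.2 hz, map_one]
  · push Not at hna
    refine not_eight_dvd hd (fun T a ha' b hb' => ?_) ?_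
    · obtain ⟨q, rfl⟩ := MulAction.exists_smul_eq (G ⧸ Z)
        (S.mapSurjective (QuotientGroup.mk'_surjective Z)) T
      obtain ⟨_, ⟨a', ha', rfl⟩, rfl⟩ := ha'
      obtain ⟨_, ⟨b', hb', rfl⟩, rfl⟩ := hb'
      show q * π a' * q⁻¹ * (q * π b' * q⁻¹) = q * π b' * q⁻¹ * (q * π a' * q⁻¹)
      rw [show q * π a' * q⁻¹ * (q * π b' * q⁻¹) = q * (π a' * π b') * q⁻¹ by group,
        hna a' ha' b' hb']
      group
    · rw [Nat.card_congr (MonoidHom.ofInjective hf).toEquiv, hr, nat_card_alternatingGroup,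
        Nat.card_fin]
      norm_num [Nat.factorial]

theorem false_of_even_psl {K : Type} [Field K] [Fintype K] (hK : Even (Fintype.card K))
    (e : (G ⧸ Z) ≃* Matrix.ProjectiveSpecialLinearGroup (Fin 2) K)
    (hperf : ∀ N : Subgroup (G ⧸ Z), N.Normal → Odd N.index → N = ⊤) : False := by
  have h2 : (2 : K) = 0 := by
    haveI : CharP K 2 := ringChar.of_eq ((FiniteField.even_card_iff_char_two).2 (by
      rw [Nat.even_iff] at hK; exact hK))
    exact CharTwo.two_eq_zero
  have hc : ∀ d : G ⧸ Z, d ≠ 1 → ∀ a ∈ (CG(d) : Subgroup (G ⧸ Z)), ∀ b ∈ (CG(d) : Subgroup (G ⧸ Z)),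
      a * b = b * a := fun d hd a ha b hb => e.injective (by
    rw [map_mul, map_mul]
    exact psl_centralizer_comm h2 (fun e' => hd (e.map_eq_one_iff.1 e'))
      (by rw [← map_mul, ← map_mul, Subgroup.mem_centralizer_singleton_iff.1 ha])
      (by rw [← map_mul, ← map_mul, Subgroup.mem_centralizer_singleton_iff.1 hb]))
  obtain ⟨x, hx⟩ := h.ex
  exact h.cent_image_not_comm hperf (fun d hd _ => hc d hd) hx
    (hc (π x) fun e' => hx.1 ((QuotientGroup.eq_one_iff x).1 e'))

theorem fieldPart_trivial {F : Type} [Field F] [Fintype F]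
    {f : G ⧸ Subgroup.center G →* MulAut (Matrix.ProjectiveSpecialLinearGroup (Fin 2) F)}
    (h2 : (2 : F) ≠ 0) (hcard : 4 ≤ Fintype.card F) (hf : Function.Injective f)
    (e : perfectCore (G ⧸ Z) ≃* Matrix.ProjectiveSpecialLinearGroup (Fin 2) F)
    (hpre : ∀ α ∈ innG F, ∃ n ∈ perfectCore (G ⧸ Z), f n = α)
    (hodd : Odd (Nat.card (f.range.map fieldPart))) (q : G ⧸ Z) : fieldPart (f q) = 1 := by
  by_contra hne
  obtain ⟨τ, hτ, hτo, hτR⟩ := exists_pure (R := f.range)
    (fun α hα => by obtain ⟨n, -, rfl⟩ := hpre α hα; exact ⟨n, rfl⟩) hodd ⟨q, rfl⟩ hne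
  have h9 := card_ne_nine hτ hτo
  have hoddF : Odd (Fintype.card F) := Nat.odd_iff.2
    (FiniteField.odd_card_of_char_ne_two fun h' => by
      haveI : CharP F 2 := ringChar.of_eq h'
      exact h2 CharTwo.two_eq_zero)
  set p := ringChar F with hp
  haveI : CharP F p := ringChar.charP F
  have hpp : p.Prime := CharP.char_is_prime F p
  have hp2 : p ≠ 2 := fun e => h2 (by
    haveI : CharP F 2 := ringChar.of_eq e
    exact CharTwo.two_eq_zero)
  set L := perfectCore G with hL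
  haveI := Cores.isPerfect_perfectCore G
  -- the central extension
  let σ : L →* Matrix.ProjectiveSpecialLinearGroup (Fin 2) F :=
    e.toMonoidHom.comp (((π).comp L.subtype).codRestrict (perfectCore (G ⧸ Z)) fun l =>
      map_perfectCore.le (Subgroup.mem_map_of_mem (π) l.2))
  have hσs : Function.Surjective σ := by
    intro y
    obtain ⟨x, hx, hxe⟩ := map_perfectCore.ge (e.symm y).2
    exact ⟨⟨x, hx⟩, (congrArg e (Subtype.ext hxe)).trans (e.apply_symm_apply y)⟩
  have hker : ∀ l : L, l ∈ σ.ker ↔ (l : G) ∈ Z := fun l => by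
    rw [MonoidHom.mem_ker]
    exact e.map_eq_one_iff.trans (Subtype.ext_iff.trans map_eq_one)
  have htwo := card_ker_dvd_two (Group.IsPerfect.commutator_eq_top (G := L)) hoddF hcard h9 σ hσs
    fun l hl => Subgroup.mem_center_iff.2 fun m =>
      Subtype.ext (Subgroup.mem_center_iff.1 ((hker l).1 hl) m)
  have kill : ∀ c ∈ L, c ∈ Z → ∀ k : ℕ, c ^ p ^ k = 1 → c = 1 := by
    intro c hc hcz k hk
    refine orderOf_eq_one_iff.1 (Nat.eq_one_of_dvd_coprimes
      (Nat.Coprime.pow_left k ((Nat.coprime_primes hpp Nat.prime_two).2 hp2))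
      (orderOf_dvd_of_pow_eq_one hk) ?_)
    exact ((Subgroup.orderOf_mk c hc) ▸ Subgroup.orderOf_dvd_natCard σ.ker ((hker ⟨c, hc⟩).2 hcz)).trans htwo
  -- lifts of the unitriangular matrices
  have hlift : ∀ a : F, ∃ v ∈ L, f (π v) = toAutHom (uni (Multiplicative.ofAdd a)) ∧
      ∃ k, v ^ p ^ k = 1 := by
    intro a
    obtain ⟨n, hn, hne⟩ := hpre (toAutHom (uni (Multiplicative.ofAdd a)))
      (A_mem_inn_iff.2 (by rw [det_uni]; exact IsSquare.one))
    obtain ⟨x, hx, rfl⟩ := map_perfectCore.ge hn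
    obtain ⟨v, hv, hve, hk⟩ := exists_power_lift hpp L hx (hf (by
      rw [map_pow, hne, map_one, ← map_pow, ← map_pow, ← ofAdd_nsmul, nsmul_eq_mul,
        CharP.cast_eq_zero, zero_mul, ofAdd_zero, map_one, map_one]))
    exact ⟨v, hv, by rw [hve, hne], hk⟩
  obtain ⟨yq, hyq⟩ := hτR
  obtain ⟨y, rfl⟩ := QuotientGroup.mk'_surjective Z yq
  obtain ⟨a, ha⟩ : ∃ a : F, τ a ≠ a := by
    by_contra hcon
    push Not at hcon
    exact hτ (RingEquiv.ext hcon)
  obtain ⟨u, huL, hu, ku, hku⟩ := hlift 1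
  obtain ⟨v, hvL, hv, kv, hkv⟩ := hlift a
  obtain ⟨m, hm⟩ : ∃ m : Fˣ, (m : F) * m ≠ 1 := by
    obtain ⟨m, hm⟩ := CfsgLib.ClassicalLinear.exists_sq_ne_one_of_four_le_card
      (F := F) (by rw [Nat.card_eq_fintype_card]; exact hcard)
    refine ⟨Units.mk0 m hm.1, ?_⟩
    rw [Units.val_mk0, ← pow_two]; exact hm.2
  obtain ⟨wq, -, hwq⟩ := hpre (toAutHom (tor m)) (A_mem_inn_iff.2 (det_tor m))
  obtain ⟨w, rfl⟩ := QuotientGroup.mk'_surjective Z wq
  have hcomm : ∀ t : G, ∀ b : F, π t * π u * (π t)⁻¹ = π u → t * u = u * t := by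
    intro t _ ht
    set c := u⁻¹ * (t * u * t⁻¹) with hc
    have hcL : c ∈ L := mul_mem (inv_mem huL) (Subgroup.Normal.conj_mem inferInstance u huL t)
    have hcz : c ∈ Z := map_eq_one.1 (by
      rw [hc, map_mul, map_mul, map_mul, map_inv, map_inv, ht, inv_mul_cancel])
    have hconj : t * u * t⁻¹ = u * c := by rw [hc]; group
    have h1 : (t * u * t⁻¹) ^ p ^ ku = 1 := by rw [conj_pow, hku]; group
    rw [hconj, (show Commute u c from Subgroup.mem_center_iff.1 hcz u).mul_pow, hku, one_mul] at h1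
    rw [kill c hcL hcz ku h1, mul_one] at hconj
    exact mul_inv_eq_iff_eq_mul.1 hconj
  have hyu : y * u = u * y := hcomm y 1 (hf (by
    rw [map_mul, map_mul, map_inv, hyq, hu, semiAut_conj_uni, map_one]))
  have hvu : v * u = u * v := hcomm v 1 (hf (by
    rw [map_mul, map_mul, map_inv, hv, hu, ← map_inv, ← map_mul, ← map_mul, ← map_inv, ← map_mul,
      ← map_mul, mul_comm (Multiplicative.ofAdd a), mul_inv_cancel_right]))
  have hyv : y * v ≠ v * y := fun e' => ha (A_uni_injective (by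
    rw [← semiAut_conj_uni, ← hv, ← hyq, mul_inv_eq_iff_eq_mul, ← map_mul, ← map_mul, ← map_mul,
      ← map_mul, e']))
  -- their normalizer
  set U : Subgroup (G ⧸ Z) :=
    (((toAutHom (n := 2) (F := F)).comp (uni (F := F))).range).comap f with hU
  have hUmem : ∀ b : F, ∀ z : G, f (π z) = toAutHom (uni (Multiplicative.ofAdd b)) → π z ∈ U :=
    fun b z hz => ⟨Multiplicative.ofAdd b, hz.symm⟩
  set H : Subgroup G := (Subgroup.normalizer (U : Set (G ⧸ Z))).comap (π) with hH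
  have hmemH : ∀ z : G, (∀ b : F, ∃ b' : F,
      f (π z) * toAutHom (uni (Multiplicative.ofAdd b)) * (f (π z))⁻¹ =
        toAutHom (uni (Multiplicative.ofAdd b'))) → z ∈ H := fun z hz =>
    Subgroup.mem_comap.2 (CoprimeAction.mem_normalizer_of_conj_mem fun x hx => by
      obtain ⟨b, hb⟩ := hx
      obtain ⟨b', hb'⟩ := hz b.toAdd
      refine ⟨Multiplicative.ofAdd b', ?_⟩
      show toAutHom (uni (Multiplicative.ofAdd b')) = f (π z * x * (π z)⁻¹)
      rw [map_mul, map_mul, map_inv, ← hb]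
      exact hb'.symm)
  have hHtop : H ≠ ⊤ := fun e' => by
    have h1 := congrArg (Subgroup.map (π)) e'
    rw [hH, Subgroup.map_comap_eq_self_of_surjective (QuotientGroup.mk'_surjective Z),
      Subgroup.map_top_of_surjective _ (QuotientGroup.mk'_surjective Z)] at h1
    haveI : U.Normal := Subgroup.normalizer_eq_top_iff.1 h1
    have h3 := h.radFree U inferInstance (Group.isSolvable_of_comm fun x z => Subtype.ext (hf (by
      obtain ⟨b, hb⟩ := x.2
      obtain ⟨b', hb'⟩ := z.2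
      rw [Subgroup.coe_mul, Subgroup.coe_mul, map_mul, map_mul, ← hb, ← hb', ← map_mul, ← map_mul,
        mul_comm])))
    have h4 : π u ∈ (⊥ : Subgroup (G ⧸ Z)) := h3 ▸ hUmem 1 u hu
    rw [Subgroup.mem_bot] at h4
    rw [h4, map_one, ← map_one (toAutHom (n := 2) (F := F)),
      ← map_one (uni (F := F)), ← ofAdd_zero] at hu
    exact one_ne_zero (A_uni_injective hu).symm
  have hin : ∀ {z : G} {b : F}, f (π z) = toAutHom (uni (Multiplicative.ofAdd b)) → z ∈ H :=
    fun hz => Subgroup.mem_comap.2 (Subgroup.le_normalizer (hUmem _ _ hz))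
  have hwu := h.le_centralizer hHtop (hin hu)
    (hmemH y fun b => ⟨τ b, by rw [hyq, semiAut_conj_uni]⟩) (hin hv) hyu hvu hyv
    (hmemH w fun b => ⟨(m : F) * m * b, by rw [hwq, tor_conj_uni]⟩)
  refine hm ?_
  have h1 := congrArg (fun z : G => f (π z)) (Subgroup.mem_centralizer_singleton_iff.1 hwu)
  simp only [map_mul, hwq, hu] at h1
  have h3 := tor_conj_uni m (1 : F)
  rw [← mul_inv_eq_iff_eq_mul] at h1
  rw [h1, mul_one] at h3
  exact (A_uni_injective h3).symm

theorem exists_equiv_psl :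
    ∃ (F : Type) (_ : Field F) (_ : Fintype F), Odd (Fintype.card F) ∧ 3 < Fintype.card F ∧
      ¬ 8 ∣ Nat.card G ∧ Nonempty (G ≃* Matrix.ProjectiveSpecialLinearGroup (Fin 2) F) := by
  classical
  haveI : Fact (Nat.Prime 2) := ⟨Nat.prime_two⟩
  set N := perfectCore (G ⧸ Z) with hN
  haveI := Cores.isPerfect_perfectCore (G ⧸ Z)
  have hNne : N ≠ ⊥ := fun e => h.nonsolvable_quotient (Cores.perfectCore_eq_bot_iff.1 e)
  haveI : Nontrivial N := (Subgroup.nontrivial_iff_ne_bot N).2 hNne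
  have hNle : ∀ K : Subgroup (G ⧸ Z), K.Normal → Odd K.index → N ≤ K := by
    intro K hK hi
    haveI : Group.IsSolvable ((G ⧸ Z) ⧸ K) := Cfsg.Agent.S0205.result (by rwa [← Subgroup.index_eq_card])
    have h1 : perfectCore ((G ⧸ Z) ⧸ K) = ⊥ := Cores.perfectCore_eq_bot_iff.2 inferInstance
    intro n hn
    refine (QuotientGroup.eq_one_iff n).1 ?_
    have h2 := Cores.map_perfectCore_le (QuotientGroup.mk' K) (Subgroup.mem_map_of_mem _ hn)
    rwa [h1, Subgroup.mem_bot] at h2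
  rcases h.quotient_cases with ⟨K, iK, iF, heven, ⟨e⟩⟩ | hd
  · exfalso
    refine h.false_of_even_psl heven e fun K' hK' hi => ?_
    rcases eq_or_ne N ⊤ with hT | hT
    · exact top_le_iff.1 (hT ▸ hNle K' hK' hi)
    · exfalso
      have h4 : 4 ≤ Fintype.card K := by
        by_contra hlt
        have h1 := Fintype.one_lt_card (α := K)
        obtain ⟨j, hj⟩ := heven
        refine h.nonsolvable_quotient (Cfsg.Agent.S0144.result 2 3 1 1 Nat.prime_two Nat.prime_three ?_)
        rw [Nat.card_congr e.toEquiv,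
          CfsgLib.ClassicalLinear.card_PSL_two_card_two (show Fintype.card K = 2 by omega)]
        norm_num
      haveI := CfsgLib.ClassicalLinear.isSimpleGroup_psl_fin (F := K) le_rfl
        fun _ => show 4 ≤ Nat.card K by rw [Nat.card_eq_fintype_card]; exact h4
      haveI : Nontrivial (G ⧸ Z) := (Subtype.val_injective (p := fun x => x ∈ N)).nontrivial
      haveI : IsSimpleGroup (G ⧸ Z) := IsSimpleGroup.isSimpleGroup_of_surjective
        (f := e.symm.toMonoidHom) e.symm.surjective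
      exact hT (((inferInstance : N.Normal).eq_bot_or_eq_top).resolve_left hNne)
  have hO := h.oddCore_quotient
  have hns := h.nonsolvable_quotient
  have hGW : GWApps.DihedralPerfect := fun X _ _ _ hdX => by
    obtain ⟨T, n, hn, he⟩ := hdX
    exact Cfsg.Agent.S0483.result T n hn he
  have hgw := GWApps.perfectCore_gw hGW hd hO hns
  have hCN := GWApps.centralizer_perfectCore_eq_bot hd hO hns
  have hTop : GW.IsGWTop N := by
    rcases hgw with ⟨F, iF, iT, ho, -, he⟩ | he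
    exacts [Or.inl ⟨F, iF, iT, ho, he⟩, Or.inr he]
  rcases GW.AutL.models N hCN hTop hd with
    ⟨F, iF, iT, hoddF, ⟨e⟩, h2, f, hf, hfN, hpre, hodd⟩ | ⟨-, -, f, hf, hr⟩
  swap
  · exact (h.no_alt_seven hd f hf hr).elim
  have hcard : 4 ≤ Fintype.card F := by
    by_contra hlt
    have h1 := Fintype.one_lt_card (α := F)
    obtain ⟨j, hj⟩ := hoddF
    refine Group.IsPerfect.not_isSolvable N
      (Cfsg.Agent.S0144.result 2 3 2 1 Nat.prime_two Nat.prime_three ?_)
    rw [Nat.card_congr e.toEquiv, CfsgLib.ClassicalLinear.card_PSL_two_card_three (by omega)]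
    norm_num
  have hfp := h.fieldPart_trivial h2 hcard hf e hpre hodd
  have hsq : ∀ q : G ⧸ Z, q * q ∈ N := by
    intro q
    obtain ⟨g, hg⟩ := fieldPart_eq_one_iff.1 (hfp q)
    have h1 : f (q * q) ∈ innG F := by
      rw [map_mul, ← hg, ← map_mul, A_mem_inn_iff, Units.val_mul, Matrix.det_mul]
      exact ⟨_, rfl⟩
    obtain ⟨n, hn, hne⟩ := hpre _ h1
    rwa [← hf hne]
  have hperf : ∀ K : Subgroup (G ⧸ Z), K.Normal → Odd K.index → K = ⊤ := by
    intro K hK hi
    refine (Subgroup.eq_top_iff' K).2 fun q => ?_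
    obtain ⟨j, hj⟩ := hi
    have h1 : q ^ K.index ∈ K := by haveI := hK; exact Subgroup.pow_index_mem K q
    have h2' : (q * q) ^ j ∈ K := hNle K hK ⟨j, hj⟩ (pow_mem (hsq q) j) |> id
    rw [hj, pow_succ, pow_mul, pow_two] at h1
    exact (Subgroup.mul_mem_cancel_left _ h2').1 h1
  have hgen : ∀ d : G ⧸ Z, d ≠ 1 → orderOf d ≠ 2 → ∀ a ∈ (CG(d) : Subgroup (G ⧸ Z)),
      ∀ b ∈ (CG(d) : Subgroup (G ⧸ Z)), a * b = b * a := by
    intro d hd1 hd2 a ha b hb
    obtain ⟨g, hg⟩ := fieldPart_eq_one_iff.1 (hfp d)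
    obtain ⟨a', ha'⟩ := fieldPart_eq_one_iff.1 (hfp a)
    obtain ⟨b', hb'⟩ := fieldPart_eq_one_iff.1 (hfp b)
    refine hf ?_
    rw [map_mul, map_mul, ← ha', ← hb']
    refine range_comm h2 (g := g) ?_ ?_ ?_ ?_
    · rw [hg]; exact fun e' => hd1 (hf (e'.trans (map_one f).symm))
    · rw [hg, orderOf_injective f hf]; exact hd2
    · rw [ha', hg, ← map_mul, ← map_mul, Subgroup.mem_centralizer_singleton_iff.1 ha]
    · rw [hb', hg, ← map_mul, ← map_mul, Subgroup.mem_centralizer_singleton_iff.1 hb]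
  have hS := h.sylow_two_comm hperf hgen
  have h8 : ¬ 8 ∣ Nat.card (G ⧸ Z) := not_eight_dvd hd fun T a ha b hb => by
    obtain ⟨S₀⟩ : Nonempty (Sylow 2 G) := inferInstance
    obtain ⟨c, rfl⟩ := MulAction.exists_smul_eq (G ⧸ Z)
      (S₀.mapSurjective (QuotientGroup.mk'_surjective Z)) T
    obtain ⟨_, ⟨a', ha', rfl⟩, rfl⟩ := ha
    obtain ⟨_, ⟨b', hb', rfl⟩, rfl⟩ := hb
    show c * π a' * c⁻¹ * (c * π b' * c⁻¹) = c * π b' * c⁻¹ * (c * π a' * c⁻¹)
    rw [show c * π a' * c⁻¹ * (c * π b' * c⁻¹) = c * (π a' * π b') * c⁻¹ by group, ← map_mul,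
      hS S₀ a' ha' b' hb', map_mul]
    group
  -- the central quotient is simple
  have hNtop : N = ⊤ := by
    obtain ⟨T, n, hn, ⟨eT⟩⟩ := GWApps.hasDihedralSylow_of_perfect hd N hNne
    have h4N : 4 ∣ Nat.card N := by
      refine Dvd.dvd.trans ?_ (T : Subgroup N).card_subgroup_dvd_card
      obtain ⟨k, hk⟩ := T.isPGroup'.exists_card_eq
      haveI : NeZero n := ⟨by omega⟩
      have h5 : 4 ≤ 2 ^ k := by
        rw [← hk, Nat.card_congr eT.toEquiv, DihedralGroup.nat_card]; omega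
      rw [hk]
      exact (pow_dvd_pow 2 (show 2 ≤ k by
        by_contra hlt
        interval_cases k <;> omega) : 2 ^ 2 ∣ 2 ^ k)
    refine (Subgroup.eq_top_iff' N).2 fun q => ?_
    by_contra hq
    have h2i : 2 ∣ N.index := by
      rw [Subgroup.index_eq_card]
      have ho : orderOf (q : (G ⧸ Z) ⧸ N) = 2 := orderOf_eq_prime (by
        rw [pow_two, ← QuotientGroup.mk_mul]; exact (QuotientGroup.eq_one_iff _).2 (hsq q))
        fun e' => hq ((QuotientGroup.eq_one_iff q).1 e')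
      exact ho ▸ orderOf_dvd_natCard _
    apply h8
    rw [← N.card_mul_index]
    exact (mul_dvd_mul h4N h2i : 4 * 2 ∣ _)
  set L := perfectCore G with hL
  haveI := Cores.isPerfect_perfectCore G
  have hLtop : ∀ g : G, ∃ l ∈ L, π l = π g := fun g => by
    have : π g ∈ L.map (π) := by rw [map_perfectCore, ← hN, hNtop]; exact Subgroup.mem_top _
    obtain ⟨l, hl, hle⟩ := this
    exact ⟨l, hl, hle⟩
  have h9 : Fintype.card F ≠ 9 := fun e9 => h8 (by
    rw [← N.card_mul_index, hNtop, Subgroup.index_top, mul_one, ← hNtop, Nat.card_congr e.toEquiv]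
    refine Dvd.dvd.trans (show 8 ∣ 360 by norm_num) ?_
    have h360 := CfsgLib.ClassicalLinear.card_PSL_two_of_odd e9 (by decide)
    norm_num at h360 ⊢
    omega)
  have hLZ : ∀ z ∈ L, z ∈ Z → z = 1 := by
    let σ : L →* Matrix.ProjectiveSpecialLinearGroup (Fin 2) F :=
      e.toMonoidHom.comp (((π).comp L.subtype).codRestrict N fun l =>
        map_perfectCore.le (Subgroup.mem_map_of_mem (π) l.2))
    have hσs : Function.Surjective σ := by
      intro y
      obtain ⟨x, hx, hxe⟩ := map_perfectCore.ge (e.symm y).2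
      exact ⟨⟨x, hx⟩, (congrArg e (Subtype.ext hxe)).trans (e.apply_symm_apply y)⟩
    have hker : ∀ l : L, l ∈ σ.ker ↔ (l : G) ∈ Z := fun l => by
      rw [MonoidHom.mem_ker]
      exact e.map_eq_one_iff.trans (Subtype.ext_iff.trans map_eq_one)
    have htwo := card_ker_dvd_two (Group.IsPerfect.commutator_eq_top (G := L)) hoddF hcard h9 σ hσs
      fun l hl => Subgroup.mem_center_iff.2 fun m =>
        Subtype.ext (Subgroup.mem_center_iff.1 ((hker l).1 hl) m)
    intro z hzL hz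
    set zl : L := ⟨z, hzL⟩
    have hz2 : zl ^ 2 = 1 := orderOf_dvd_iff_pow_eq_one.1
      ((Subgroup.orderOf_dvd_natCard σ.ker ((hker zl).2 hz)).trans htwo)
    have hp2 : IsPGroup 2 (Subgroup.zpowers zl) := by
      obtain ⟨k, -, hk⟩ := (Nat.dvd_prime_pow Nat.prime_two).1
        (orderOf_dvd_of_pow_eq_one (x := zl) (n := 2 ^ 1) (by rw [pow_one]; exact hz2))
      exact IsPGroup.of_card (n := k) (by rw [Nat.card_zpowers, hk])
    obtain ⟨T, hT⟩ := hp2.exists_le_sylow
    obtain ⟨T', hT'⟩ := (T.isPGroup'.map L.subtype).exists_le_sylow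
    letI : CommGroup (T : Subgroup L) := { (inferInstance : Group (T : Subgroup L)) with
      mul_comm := fun a b => Subtype.ext (Subtype.ext
        (hS T' _ (hT' ⟨a, a.2, rfl⟩) _ (hT' ⟨b, b.2, rfl⟩))) }
    have hzc : ∀ g : L, g * zl = zl * g := fun g => Subtype.ext (Subgroup.mem_center_iff.1 hz g)
    set ψ : L →* (T : Subgroup L) := MonoidHom.transfer (MonoidHom.id _) with hψ
    have hψ1 : ψ zl = 1 := by
      have h1 : commutator L ≤ ψ.ker := Abelianization.commutator_subset_ker ψ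
      rw [Group.IsPerfect.commutator_eq_top] at h1
      exact h1 (Subgroup.mem_top zl)
    rw [hψ, MonoidHom.transfer_eq_pow _ _ (fun k g₀ _ => by
      rw [mul_assoc, ← (show Commute g₀ (zl ^ k) from (show Commute g₀ zl from hzc g₀).pow_right k).eq,
        inv_mul_cancel_left])] at hψ1
    have h3 : zl ^ (T : Subgroup L).index = 1 := congrArg Subtype.val hψ1
    have hodd' : Odd (T : Subgroup L).index := Nat.not_even_iff_odd.1 fun he => T.not_dvd_index he.two_dvd
    obtain ⟨j, hj⟩ := hodd'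
    rw [hj, pow_succ, pow_mul, hz2, one_pow, one_mul] at h3
    exact congrArg Subtype.val h3
  have hZL : L = ⊤ := by
    by_contra hne
    obtain ⟨x, hx⟩ := h.ex
    obtain ⟨a, ha, b, hb, hab⟩ := hx.2
    obtain ⟨l, hl, hle⟩ := hLtop x
    obtain ⟨la, hla, hlae⟩ := hLtop a
    obtain ⟨lb, hlb, hlbe⟩ := hLtop b
    have key : ∀ {w lw : G}, π lw = π w → w * x = x * w → lw * l = l * lw := fun {w lw} e' e'' =>
      commute_of_map_eq e' (commute_of_map_eq hle e''.symm).symm
    have hcl := h.ca L hne l hl la hla lb hlb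
      (key hlae (Subgroup.mem_centralizer_singleton_iff.1 ha))
      (key hlbe (Subgroup.mem_centralizer_singleton_iff.1 hb))
      (fun e' => hab (commute_of_map_eq hlae.symm (commute_of_map_eq hlbe.symm e'.symm).symm))
    have hlz : l ∈ Z := Subgroup.mem_center_iff.2 fun g => by
      obtain ⟨m, hm, hme⟩ := hLtop g
      exact commute_of_map_eq hme.symm (hcl m hm)
    exact hx.1 (map_eq_one.1 (hle.symm.trans (map_eq_one.2 hlz)))
  have hZ : Z = ⊥ := (Subgroup.eq_bot_iff_forall _).2 fun z hz => hLZ z (hZL ▸ Subgroup.mem_top z) hz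
  refine ⟨F, iF, iT, hoddF, by omega, ?_, ⟨?_⟩⟩
  · intro h8'
    apply h8
    rw [← Subgroup.index_eq_card, hZ, Subgroup.index_bot]
    exact h8'
  · exact ((QuotientGroup.quotientBot (G := G)).symm.trans
      ((QuotientGroup.quotientMulEquivOfEq hZ.symm).trans
        ((Subgroup.topEquiv (G := G ⧸ Z)).symm.trans (MulEquiv.subgroupCongr hNtop.symm)))).trans e

end MNC

end CfsgLib.MinNonCA
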