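import Cfsg.Agent.Lib.AbelianTwo.Homocyclic
import Cfsg.Agent.Lib.TwoFusion.RankTwoClassify
import Cfsg.Agent.Lib.TwoGroups.Automizer
import Cfsg.Agent.Lib.OutAut.CAInvBasic
import Cfsg.Agent.Lib.GWApps.GenDihedralMain
import Cfsg.Agent.Lib.FrobSystem.Basic
import Cfsg.Agent.S0949

/-!
An abelian Sylow 2-subgroup, centralizers of involutions with normal 2-complements, trivial odd core:
the Sylow subgroup is elementary abelian, and is either of rank at least three or a four-group.
-/

set_option autoImplicit false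
set_option linter.style.haveILetI false
open Cfsg

namespace CfsgLib.MinNonCA

universe u

variable {X : Type u} [Group X] [Finite X]

theorem four_sq : ∀ b : Multiplicative (ZMod 2 × ZMod 2), b * b = 1 := by decide

theorem not_normal_sylow_two (hns : ¬ Group.IsSolvable X) (P : Sylow 2 X) :
    ¬ (P : Subgroup X).Normal := by
  intro hn
  haveI : Fact (Nat.Prime 2) := ⟨Nat.prime_two⟩
  haveI := hn
  haveI : Group.IsSolvable (Subgroup.normalizer ((P : Subgroup X) : Set X)) :=
    FrobSystem.isSolvable_sylow_normalizer P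
  refine hns (solvable_of_surjective
    (f := (Subgroup.normalizer ((P : Subgroup X) : Set X)).subtype) fun g => ?_)
  exact ⟨⟨g, by rw [Subgroup.normalizer_eq_top]; exact Subgroup.mem_top g⟩, rfl⟩

/-- An element of odd order normalizing a Sylow 2-subgroup without centralizing it, if the group is
not solvable. -/
theorem exists_odd_moving (hns : ¬ Group.IsSolvable X) (P : Sylow 2 X)
    (hc : ∀ a ∈ (P : Subgroup X), ∀ b ∈ (P : Subgroup X), a * b = b * a) :
    ∃ n ∈ Subgroup.normalizer ((P : Subgroup X) : Set X),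
      Odd (orderOf n) ∧ n ∉ Subgroup.centralizer ((P : Subgroup X) : Set X) := by
  haveI : Fact (Nat.Prime 2) := ⟨Nat.prime_two⟩
  by_contra hcon
  push Not at hcon
  refine hns (FrobSystem.isSolvable_of_normalizer_le_centralizer P fun n hn => ?_)
  obtain ⟨e, m, hm, he⟩ := Nat.exists_eq_pow_mul_and_not_dvd (orderOf_pos n).ne' 2 (by norm_num)
  have hodd : Odd m := Nat.not_even_iff_odd.1 fun h => hm h.two_dvd
  have h1 : n ^ 2 ^ e ∈ Subgroup.centralizer ((P : Subgroup X) : Set X) :=
    hcon _ (pow_mem hn _) (hodd.of_dvd_nat (orderOf_dvd_of_pow_eq_one (by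
      rw [← pow_mul, ← he, pow_orderOf_eq_one])))
  have hpm : n ^ m ∈ (P : Subgroup X) := by
    have h2 : IsPGroup 2 (Subgroup.zpowers (n ^ m)) := by
      refine IsPGroup.of_card (n := Nat.log 2 (Nat.card (Subgroup.zpowers (n ^ m)))) ?_
      obtain ⟨k, -, hk⟩ := (Nat.dvd_prime_pow Nat.prime_two).1
        (orderOf_dvd_of_pow_eq_one (x := n ^ m) (n := 2 ^ e) (by
          rw [← pow_mul, mul_comm, ← he, pow_orderOf_eq_one]))
      rw [Nat.card_zpowers, hk, Nat.log_pow (by norm_num)]
    have h5 := (h2.inf_normalizer_sylow P).le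
      ⟨Subgroup.mem_zpowers (n ^ m), pow_mem hn m⟩
    exact h5.2
  have h3 : n ^ m ∈ Subgroup.centralizer ((P : Subgroup X) : Set X) :=
    Subgroup.mem_centralizer_iff.2 fun a ha => hc a ha _ hpm
  have h4 := Subgroup.mul_mem _ (Subgroup.zpow_mem _ h1 (Nat.gcdA (2 ^ e) m))
    (Subgroup.zpow_mem _ h3 (Nat.gcdB (2 ^ e) m))
  rw [← zpow_natCast n (2 ^ e), ← zpow_natCast n m, ← zpow_mul, ← zpow_mul, ← zpow_add,
    ← Nat.gcd_eq_gcd_ab, Nat.Coprime.gcd_eq_one ((Nat.coprime_two_left.2 hodd).pow_left e)] at h4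
  simpa using h4

theorem abelian_sylow_cases (hns : ¬ Group.IsSolvable X) (hO : oddCore X = ⊥) (P : Sylow 2 X)
    (hc : ∀ a ∈ (P : Subgroup X), ∀ b ∈ (P : Subgroup X), a * b = b * a)
    (hn : ∀ x : X, orderOf x = 2 → ∀ y ∈ Subgroup.centralizer ({x} : Set X), Odd (orderOf y) →
      y ∈ Cfsg.centralizerPPrimeCore 2 x) :
    (∀ a ∈ (P : Subgroup X), a * a = 1) ∧ (AbelianTwo.Hyp P ∨ GW.HasDihedralSylow X) := by
  classical
  haveI : Fact (Nat.Prime 2) := ⟨Nat.prime_two⟩
  by_cases hr : ∃ E : Subgroup X, E ≤ (P : Subgroup X) ∧ (∀ e ∈ E, e * e = 1) ∧ 8 ≤ Nat.card E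
  · have h : AbelianTwo.Hyp P := ⟨hc, hr, hn, hO⟩
    exact ⟨fun a ha => h.mul_self_eq_one_of_not_normal (not_normal_sylow_two hns P) ha, Or.inl h⟩
  letI : CommGroup (P : Subgroup X) :=
    { (inferInstance : Group (P : Subgroup X)) with
      mul_comm := fun a b => Subtype.ext (hc a a.2 b b.2) }
  have hP2 : Cfsg.PRankLE 2 2 (P : Subgroup X) := by
    intro A _ hA
    by_contra hlt
    obtain ⟨k, hk⟩ := (IsPGroup.of_injective P.isPGroup' A.subtype A.subtype_injective).exists_card_eq
    refine hr ⟨A.map (P : Subgroup X).subtype, Subgroup.map_subtype_le _, ?_, ?_⟩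
    · rintro _ ⟨a, ha, rfl⟩
      rw [← map_mul, ← pow_two, hA a ha, map_one]
    · rw [Subgroup.card_map_of_injective (P : Subgroup X).subtype_injective, hk]
      rw [hk] at hlt
      rcases lt_or_ge k 3 with h | h
      · interval_cases k <;> exact absurd hlt (by norm_num)
      · exact (Nat.pow_le_pow_right (show 0 < 2 by norm_num) h : 2 ^ 3 ≤ 2 ^ k)
  have hnc : ¬ IsCyclic (P : Subgroup X) := fun h =>
    hns (GWApps.GenDihedral.isSolvable_of_cyclic_sylow P h)
  have hP1 : ¬ Cfsg.PRankLE 2 1 (P : Subgroup X) := fun h1 => hnc (by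
    refine OutAut.isCyclic_of_one_involution P.isPGroup' fun s t hs ht hs1 ht1 => ?_
    by_contra hst
    have h2 := h1 (Subgroup.closure {s, t}) inferInstance (fun a ha => by
      induction ha using Subgroup.closure_induction with
      | mem x hx => rcases hx with rfl | rfl <;> rw [pow_two] <;> assumption
      | one => exact one_pow 2
      | mul x y _ _ hx hy => rw [mul_pow, hx, hy, one_mul]
      | inv x _ hx => rw [inv_pow, hx, inv_one])
    haveI := Fintype.ofFinite (Subgroup.closure {s, t} : Subgroup (P : Subgroup X))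
    rw [Nat.card_eq_fintype_card, pow_one] at h2
    refine absurd h2 (Nat.not_le.2 (Fintype.two_lt_card_iff.2
      ⟨1, ⟨s, Subgroup.subset_closure (by simp)⟩, ⟨t, Subgroup.subset_closure (by simp)⟩,
        fun e => hs1 (congrArg Subtype.val e).symm, fun e => ht1 (congrArg Subtype.val e).symm,
        fun e => hst (congrArg Subtype.val e)⟩)))
  obtain ⟨n, hnN, hnodd, hnC⟩ := exists_odd_moving hns P hc
  let φ : MulAut (P : Subgroup X) := (P : Subgroup X).normalizerMonoidHom ⟨n, hnN⟩
  have hφk : φ ^ orderOf n = 1 := by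
    rw [← map_pow, ← map_one (P : Subgroup X).normalizerMonoidHom]
    exact congrArg _ (Subtype.ext (by simp [pow_orderOf_eq_one]))
  have hφ1 : φ ≠ 1 := fun e => hnC (Subgroup.mem_centralizer_iff.2 fun a ha => by
    have h0 := congrArg Subtype.val (DFunLike.congr_fun e (⟨a, ha⟩ : (P : Subgroup X)))
    have h1 : n * a * n⁻¹ = a := h0
    exact (mul_inv_eq_iff_eq_mul.1 h1).symm)
  obtain ⟨s, hs, hsm⟩ : ∃ s : (P : Subgroup X), orderOf s = 2 ∧ φ s ≠ s := by
    by_contra hcon
    push Not at hcon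
    exact hφ1 (TwoGroups.eq_one_of_fixes_involutions
      ⟨⟨mul_comm⟩⟩ P.isPGroup' hnodd hφk hcon)
  have hinv : ∀ t : (P : Subgroup X), orderOf t = 2 → ∃ k : ℕ, (φ ^ k) s = t := by
    intro t ht
    by_contra hne
    push Not at hne
    have hne2 : φ (φ s) ≠ s := by
      intro e
      obtain ⟨j, hj⟩ := hnodd
      have h1 : ∀ i, (φ ^ (2 * i)) s = s := by
        intro i
        induction i with
        | zero => simp
        | succ i ih =>
          rw [show 2 * (i + 1) = 2 * i + 1 + 1 by ring, pow_succ, pow_succ, MulAut.mul_apply,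
            MulAut.mul_apply, e, ih]
      have h2 := h1 (j + 1)
      rw [show 2 * (j + 1) = orderOf n + 1 by omega, pow_succ, MulAut.mul_apply, hφk,
        MulAut.one_apply] at h2
      exact hsm h2
    let V : Subgroup (P : Subgroup X) :=
      { carrier := {a | a ^ 2 = 1}
        one_mem' := one_pow 2
        mul_mem' := fun {a b} ha hb => by
          show (a * b) ^ 2 = 1
          rw [mul_pow, show a ^ 2 = 1 from ha, show b ^ 2 = 1 from hb, one_mul]
        inv_mem' := fun {a} ha => by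
          show a⁻¹ ^ 2 = 1
          rw [inv_pow, show a ^ 2 = 1 from ha, inv_one] }
    have hV := hP2 V inferInstance fun a ha => ha
    have hmem : ∀ {a : (P : Subgroup X)}, orderOf a = 2 → a ∈ V := fun {a} ha =>
      show a ^ 2 = 1 from orderOf_dvd_iff_pow_eq_one.1 (dvd_of_eq ha)
    have hord : ∀ k, orderOf ((φ ^ k) s) = 2 := fun k => by rw [MulEquiv.orderOf_eq, hs]
    haveI := Fintype.ofFinite V
    rw [Nat.card_eq_fintype_card] at hV
    have h4 : ({(1 : V), ⟨s, hmem hs⟩, ⟨φ s, hmem (by rw [MulEquiv.orderOf_eq, hs])⟩,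
        ⟨φ (φ s), hmem (by rw [MulEquiv.orderOf_eq, MulEquiv.orderOf_eq, hs])⟩,
        ⟨t, hmem ht⟩} : Finset V).card = 5 := by
      have h01 : s ≠ 1 := fun e => by rw [e, orderOf_one] at hs; omega
      have h02 : φ s ≠ 1 := fun e => h01 (φ.map_eq_one_iff.1 e)
      have h03 : φ (φ s) ≠ 1 := fun e => h02 (φ.map_eq_one_iff.1 e)
      have h04 : t ≠ 1 := fun e => by rw [e, orderOf_one] at ht; omega
      have h23 : φ (φ s) ≠ φ s := fun e => hsm (φ.injective e)
      have t0 := hne 0
      have t1 := hne 1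
      have t2 := hne 2
      simp only [pow_zero, pow_one, pow_two, MulAut.one_apply, MulAut.mul_apply] at t0 t1 t2
      simp [Finset.card_insert_of_notMem, Subtype.ext_iff, h01.symm, h02.symm, h03.symm, h04.symm,
        hsm.symm, hne2.symm, h23.symm, t0, t1, t2]
    have := (Finset.card_le_univ
      ({(1 : V), ⟨s, hmem hs⟩, ⟨φ s, hmem (by rw [MulEquiv.orderOf_eq, hs])⟩,
        ⟨φ (φ s), hmem (by rw [MulEquiv.orderOf_eq, MulEquiv.orderOf_eq, hs])⟩,
        ⟨t, hmem ht⟩} : Finset V))
    omega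
  have htrans : ∀ a b : (P : Subgroup X), orderOf a = 2 → orderOf b = 2 →
      ∃ k : ℕ, (φ ^ k) a = b := by
    intro a b ha hb
    obtain ⟨i, rfl⟩ := hinv a ha
    obtain ⟨j, rfl⟩ := hinv b hb
    refine ⟨j + (orderOf n * i - i), ?_⟩
    rw [← MulAut.mul_apply, ← pow_add]
    have : 1 ≤ orderOf n := orderOf_pos n
    rw [show j + (orderOf n * i - i) + i = j + orderOf n * i by
      have : i ≤ orderOf n * i := Nat.le_mul_of_pos_left i (by omega)
      omega, pow_add, pow_mul, hφk, one_pow, mul_one]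
  obtain ⟨β, hβ⟩ := TwoFusion.RankTwo.exists_tri P.isPGroup' hP2 hP1 φ htrans
  obtain ⟨m, hm, ⟨e⟩⟩ := hβ.homocyclic mul_comm
  rcases Nat.lt_or_ge m 2 with h | h
  · obtain rfl : m = 1 := by omega
    have hsq : ∀ a : (P : Subgroup X), a * a = 1 := fun a => e.injective (by
      rw [map_mul, map_one]
      exact four_sq _)
    haveI : IsKleinFour (P : Subgroup X) := by
      refine { card_four := ?_, exponent_two := ?_ }
      · rw [Nat.card_congr e.toEquiv, Nat.card_congr Multiplicative.toAdd, Nat.card_prod,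
          Nat.card_zmod]
        norm_num
      · exact (Monoid.exponent_eq_of_mulEquiv e).trans (by
          show Monoid.exponent (Multiplicative (ZMod 2 × ZMod 2)) = 2
          simp [Monoid.exponent_multiplicative, AddMonoid.exponent_prod])
    exact ⟨fun a ha => congrArg Subtype.val (hsq ⟨a, ha⟩), Or.inr ⟨P, 2, le_rfl,
      IsKleinFour.nonempty_mulEquiv⟩⟩
  · exact absurd (Cfsg.Agent.S0949.result P m h e fun N hN ho =>
      CfsgLib.Cores.oddCore_eq_bot_iff.1 hO N hN ho).1 (not_normal_sylow_two hns P)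

end CfsgLib.MinNonCA
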