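import Mathlib

/-!
Images of groups in which the centralizers of the elements outside the kernel are abelian: if the
Sylow subgroups of the image are cyclic and its subgroups of order `p r` are cyclic, it is abelian.
-/

set_option autoImplicit false
set_option linter.style.haveILetI false

namespace CfsgLib.MinNonCA

variable {H : Type*} [Group H] [Finite H]

/-- An element normalizing and centralizing as required on all prime power parts. -/
theorem mem_of_prime_pow {N C : Subgroup H}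
    (h : ∀ (r : ℕ), r.Prime → ∀ g ∈ N, (∃ k, orderOf g = r ^ k) → g ∈ C) : N ≤ C := by
  suffices ∀ n : ℕ, ∀ g ∈ N, orderOf g = n → g ∈ C from fun g hg => this _ g hg rfl
  intro n
  induction n using Nat.recOnPosPrimePosCoprime with
  | prime_pow p k hp hk => exact fun g hg hn => h p hp g hg ⟨k, hn⟩
  | zero => exact fun g _ hn => absurd hn (orderOf_pos g).ne'
  | one => exact fun g _ hn => by rw [orderOf_eq_one_iff.1 hn]; exact one_mem _
  | coprime a b ha hb hab iha ihb =>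
    intro g hg hn
    have h1 : g ^ a ∈ C := ihb _ (pow_mem hg a) (by
      rw [orderOf_pow_of_dvd (by omega) (hn ▸ Dvd.intro b rfl), hn, Nat.mul_div_cancel_left _ (by omega)])
    have h2 : g ^ b ∈ C := iha _ (pow_mem hg b) (by
      rw [orderOf_pow_of_dvd (by omega) (hn ▸ Dvd.intro_left a rfl), hn, Nat.mul_div_cancel _ (by omega)])
    have h4 := C.mul_mem (C.zpow_mem h1 (Nat.gcdA a b)) (C.zpow_mem h2 (Nat.gcdB a b))
    rw [← zpow_natCast g a, ← zpow_natCast g b, ← zpow_mul, ← zpow_mul, ← zpow_add,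
      ← Nat.gcd_eq_gcd_ab, hab.gcd_eq_one] at h4
    simpa using h4

omit [Finite H] in
/-- An element fixing the elements of order `p` of an abelian group generated by `c` and normalized
by it has a `p`-power fixing `c`. -/
theorem exists_pow_commute {p : ℕ} {g : H} : ∀ (i : ℕ) (c : H), c ^ p ^ i = 1 →
    (∀ a ∈ Subgroup.zpowers c, a ^ p = 1 → g * a = a * g) →
    g * c * g⁻¹ ∈ Subgroup.zpowers c → ∃ j : ℕ, g ^ p ^ j * c = c * g ^ p ^ j := by
  intro i
  induction i with
  | zero =>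
    intro c hc _ _
    rw [pow_zero, pow_one] at hc
    exact ⟨0, by simp [hc]⟩
  | succ i ih =>
    intro c hc hfix hn
    have hle : Subgroup.zpowers (c ^ p) ≤ Subgroup.zpowers c :=
      Subgroup.zpowers_le.2 (pow_mem (Subgroup.mem_zpowers c) p)
    obtain ⟨m, hm⟩ := hn
    obtain ⟨j, hj⟩ := ih (c ^ p) (by rw [← pow_mul, ← pow_succ']; exact hc)
      (fun a ha => hfix a (hle ha)) ⟨m, by
        show (c ^ p) ^ m = g * c ^ p * g⁻¹
        rw [← conj_pow, show g * c * g⁻¹ = c ^ m from hm.symm, ← zpow_natCast c p, ← zpow_mul,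
          ← zpow_natCast (c ^ m) p, ← zpow_mul, mul_comm]⟩
    have hN : ∀ (a : ℕ), g ^ a * c * (g ^ a)⁻¹ ∈ Subgroup.zpowers c := by
      intro a
      induction a with
      | zero => simp
      | succ a ih' =>
        obtain ⟨k, hk⟩ := ih'
        rw [pow_succ', show g * g ^ a * c * (g * g ^ a)⁻¹ = g * (g ^ a * c * (g ^ a)⁻¹) * g⁻¹ by
          group, show g ^ a * c * (g ^ a)⁻¹ = c ^ k from hk.symm, ← conj_zpow,
          show g * c * g⁻¹ = c ^ m from hm.symm]
        exact zpow_mem (zpow_mem (Subgroup.mem_zpowers c) m) k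
    set q := g ^ p ^ j with hq
    have hd : c⁻¹ * (q * c * q⁻¹) ∈ Subgroup.zpowers c :=
      mul_mem (inv_mem (Subgroup.mem_zpowers c)) (hN _)
    set d := c⁻¹ * (q * c * q⁻¹) with hdef
    have hdp : d ^ p = 1 := by
      obtain ⟨k, hk⟩ := hN (p ^ j)
      have hk' : c ^ k = q * c * q⁻¹ := hk
      rw [hdef, ← hk', (((Commute.refl c).zpow_right k).inv_left).mul_pow, inv_pow, hk', conj_pow,
        hj, mul_inv_cancel_right, inv_mul_cancel]
    have hqd : q * d = d * q := ((Commute.pow_left (hfix d hd hdp) _))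
    have hqc : q * c * q⁻¹ = c * d := by rw [hdef]; group
    have hit : ∀ a : ℕ, q ^ a * c * (q ^ a)⁻¹ = c * d ^ a := by
      intro a
      induction a with
      | zero => simp
      | succ a ih' =>
        rw [pow_succ', show q * q ^ a * c * (q * q ^ a)⁻¹ = q * (q ^ a * c * (q ^ a)⁻¹) * q⁻¹ by
          group, ih', show q * (c * d ^ a) * q⁻¹ = (q * c * q⁻¹) * (q * d ^ a * q⁻¹) by group, hqc,
          (Commute.pow_right hqd a).eq, mul_inv_cancel_right, mul_assoc, ← pow_succ']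
    refine ⟨j + 1, ?_⟩
    have h1 := hit p
    rw [hdp, mul_one, ← pow_mul, ← pow_succ] at h1
    exact mul_inv_eq_iff_eq_mul.1 h1

theorem mem_zpowers_of_pow_prime {p : ℕ} (hp : p.Prime) [IsCyclic H] {a d : H} (ha : orderOf a = p)
    (hd : d ^ p = 1) : d ∈ Subgroup.zpowers a := by
  classical
  haveI := Fintype.ofFinite H
  have h1 : (Subgroup.zpowers a : Set H).toFinset = Finset.univ.filter fun x : H => x ^ p = 1 := by
    refine Finset.eq_of_subset_of_card_le (fun x hx => Finset.mem_filter.2 ⟨Finset.mem_univ _, ?_⟩) ?_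
    · obtain ⟨n, rfl⟩ := Set.mem_toFinset.1 hx
      show (a ^ n) ^ p = 1
      rw [← zpow_natCast, ← zpow_mul, mul_comm, zpow_mul, zpow_natCast, ← ha, pow_orderOf_eq_one,
        one_zpow]
    · rw [Set.toFinset_card, ← Nat.card_eq_fintype_card]
      refine (IsCyclic.card_pow_eq_one_le hp.pos).trans ?_
      rw [SetLike.coe_sort_coe, Nat.card_zpowers, ha]
  have h2 : d ∈ (Subgroup.zpowers a : Set H).toFinset := h1 ▸ Finset.mem_filter.2 ⟨Finset.mem_univ _, hd⟩
  exact Set.mem_toFinset.1 h2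

/-- A group with cyclic Sylow subgroups in which every prime power element commutes with the elements
of prime order whose subgroup it normalizes is abelian. -/
theorem comm_of_cyclic_sylow (hcyc : ∀ (p : ℕ) [Fact p.Prime] (P : Sylow p H), IsCyclic P)
    (hpr : ∀ p r : ℕ, p.Prime → r.Prime → p ≠ r → ∀ a b : H, orderOf a = p →
      (∃ k, orderOf b = r ^ k) → b * a * b⁻¹ ∈ Subgroup.zpowers a → b * a = a * b) :
    ∀ a b : H, a * b = b * a := by
  classical
  have hNC : ∀ (p : ℕ) [Fact p.Prime] (P : Sylow p H),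
      Subgroup.normalizer ((P : Subgroup H) : Set H) ≤ Subgroup.centralizer ((P : Subgroup H) : Set H) := by
    intro p _ P
    haveI := hcyc p P
    refine mem_of_prime_pow fun r hr g hg hgk => Subgroup.mem_centralizer_iff.2 fun c hc => ?_
    have hcomm : ∀ x ∈ (P : Subgroup H), ∀ y ∈ (P : Subgroup H), x * y = y * x := fun x hx y hy =>
      congrArg Subtype.val (mul_comm' (⟨x, hx⟩ : (P : Subgroup H)) ⟨y, hy⟩)
    obtain ⟨k, hk⟩ := hgk
    by_cases hrp : r = p
    · subst hrp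
      have h2 : IsPGroup r (Subgroup.zpowers g) := IsPGroup.of_card (n := k) (by
        rw [Nat.card_zpowers, hk])
      exact hcomm c hc g ((h2.inf_normalizer_sylow P).le ⟨Subgroup.mem_zpowers g, hg⟩).2
    obtain ⟨c₀, hc₀⟩ := IsCyclic.exists_generator (α := (P : Subgroup H))
    obtain ⟨i, hi⟩ := IsPGroup.iff_orderOf.1 P.isPGroup' c₀
    have hcP : ∀ x ∈ Subgroup.zpowers (c₀ : H), x ∈ (P : Subgroup H) := fun x hx =>
      (Subgroup.zpowers_le.2 c₀.2) hx
    have hPc : ∀ x ∈ (P : Subgroup H), x ∈ Subgroup.zpowers (c₀ : H) := fun x hx => by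
      obtain ⟨n, hn⟩ := hc₀ ⟨x, hx⟩
      exact ⟨n, by simpa using congrArg Subtype.val hn⟩
    obtain ⟨j, hj⟩ := exists_pow_commute (p := p) (g := g) i (c₀ : H)
      (by rw [← hi, ← Subgroup.orderOf_coe, pow_orderOf_eq_one])
      (fun a ha hap => by
        rcases eq_or_ne a 1 with rfl | ha1
        · simp
        have hao : orderOf a = p := orderOf_eq_prime hap ha1
        have hga : g * a * g⁻¹ ∈ (P : Subgroup H) :=
          (Subgroup.mem_normalizer_iff.1 hg a).1 (hcP a ha)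
        refine hpr p r Fact.out hr (Ne.symm hrp) a g hao ⟨k, hk⟩ ?_
        obtain ⟨n, hn⟩ := mem_zpowers_of_pow_prime (H := (P : Subgroup H)) Fact.out
          (a := ⟨a, hcP a ha⟩) (d := ⟨g * a * g⁻¹, hga⟩) (by rw [Subgroup.orderOf_mk, hao])
          (Subtype.ext (by simp [conj_pow, hap]))
        exact ⟨n, by simpa using congrArg Subtype.val hn⟩)
      (hPc _ ((Subgroup.mem_normalizer_iff.1 hg _).1 c₀.2))
    have hgc : g * (c₀ : H) = (c₀ : H) * g := by
      have hcop : (p ^ j).Coprime (orderOf g) := by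
        rw [hk]
        exact ((Nat.coprime_primes Fact.out hr).2 (Ne.symm hrp)).pow _ _
      have hmem : g ∈ Subgroup.centralizer ({(c₀ : H)} : Set H) := by
        obtain ⟨n, hn⟩ := exists_pow_eq_self_of_coprime hcop
        rw [← hn]
        exact pow_mem (Subgroup.mem_centralizer_singleton_iff.2 hj) n
      exact Subgroup.mem_centralizer_singleton_iff.1 hmem
    obtain ⟨n, rfl⟩ := hPc c hc
    exact ((show Commute g (c₀ : H) from hgc).zpow_right n).eq.symm
  intro a b
  by_contra hab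
  have hne : a * b * a⁻¹ * b⁻¹ ≠ 1 := fun e => hab (by
    calc a * b = a * b * a⁻¹ * b⁻¹ * (b * a) := by group
      _ = b * a := by rw [e, one_mul])
  obtain ⟨p, hp, hdvd⟩ := Nat.exists_prime_and_dvd (fun e => hne (orderOf_eq_one_iff.1 e))
  haveI := Fact.mk hp
  obtain ⟨P⟩ : Nonempty (Sylow p H) := inferInstance
  haveI := hcyc p P
  set φ := MonoidHom.transferSylow P (hNC p P)
  have hker : a * b * a⁻¹ * b⁻¹ ∈ φ.ker := by
    rw [MonoidHom.mem_ker, map_mul, map_mul, map_mul, map_inv, map_inv,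
      mul_comm' (φ a) (φ b)]
    simp
  exact MonoidHom.not_dvd_card_ker_transferSylow P (hNC p P)
    (hdvd.trans (Subgroup.orderOf_dvd_natCard _ hker))

variable {M A : Type*} [Group M] [Finite M] [Group A]

theorem pr_comm_normal (F : M →* A)
    (hc : ∀ c u v : M, F c ≠ 1 → u * c = c * u → v * c = c * v → u * v = v * u)
    {p r : ℕ} (hp : p.Prime) (hr : r.Prime) (hpr : p ≠ r) {a b : A} (hna : (Subgroup.zpowers a).Normal)
    (ha : orderOf a = p) (hb : ∃ k, orderOf b = r ^ k) (haR : a ∈ F.range) (hbR : b ∈ F.range)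
    (hpq : ∀ c ∈ F.range, orderOf c = r → c * a * c⁻¹ ∈ Subgroup.zpowers a → c * a = a * c) :
    b * a = a * b := by
  classical
  haveI := Fact.mk hp
  haveI := Fact.mk hr
  obtain ⟨k, hk⟩ := hb
  rcases k with _ | k
  · rw [pow_zero, orderOf_eq_one_iff] at hk
    rw [hk]; simp
  obtain ⟨α, rfl⟩ := haR
  obtain ⟨β, rfl⟩ := hbR
  set Mk : Subgroup M := (Subgroup.zpowers (F α)).comap F with hMk
  haveI : Mk.Normal := hna.comap F
  obtain ⟨P₀⟩ : Nonempty (Sylow p Mk) := inferInstance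
  set P₁ : Subgroup M := (P₀ : Subgroup Mk).map Mk.subtype with hP₁
  have hP1p : IsPGroup p P₁ := P₀.isPGroup'.map _
  have hαM : α ∈ Mk := Subgroup.mem_zpowers (F α)
  -- a lift of `a` in the Sylow subgroup
  obtain ⟨π₀, hπ₀, hπ₀a⟩ : ∃ π₀ ∈ P₁, F π₀ = F α := by
    obtain ⟨e, m, hm, he⟩ := Nat.exists_eq_pow_mul_and_not_dvd (orderOf_pos α).ne' p hp.one_lt.ne'
    obtain ⟨n, hn⟩ : ∃ n, (F α ^ m) ^ n = F α :=
      exists_pow_eq_self_of_coprime (by
        rw [ha]; exact ((Nat.Prime.coprime_iff_not_dvd hp).2 hm).symm)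
    set w : Mk := ⟨(α ^ m) ^ n, pow_mem (pow_mem hαM m) n⟩ with hw
    have hwp : IsPGroup p (Subgroup.zpowers w) := by
      have : (w : M) ^ p ^ e = 1 := by
        show ((α ^ m) ^ n) ^ p ^ e = 1
        rw [← pow_mul, ← pow_mul, show m * (n * p ^ e) = p ^ e * m * n by ring, pow_mul, ← he,
          pow_orderOf_eq_one, one_pow]
      obtain ⟨j, -, hj⟩ := (Nat.dvd_prime_pow hp).1
        (orderOf_dvd_of_pow_eq_one (Subtype.ext this : w ^ p ^ e = 1))
      exact IsPGroup.of_card (n := j) (by rw [Nat.card_zpowers, hj])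
    obtain ⟨Q, hQ⟩ := hwp.exists_le_sylow
    obtain ⟨g, hg⟩ := MulAction.exists_smul_eq Mk Q P₀
    have hgw : g * w * g⁻¹ ∈ (P₀ : Subgroup Mk) := by
      rw [← hg]
      exact ⟨w, hQ (Subgroup.mem_zpowers w), rfl⟩
    refine ⟨(g * w * g⁻¹ : Mk), ⟨_, hgw, rfl⟩, ?_⟩
    obtain ⟨i, hi⟩ := g.2
    show F ((g : M) * w * (g : M)⁻¹) = F α
    rw [map_mul, map_mul, map_inv, show F w = F α by
      show F ((α ^ m) ^ n) = F α
      rw [map_pow, map_pow, hn], show F g = F α ^ i from hi.symm,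
      ((Commute.refl (F α)).zpow_left i).eq, mul_inv_cancel_right]
  -- a lift of `b` normalizing it
  obtain ⟨y₁, hy₁, hy₁b⟩ : ∃ y₁ ∈ Subgroup.normalizer (P₁ : Set M), F y₁ = F β := by
    have hβ : β ∈ Subgroup.normalizer (P₁ : Set M) ⊔ Mk := by
      rw [hP₁, Sylow.normalizer_sup_eq_top P₀]; exact Subgroup.mem_top _
    obtain ⟨n, hn, m, hm, rfl⟩ := Subgroup.mem_sup_of_normal_right.1 hβ
    obtain ⟨i, hi⟩ := hm
    refine ⟨n * π₀ ^ i, mul_mem hn (zpow_mem (Subgroup.le_normalizer hπ₀) i), ?_⟩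
    rw [map_mul, map_mul, map_zpow, hπ₀a, show F α ^ i = F m from hi]
  -- its `r`-part
  obtain ⟨u, v, hv, huv⟩ := Nat.exists_eq_pow_mul_and_not_dvd (orderOf_pos y₁).ne' r hr.one_lt.ne'
  have hcop : (r ^ u).Coprime v := ((Nat.Prime.coprime_iff_not_dvd hr).2 hv).pow_left u
  set y : M := y₁ ^ ((v : ℤ) * Nat.gcdB (r ^ u) v) with hy
  have hyN : y ∈ Subgroup.normalizer (P₁ : Set M) := zpow_mem hy₁ _
  have hyb : F y = F β := by
    have hb1 : F β ^ ((r ^ u : ℕ) : ℤ) = 1 := by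
      rw [zpow_natCast, ← orderOf_dvd_iff_pow_eq_one, hk, Nat.pow_dvd_pow_iff_le_right hr.one_lt]
      have h1 := orderOf_map_dvd F y₁
      rw [hy₁b, hk, huv] at h1
      exact (Nat.pow_dvd_pow_iff_le_right hr.one_lt).1
        ((Nat.Coprime.pow_left _ ((Nat.Prime.coprime_iff_not_dvd hr).2 hv)).dvd_of_dvd_mul_right h1)
    have e := Nat.gcd_eq_gcd_ab (r ^ u) v
    rw [hcop.gcd_eq_one, Nat.cast_one] at e
    rw [hy, map_zpow, hy₁b, show (v : ℤ) * Nat.gcdB (r ^ u) v =
      1 - ((r ^ u : ℕ) : ℤ) * Nat.gcdA (r ^ u) v by linarith, zpow_sub, zpow_one, zpow_mul, hb1,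
      one_zpow, inv_one, mul_one]
  have hyr : y ^ r ^ u = 1 := by
    rw [hy, ← zpow_natCast, ← zpow_mul, mul_comm, ← mul_assoc, ← Nat.cast_mul, ← huv, zpow_mul,
      zpow_natCast, pow_orderOf_eq_one, one_zpow]
  set c : M := y ^ r ^ k with hcdef
  have hFc : orderOf (F c) = r := by
    rw [hcdef, map_pow, hyb, orderOf_pow_of_dvd (pow_ne_zero _ hr.ne_zero)
      (hk ▸ pow_dvd_pow r k.le_succ), hk, pow_succ, Nat.mul_div_cancel_left _ (pow_pos hr.pos k)]
  have hcN : c ∈ Subgroup.normalizer (P₁ : Set M) := pow_mem hyN _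
  have hca : F c * F α * (F c)⁻¹ = F α := by
    have := hpq (F c) ⟨c, rfl⟩ hFc (hna.conj_mem _ (Subgroup.mem_zpowers _) _)
    rw [this, mul_inv_cancel_right]
  -- a fixed lift of `a`
  let T : Type _ := {π : M // π ∈ P₁ ∧ F π = F α}
  have hrT : ¬ r ∣ Nat.card T := by
    obtain ⟨n, hn⟩ := (hP1p.to_le (inf_le_left : P₁ ⊓ F.ker ≤ P₁)).exists_card_eq
    rw [show Nat.card T = Nat.card (P₁ ⊓ F.ker : Subgroup M) from Nat.card_congr
      { toFun := fun t => ⟨π₀⁻¹ * t.1, P₁.mul_mem (P₁.inv_mem hπ₀) t.2.1, by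
          show F (π₀⁻¹ * t.1) = 1
          rw [map_mul, map_inv, hπ₀a, t.2.2, inv_mul_cancel]⟩
        invFun := fun s => ⟨π₀ * s.1, P₁.mul_mem hπ₀ s.2.1, by
          rw [map_mul, hπ₀a, show F s.1 = 1 from s.2.2, mul_one]⟩
        left_inv := fun t => Subtype.ext (mul_inv_cancel_left π₀ t.1)
        right_inv := fun s => Subtype.ext (inv_mul_cancel_left π₀ s.1) }, hn]
    exact fun hd => hpr ((Nat.prime_dvd_prime_iff_eq hr hp).1 (hr.dvd_of_dvd_pow hd)).symm
  let S : Subgroup M :=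
    { carrier := {g | g ∈ Subgroup.normalizer (P₁ : Set M) ∧ F g * F α * (F g)⁻¹ = F α}
      one_mem' := ⟨one_mem _, by simp⟩
      mul_mem' := fun {g g'} hg hg' => ⟨mul_mem hg.1 hg'.1, by
        calc F (g * g') * F α * (F (g * g'))⁻¹ = F g * (F g' * F α * (F g')⁻¹) * (F g)⁻¹ := by
              rw [map_mul]; group
          _ = F α := by rw [hg'.2, hg.2]⟩
      inv_mem' := fun {g} hg => ⟨(Subgroup.normalizer (P₁ : Set M)).inv_mem hg.1, by
        rw [map_inv, inv_inv]
        nth_rewrite 1 [← hg.2]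
        group⟩ }
  have hcS : Subgroup.zpowers c ≤ S := Subgroup.zpowers_le.2 ⟨hcN, hca⟩
  letI : MulAction (Subgroup.zpowers c) T :=
    { smul := fun g t => ⟨(g : M) * t.1 * (g : M)⁻¹,
        (Subgroup.mem_normalizer_iff.1 (hcS g.2).1 t.1).1 t.2.1, by
          rw [map_mul, map_mul, map_inv, t.2.2]; exact (hcS g.2).2⟩
      one_smul := fun t => Subtype.ext (by
        show (1 : M) * t.1 * (1 : M)⁻¹ = t.1
        simp)
      mul_smul := fun g g' t => Subtype.ext (by
        show ((g : M) * g') * t.1 * ((g : M) * g')⁻¹ = g * ((g' : M) * t.1 * (g' : M)⁻¹) * (g : M)⁻¹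
        group) }
  have hcr : IsPGroup r (Subgroup.zpowers c) := by
    obtain ⟨j, -, hj⟩ := (Nat.dvd_prime_pow hr).1 (orderOf_dvd_of_pow_eq_one (x := c) (n := r ^ u)
      (by rw [hcdef, ← pow_mul, mul_comm, pow_mul, hyr, one_pow]))
    exact IsPGroup.of_card (n := j) (by rw [Nat.card_zpowers, hj])
  obtain ⟨t, ht⟩ := hcr.nonempty_fixed_point_of_prime_not_dvd_card T hrT
  have htc : c * t.1 * c⁻¹ = t.1 :=
    congrArg Subtype.val (ht (⟨c, Subgroup.mem_zpowers c⟩ : Subgroup.zpowers c))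
  have hyt := hc c y t.1 (fun e => by rw [e, orderOf_one] at hFc; exact hr.one_lt.ne hFc)
    (by rw [hcdef]; exact (Commute.self_pow y _).eq) (mul_inv_eq_iff_eq_mul.1 htc).symm
  have := congrArg F hyt
  rwa [map_mul, map_mul, hyb, t.2.2] at this

/-- The same, without assuming that the subgroup generated by `a` is normal. -/
theorem pr_comm [Finite A] (F : M →* A)
    (hc : ∀ c u v : M, F c ≠ 1 → u * c = c * u → v * c = c * v → u * v = v * u)
    {p r : ℕ} (hp : p.Prime) (hr : r.Prime) (hpr : p ≠ r) {a b : A}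
    (ha : orderOf a = p) (hb : ∃ k, orderOf b = r ^ k) (haR : a ∈ F.range) (hbR : b ∈ F.range)
    (hba : b * a * b⁻¹ ∈ Subgroup.zpowers a)
    (hpq : ∀ c ∈ F.range, orderOf c = r → c * a * c⁻¹ ∈ Subgroup.zpowers a → c * a = a * c) :
    b * a = a * b := by
  set A₁ := Subgroup.normalizer (Subgroup.zpowers a : Set A) with hA₁
  have haA : a ∈ A₁ := Subgroup.le_normalizer (Subgroup.mem_zpowers a)
  have hbA : b ∈ A₁ := by
    have hle : (Subgroup.zpowers a).map (MulAut.conj b).toMonoidHom ≤ Subgroup.zpowers a := by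
      rw [MonoidHom.map_zpowers]; exact Subgroup.zpowers_le.2 hba
    have heq := Subgroup.eq_of_le_of_card_ge hle
      (Subgroup.card_map_of_injective (MulAut.conj b).injective).ge
    refine Subgroup.mem_normalizer_iff.2 fun x => ⟨fun hx => heq ▸ ⟨x, hx, rfl⟩, fun hx => ?_⟩
    rw [← heq] at hx
    obtain ⟨w, hw, hwe⟩ := hx
    exact (MulAut.conj b).injective hwe ▸ hw
  have hz : ∀ {x : A} (hx : x ∈ A₁), x ∈ Subgroup.zpowers a →
      (⟨x, hx⟩ : A₁) ∈ Subgroup.zpowers (⟨a, haA⟩ : A₁) := by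
    rintro x hx ⟨n, rfl⟩
    exact ⟨n, Subtype.ext (by simp)⟩
  have hna : (Subgroup.zpowers (⟨a, haA⟩ : A₁)).Normal := ⟨fun x hx g => by
    obtain ⟨n, rfl⟩ := hx
    refine hz _ ((Subgroup.mem_normalizer_iff.1 g.2 _).1 ?_)
    simp only [SubgroupClass.coe_zpow]
    exact Subgroup.zpow_mem_zpowers a n⟩
  obtain ⟨α, rfl⟩ := haR
  obtain ⟨β, rfl⟩ := hbR
  exact congrArg Subtype.val (pr_comm_normal (F.subgroupComap A₁)
    (fun c u v hne hu hv => Subtype.ext (hc c u v (fun e => hne (Subtype.ext e))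
      (congrArg Subtype.val hu) (congrArg Subtype.val hv)))
    hp hr hpr (a := ⟨F α, haA⟩) (b := ⟨F β, hbA⟩) hna (by rw [Subgroup.orderOf_mk, ha])
    (by obtain ⟨k, hk⟩ := hb; exact ⟨k, by rw [Subgroup.orderOf_mk, hk]⟩)
    ⟨⟨α, haA⟩, rfl⟩ ⟨⟨β, hbA⟩, rfl⟩
    (fun c ⟨γ, hγ⟩ ho hmem => by
      obtain ⟨n, hn⟩ := hmem
      exact Subtype.ext (hpq c ⟨γ, congrArg Subtype.val hγ⟩ (by rw [Subgroup.orderOf_coe, ho])
        ⟨n, by simpa using congrArg Subtype.val hn⟩)))

end CfsgLib.MinNonCA
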