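import Cfsg.Agent.Lib.MinNonCA.Local
import Cfsg.Agent.Lib.MinNonCA.TwoRank
import Cfsg.Agent.Lib.MinNonCA.ZGroup
import Cfsg.Agent.Lib.AbelianTwo.Bound
import Cfsg.Agent.Lib.NormalPComplement.Replacement
import Cfsg.Agent.S0040
import Cfsg.Agent.S0041

/-!
Minimal nonsolvable non-CA groups: the automizer of an elementary abelian Sylow 2-subgroup of the
central quotient is abelian.
-/

set_option autoImplicit false
set_option linter.style.haveILetI false
open Cfsg

namespace CfsgLib.MinNonCA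

variable {G : Type*} [Group G] [Finite G]

local notation "Z" => Subgroup.center G
local notation "π" => QuotientGroup.mk' (Subgroup.center G)

/-- Fixed point free groups of automorphisms of odd order of an abelian group have cyclic Sylow
subgroups, and their subgroups of order `p r` are cyclic. -/
theorem fpf_facts {V : Type*} [CommGroup V] [Finite V] [Nontrivial V] (H : Subgroup (MulAut V))
    (hodd : Odd (Nat.card H)) (hfpf : ∀ a ∈ H, a ≠ 1 → ∀ v : V, a v = v → v = 1) :
    (∀ (p : ℕ) [Fact p.Prime] (P : Sylow p H), IsCyclic P) ∧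
      ∀ p r : ℕ, p.Prime → r.Prime → p ≠ r → ∀ a c : H, orderOf a = p → orderOf c = r →
        c * a * c⁻¹ ∈ Subgroup.zpowers a → c * a = a * c := by
  classical
  haveI : Finite (MulAut V) := Finite.of_injective (fun f : MulAut V => (f : V → V)) DFunLike.coe_injective
  let Y := V ⋊[H.subtype] H
  haveI : Finite Y := Finite.of_equiv _ SemidirectProduct.equivProd.symm
  set K : Subgroup Y := (SemidirectProduct.inl : V →* Y).range with hK
  set H' : Subgroup Y := (SemidirectProduct.inr : H →* Y).range with hH'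
  haveI : K.Normal := by
    rw [hK, SemidirectProduct.range_inl_eq_ker_rightHom]; infer_instance
  have hdisj : Disjoint K H' := by
    rw [Subgroup.disjoint_def]
    rintro _ ⟨v, rfl⟩ ⟨a, ha⟩
    have h1 := congrArg SemidirectProduct.left ha
    simp at h1
    rw [← h1, map_one]
  have hcomp : Subgroup.IsComplement' K H' := by
    refine Subgroup.isComplement'_of_card_mul_and_disjoint ?_ hdisj
    rw [hK, hH', ← Nat.card_congr (MonoidHom.ofInjective SemidirectProduct.inl_injective).toEquiv,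
      ← Nat.card_congr (MonoidHom.ofInjective SemidirectProduct.inr_injective).toEquiv,
      Nat.card_congr SemidirectProduct.equivProd, Nat.card_prod]
  have hK1 : K ≠ ⊥ := fun e => by
    obtain ⟨v, hv⟩ := exists_ne (1 : V)
    have : SemidirectProduct.inl v ∈ K := ⟨v, rfl⟩
    rw [e, Subgroup.mem_bot, ← map_one (SemidirectProduct.inl : V →* Y)] at this
    exact hv (SemidirectProduct.inl_injective this)
  have hf : ∀ y ∈ H', y ≠ 1 → K ⊓ Subgroup.centralizer ({y} : Set Y) = ⊥ := by
    rintro _ ⟨a, rfl⟩ ha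
    rw [Subgroup.eq_bot_iff_forall]
    rintro _ ⟨⟨v, rfl⟩, hv⟩
    have h1 := congrArg SemidirectProduct.left (Subgroup.mem_centralizer_singleton_iff.1 hv)
    simp at h1
    have h2 : v = 1 := hfpf a a.2 (fun e => ha (by rw [show a = 1 from Subtype.ext e, map_one])) v h1.symm
    rw [h2, map_one]
  let E : H ≃* H' := MonoidHom.ofInjective SemidirectProduct.inr_injective
  have hH'odd : Odd (Nat.card H') := by rwa [← Nat.card_congr E.toEquiv]
  refine ⟨fun p _ P => ?_, fun p r hp hr hpr a c ha hc hca => ?_⟩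
  · rcases Cfsg.Agent.S0040.result K H' hcomp hK1 hf p
      (P.mapSurjective (f := E.toMonoidHom) E.surjective) with h | ⟨n, ⟨e⟩⟩
    · haveI h' : IsCyclic ((P : Subgroup H).map E.toMonoidHom) := by
        exact (MulEquiv.subgroupCongr (Sylow.coe_mapSurjective E.surjective P)).isCyclic.1 h
      exact isCyclic_of_surjective
        ((P : Subgroup H).equivMapOfInjective E.toMonoidHom E.injective).symm.toMonoidHom
        ((P : Subgroup H).equivMapOfInjective E.toMonoidHom E.injective).symm.surjective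
    · exfalso
      have h1 := hH'odd.of_dvd_nat (Subgroup.card_subgroup_dvd_card
        (P.mapSurjective (f := E.toMonoidHom) E.surjective : Subgroup H'))
      haveI : NeZero (2 ^ n) := ⟨pow_ne_zero _ two_ne_zero⟩
      rw [Nat.card_congr e.toEquiv, Nat.card_eq_fintype_card, QuaternionGroup.card] at h1
      exact absurd h1 (Nat.not_odd_iff_even.2 ⟨2 * 2 ^ n, by ring⟩)
  · haveI := Fact.mk hp
    set B : Subgroup H := Subgroup.zpowers a ⊔ Subgroup.zpowers c with hB
    have hcn : Subgroup.zpowers c ≤ Subgroup.normalizer (Subgroup.zpowers a : Set H) := by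
      refine Subgroup.zpowers_le.2 ?_
      have hle : (Subgroup.zpowers a).map (MulAut.conj c).toMonoidHom ≤ Subgroup.zpowers a := by
        rw [MonoidHom.map_zpowers]; exact Subgroup.zpowers_le.2 hca
      have heq := Subgroup.eq_of_le_of_card_ge hle
        (Subgroup.card_map_of_injective (MulAut.conj c).injective).ge
      refine Subgroup.mem_normalizer_iff.2 fun x => ⟨fun hx => heq ▸ ⟨x, hx, rfl⟩, fun hx => ?_⟩
      rw [← heq] at hx
      obtain ⟨w, hw, hwe⟩ := hx
      exact (MulAut.conj c).injective hwe ▸ hw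
    have hcard : Nat.card B = p * r := by
      have hd : Subgroup.zpowers c ⊓ Subgroup.zpowers a = ⊥ := Subgroup.inf_eq_bot_of_coprime (by
        rw [Nat.card_zpowers, Nat.card_zpowers, ha, hc]
        exact (Nat.coprime_primes hr hp).2 hpr.symm)
      have h1 := NormalPComplement.card_sup_mul_card_inf hcn
      rw [hd, Subgroup.card_bot, mul_one, Nat.card_zpowers, Nat.card_zpowers, ha, hc, sup_comm] at h1
      rw [hB, h1, mul_comm]
    haveI : IsMulCommutative K := ⟨⟨by
      rintro ⟨_, v, rfl⟩ ⟨_, w, rfl⟩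
      exact Subtype.ext (by simp [← map_mul, mul_comm])⟩⟩
    have hcyc := Cfsg.Agent.S0041.result (B.map (SemidirectProduct.inr : H →* Y)) K hK1
      (fun x _ => by rw [Subgroup.normalizer_eq_top]; exact Subgroup.mem_top x)
      (fun y hy => hf y (by obtain ⟨b, -, rfl⟩ := hy; exact ⟨b, rfl⟩))
      (Or.inr ⟨p, r, hp, hr, by
        rw [Subgroup.card_map_of_injective SemidirectProduct.inr_injective, hcard]⟩)
    haveI := hcyc
    have := mul_comm' (⟨_, ⟨c, (Subgroup.mem_sup_right (Subgroup.mem_zpowers c) : c ∈ B), rfl⟩⟩ :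
      B.map (SemidirectProduct.inr : H →* Y))
      ⟨_, ⟨a, (Subgroup.mem_sup_left (Subgroup.mem_zpowers a) : a ∈ B), rfl⟩⟩
    have h2 := congrArg Subtype.val this
    simp only [Subgroup.coe_mul, ← map_mul] at h2
    exact SemidirectProduct.inr_injective h2

namespace MNC

variable (h : MNC G)
include h

theorem outerComm {P : Sylow 2 (G ⧸ Z)} (hy : AbelianTwo.Hyp P) : AbelianTwo.Hyp.OuterComm hy := by
  classical
  haveI : Fact (Nat.Prime 2) := ⟨Nat.prime_two⟩
  have hns : ¬ Group.IsSolvable (G ⧸ Z) := fun hs => h.ns (by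
    haveI := hs
    haveI : Group.IsSolvable Z :=
      Group.isSolvable_of_comm fun a b => Subtype.ext (Subgroup.mem_center_iff.1 b.2 a)
    exact solvable_of_ker_le_range (Subgroup.center G).subtype (π)
      (by rw [QuotientGroup.ker_mk', Subgroup.range_subtype]))
  have hP := not_normal_sylow_two hns P
  set PS : Subgroup (G ⧸ Z) := (P : Subgroup (G ⧸ Z)) with hPS
  letI : CommGroup PS := { (inferInstance : Group PS) with
    mul_comm := fun a b => Subtype.ext (hy.comm a a.2 b b.2) }
  have hel : ∀ a ∈ PS, a * a = 1 := fun a ha => hy.mul_self_eq_one_of_not_normal hP ha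
  haveI : Nontrivial PS := by
    obtain ⟨x, hx, hx2⟩ := hy.exists_involution
    exact ⟨⟨x, hx⟩, 1, fun e => by
      rw [show x = 1 from congrArg Subtype.val e, orderOf_one] at hx2; omega⟩
  let φ : Subgroup.normalizer (PS : Set (G ⧸ Z)) →* MulAut PS := PS.normalizerMonoidHom
  have hfix : ∀ n : Subgroup.normalizer (PS : Set (G ⧸ Z)), ∀ v : PS, φ n v = v → v ≠ 1 → φ n = 1 := by
    intro n v hv hv1
    have hv' : (n : G ⧸ Z) * v * (n : G ⧸ Z)⁻¹ = v := congrArg Subtype.val hv
    have hvo : orderOf (v : G ⧸ Z) = 2 := orderOf_eq_prime (by rw [pow_two]; exact hel _ v.2)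
      fun e => hv1 (Subtype.ext e)
    have hn0 := hy.centralizer_le_innerSub v.2 hvo
      (Subgroup.mem_centralizer_singleton_iff.2 (mul_inv_eq_iff_eq_mul.1 hv'))
    exact MulEquiv.ext fun x => Subtype.ext (hy.commute_of_normalizer_inf n.2 hn0 x.2)
  have hodd : Odd (Nat.card φ.range) := by
    rw [← Subgroup.index_ker]
    have hle : PS.subgroupOf (Subgroup.normalizer (PS : Set (G ⧸ Z))) ≤ φ.ker := fun a ha =>
      MulEquiv.ext fun x => Subtype.ext (by
        show (a : G ⧸ Z) * x * (a : G ⧸ Z)⁻¹ = x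
        rw [hy.comm a ha x x.2, mul_inv_cancel_right])
    refine Odd.of_dvd_nat ?_ (Subgroup.index_dvd_of_le hle)
    refine Nat.not_even_iff_odd.1 fun he => P.not_dvd_index ?_
    exact he.two_dvd.trans (Subgroup.relIndex_dvd_index_of_le Subgroup.le_normalizer)
  obtain ⟨hcyc, hpq⟩ := fpf_facts φ.range hodd (fun a ⟨n, hn⟩ ha v hv => by
    by_contra hv1
    exact ha (hn ▸ hfix n v (hn.symm ▸ hv) hv1))
  -- lift to `G`
  set N : Subgroup G := (Subgroup.normalizer (PS : Set (G ⧸ Z))).comap (π) with hN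
  have hNtop : N ≠ ⊤ := fun e => hP (Subgroup.normalizer_eq_top_iff.1 (by
    have h1 := congrArg (Subgroup.map (π)) e
    rwa [hN, Subgroup.map_comap_eq_self_of_surjective (QuotientGroup.mk'_surjective Z),
      Subgroup.map_top_of_surjective _ (QuotientGroup.mk'_surjective Z)] at h1))
  let F : N →* φ.range := φ.rangeRestrict.comp ((π).subgroupComap _)
  have hFsurj : Function.Surjective F := by
    rintro ⟨_, n, rfl⟩
    obtain ⟨g, hg⟩ := QuotientGroup.mk'_surjective Z (n : G ⧸ Z)
    refine ⟨⟨g, show π g ∈ Subgroup.normalizer (PS : Set (G ⧸ Z)) from hg ▸ n.2⟩, ?_⟩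
    exact Subtype.ext (congrArg φ (Subtype.ext hg))
  have hFc : ∀ c u v : N, F c ≠ 1 → u * c = c * u → v * c = c * v → u * v = v * u := by
    intro c u v hc hu hv
    refine Subtype.ext (by_contra fun huv => hc ?_)
    have hcent := h.ca N hNtop c c.2 u u.2 v v.2 (congrArg Subtype.val hu) (congrArg Subtype.val hv) huv
    refine Subtype.ext (MulEquiv.ext fun x => Subtype.ext ?_)
    obtain ⟨s, hs⟩ := QuotientGroup.mk'_surjective Z (x : G ⧸ Z)
    have hsN : s ∈ N := Subgroup.mem_comap.2 (Subgroup.le_normalizer (show π s ∈ PS from hs ▸ x.2))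
    have h1 := congrArg (π) (hcent s hsN)
    show π c * (x : G ⧸ Z) * (π c)⁻¹ = x
    rw [map_mul, map_mul, hs] at h1
    rw [← h1, mul_inv_cancel_right]
  have hcomm : ∀ a b : φ.range, a * b = b * a :=
    comm_of_cyclic_sylow hcyc fun p r hp hr hpr a b ha hb hba =>
      pr_comm F hFc hp hr hpr ha hb (hFsurj a) (hFsurj b) hba
        fun c _ hc hca => hpq p r hp hr hpr a c ha hc hca
  have hbig : AbelianTwo.bigSub hy ≤ Subgroup.normalizer (AbelianTwo.innerSub hy : Set (G ⧸ Z)) := by
    intro g hg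
    haveI := hy.innerSub_normal
    exact (Subgroup.normal_subgroupOf_iff_le_normalizer hy.innerSub_le_bigSub).1 hy.innerSub_normal hg
  haveI hnorm := hy.innerSub_normal
  set q := QuotientGroup.mk' ((AbelianTwo.innerSub hy).subgroupOf (AbelianTwo.bigSub hy)) with hq
  have key : ∀ a : AbelianTwo.bigSub hy, ∃ n : Subgroup.normalizer (PS : Set (G ⧸ Z)),
      q a = q ⟨n, Subgroup.mem_sup_right n.2⟩ := by
    rintro ⟨g, hg⟩
    obtain ⟨w, hw, n, hn, rfl⟩ := hy.mem_bigSub_iff.1 hg
    refine ⟨⟨n, hn⟩, ?_⟩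
    have hwb : w ∈ AbelianTwo.bigSub hy := Subgroup.mem_sup_left hw
    have h1 : q ⟨w, hwb⟩ = 1 := (QuotientGroup.eq_one_iff _).2
      (Subgroup.mem_subgroupOf.2 (Subgroup.mem_sup_left hw))
    show q (⟨w, hwb⟩ * ⟨n, Subgroup.mem_sup_right hn⟩) = _
    rw [map_mul, h1, one_mul]
  intro a ha b hb
  obtain ⟨n, hn⟩ := key ⟨a, ha⟩
  obtain ⟨m, hm⟩ := key ⟨b, hb⟩
  have hnm : φ (n * m * n⁻¹ * m⁻¹) = 1 := by
    have h1 := congrArg Subtype.val (hcomm ⟨φ n, n, rfl⟩ ⟨φ m, m, rfl⟩)
    rw [map_mul, map_mul, map_mul, map_inv, map_inv, show φ n * φ m = φ m * φ n from h1]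
    group
  have hmem : ((n * m * n⁻¹ * m⁻¹ : Subgroup.normalizer (PS : Set (G ⧸ Z))) : G ⧸ Z) ∈
      AbelianTwo.innerSub hy := by
    obtain ⟨x, hx, hx2⟩ := hy.exists_involution
    refine hy.centralizer_le_innerSub hx hx2 (Subgroup.mem_centralizer_singleton_iff.2 ?_)
    have h1 := congrArg Subtype.val (DFunLike.congr_fun hnm ⟨x, hx⟩)
    exact mul_inv_eq_iff_eq_mul.1 h1
  have h2 : q ⟨a * b * a⁻¹ * b⁻¹, mul_mem (mul_mem (mul_mem ha hb) (inv_mem ha)) (inv_mem hb)⟩ = 1 := by
    show q (⟨a, ha⟩ * ⟨b, hb⟩ * ⟨a, ha⟩⁻¹ * ⟨b, hb⟩⁻¹) = 1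
    rw [map_mul, map_mul, map_mul, map_inv, map_inv, hn, hm, ← map_inv, ← map_inv, ← map_mul,
      ← map_mul, ← map_mul]
    exact (QuotientGroup.eq_one_iff _).2 (Subgroup.mem_subgroupOf.2 hmem)
  exact Subgroup.mem_subgroupOf.1 ((QuotientGroup.eq_one_iff _).1 h2)

end MNC

end CfsgLib.MinNonCA
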