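import Cfsg.Agent.Lib.MinNonCA.Outer
import Cfsg.Agent.Lib.Transfer.Fusion
import Cfsg.Agent.Lib.TwoGroups.Basic

/-!
Minimal nonsolvable non-CA groups: the central quotient is `PSL(2, 2^n)` or has dihedral Sylow
2-subgroups.
-/

set_option autoImplicit false
set_option linter.style.haveILetI false
open Cfsg

namespace CfsgLib.MinNonCA

variable {G : Type*} [Group G] [Finite G]

local notation "CG(" x ")" => Subgroup.centralizer ({x} : Set _)
local notation "Z" => Subgroup.center G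
local notation "π" => QuotientGroup.mk' (Subgroup.center G)

omit [Finite G] in
theorem map_sq {x : G} : π x * π x = 1 ↔ x * x ∈ Z := by
  rw [← map_mul]; exact QuotientGroup.eq_one_iff _

omit [Finite G] in
theorem map_eq_one {x : G} : π x = 1 ↔ x ∈ Z := QuotientGroup.eq_one_iff x

omit [Finite G] in
/-- Elements with the same image commute with the same elements. -/
theorem commute_of_map_eq {a b y : G} (e : π a = π b) (h : b * y = y * b) : a * y = y * a := by
  have hc : b⁻¹ * a ∈ Z := map_eq_one.1 (by rw [map_mul, map_inv, e, inv_mul_cancel])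
  have hy : Commute (b⁻¹ * a) y := (Subgroup.mem_center_iff.1 hc y).symm
  have := (show Commute b y from h).mul_left hy
  rwa [mul_inv_cancel_left] at this

theorem lift_of_mem (S : Sylow 2 G) {x : G} (hx : x ∈ (S : Subgroup G)) (hne : x ∉ Z)
    (hsq : x * x ∈ Z) : Lift x := by
  haveI : Fact (Nat.Prime 2) := ⟨Nat.prime_two⟩
  obtain ⟨k, hk⟩ := IsPGroup.iff_orderOf.1 S.isPGroup' ⟨x, hx⟩
  exact ⟨hne, hsq, k, by rw [← hk, Subgroup.orderOf_mk]⟩

/-- A lift `z` of a central involution of the image of the nonabelian-image Sylow subgroup `S`, with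
the abelian subgroup `A = C_S(z)`. -/
structure Frame (S : Sylow 2 G) (z : G) (A : Subgroup G) : Prop where
  mem : z ∈ (S : Subgroup G)
  lift : Lift z
  central : ∀ s ∈ (S : Subgroup G), π z * π s = π s * π z
  A_eq : A = (S : Subgroup G) ⊓ CG(z)
  comm : ∀ a ∈ A, ∀ b ∈ A, a * b = b * a
  sq : ∀ s ∈ (S : Subgroup G), s ∉ A → s * s ∈ Z
  inv : ∀ s ∈ (S : Subgroup G), s ∉ A → ∀ a ∈ A, π s * π a * (π s)⁻¹ = (π a)⁻¹
  out : ∃ s ∈ (S : Subgroup G), s ∉ A
  big : ∃ r ∈ A, r * r ∉ Z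
  two : ∀ s ∈ (S : Subgroup G), s ∉ A → ∀ u ∈ (S : Subgroup G), u ∉ A → s * u ∈ A

namespace Frame

variable {S : Sylow 2 G} {z : G} {A : Subgroup G} (f : Frame S z A)
include f

theorem le : A ≤ (S : Subgroup G) := f.A_eq ▸ inf_le_left

theorem z_mem : z ∈ A := f.A_eq ▸ ⟨f.mem, Subgroup.mem_centralizer_singleton_iff.2 rfl⟩

theorem central_of_sq {a : G} (ha : a ∈ A) (h2 : a * a ∈ Z) {s : G} (hs : s ∈ (S : Subgroup G)) :
    π s * π a = π a * π s := by
  by_cases hsA : s ∈ A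
  · rw [← map_mul, ← map_mul, f.comm s hsA a ha]
  · have h1 := f.inv s hs hsA a ha
    rw [inv_eq_of_mul_eq_one_right (map_sq.2 h2)] at h1
    exact mul_inv_eq_iff_eq_mul.1 h1

theorem not_inverts {r : G} (hr : r ∈ A) (hr2 : r * r ∉ Z) {s : G} (hs : s ∈ (S : Subgroup G))
    (hsA : s ∉ A) : π s * π r ≠ π r * π s := fun e => hr2 (map_sq.1 (by
  have h1 := f.inv s hs hsA r hr
  rw [e, mul_inv_cancel_right] at h1
  nth_rewrite 1 [h1]
  rw [inv_mul_cancel]))

end Frame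

namespace MNC

variable (h : MNC G)
include h

theorem nonsolvable_quotient : ¬ Group.IsSolvable (G ⧸ Z) := fun hs => h.ns (by
  haveI := hs
  haveI : Group.IsSolvable Z :=
    Group.isSolvable_of_comm fun a b => Subtype.ext (Subgroup.mem_center_iff.1 b.2 a)
  exact Group.isSolvable_of_ker_le_range (Subgroup.center G).subtype (π)
    (by rw [QuotientGroup.ker_mk', Subgroup.range_subtype]))

theorem exists_frame (S : Sylow 2 G)
    (hna : ∃ a ∈ (S : Subgroup G), ∃ b ∈ (S : Subgroup G), π a * π b ≠ π b * π a) :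
    ∃ z A, Frame S z A := by
  haveI : Fact (Nat.Prime 2) := ⟨Nat.prime_two⟩
  obtain ⟨a₀, ha₀, b₀, hb₀, hab₀⟩ := hna
  set PS := (S : Subgroup G).map (π) with hPS
  have hP2 : IsPGroup 2 PS := S.isPGroup'.map _
  haveI : Nontrivial PS := ⟨⟨π a₀, a₀, ha₀, rfl⟩, 1, fun e => hab₀ (by
    rw [show π a₀ = 1 from congrArg Subtype.val e, one_mul, mul_one])⟩
  haveI := hP2.center_nontrivial
  obtain ⟨n, hn0, hn⟩ := (hP2.to_subgroup (Subgroup.center PS)).nontrivial_iff_card.1 inferInstance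
  obtain ⟨ρ, hρ⟩ := exists_prime_orderOf_dvd_card' (G := Subgroup.center PS) 2
    (hn ▸ dvd_pow_self 2 hn0.ne')
  rw [← Subgroup.orderOf_coe, ← Subgroup.orderOf_coe] at hρ
  obtain ⟨z, hzS, hzρ⟩ := Subgroup.mem_map.1 (ρ : PS).2
  have hzne : z ∉ Z := fun e => by
    rw [← hzρ, map_eq_one.2 e, orderOf_one] at hρ
    omega
  have hz2 : z * z ∈ Z := map_sq.1 (by
    rw [hzρ, ← pow_two, ← hρ, pow_orderOf_eq_one])
  have hz : Lift z := lift_of_mem S hzS hzne hz2
  have hcen : ∀ s ∈ (S : Subgroup G), π z * π s = π s * π z := fun s hs => by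
    have h1 := congrArg Subtype.val (Subgroup.mem_center_iff.1 ρ.2 ⟨π s, s, hs, rfl⟩)
    rw [hzρ]; exact h1.symm
  set A := (S : Subgroup G) ⊓ CG(z) with hA
  have hcomm : ∀ a ∈ A, ∀ b ∈ A, a * b = b * a := fun a ha b hb =>
    comm_of_not_nonab (h.twoGroup_comm hz (S.isPGroup'.to_le inf_le_left) inf_le_right) ha hb
  have hsqA : ∀ s ∈ (S : Subgroup G), s * s ∈ A := fun s hs => ⟨mul_mem hs hs,
    hz.sq_mem_centralizer (Subgroup.mem_comap.2 (Subgroup.mem_centralizer_singleton_iff.2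
      (hcen s hs).symm))⟩
  have hsq : ∀ s ∈ (S : Subgroup G), s ∉ A → s * s ∈ Z := by
    classical
    intro s hs hsA
    by_contra hss
    have hex : ∃ j, (s * s) ^ 2 ^ j ∈ Z := by
      obtain ⟨k, hk⟩ := IsPGroup.iff_orderOf.1 S.isPGroup' ⟨s * s, mul_mem hs hs⟩
      rw [Subgroup.orderOf_mk] at hk
      exact ⟨k, by rw [← hk, pow_orderOf_eq_one]; exact one_mem _⟩
    obtain ⟨j, hj⟩ : ∃ j, Nat.find hex = j + 1 := by
      refine ⟨Nat.find hex - 1, ?_⟩
      rcases Nat.eq_zero_or_pos (Nat.find hex) with h0 | h0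
      · have := Nat.find_spec hex
        rw [h0, pow_zero, pow_one] at this
        exact absurd this hss
      · omega
    set u := (s * s) ^ 2 ^ j with hu
    have huZ : u ∉ Z := Nat.find_min hex (by omega)
    have hu2 : u * u ∈ Z := by
      rw [hu, ← pow_add, ← two_mul, ← pow_succ', ← hj]
      exact Nat.find_spec hex
    have huA : u ∈ A := pow_mem (hsqA s hs) _
    have hV : A ⊔ Subgroup.zpowers s ≤ (S : Subgroup G) ⊓ CG(u) := by
      refine sup_le (le_inf inf_le_left fun a ha => Subgroup.mem_centralizer_singleton_iff.2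
        (hcomm a ha u huA)) (Subgroup.zpowers_le.2 ⟨hs, Subgroup.mem_centralizer_singleton_iff.2 ?_⟩)
      exact (((Commute.refl s).mul_right (Commute.refl s)).pow_right _).eq
    refine hsA ⟨hs, Subgroup.mem_centralizer_singleton_iff.2 ?_⟩
    exact comm_of_not_nonab (h.twoGroup_comm (lift_of_mem S huA.1 huZ hu2)
      (S.isPGroup'.to_le inf_le_left) inf_le_right) (hV (Subgroup.mem_sup_right (Subgroup.mem_zpowers s)))
      (hV (Subgroup.mem_sup_left ⟨hzS, Subgroup.mem_centralizer_singleton_iff.2 rfl⟩))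
  have hinv : ∀ s ∈ (S : Subgroup G), s ∉ A → ∀ a ∈ A, π s * π a * (π s)⁻¹ = (π a)⁻¹ := by
    intro s hs hsA a ha
    have hsa : s * a ∉ A := fun e => hsA (by simpa using mul_mem e (inv_mem ha))
    have h1 : π s * π a * (π s * π a) = 1 := by
      rw [← map_mul]; exact map_sq.2 (hsq _ (mul_mem hs ha.1) hsa)
    have h2 := inv_eq_of_mul_eq_one_right (map_sq.2 (hsq s hs hsA))
    rw [h2]
    exact eq_inv_of_mul_eq_one_left (by
      calc π s * π a * π s * π a = π s * π a * (π s * π a) := by group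
        _ = 1 := h1)
  have hout : ∃ s ∈ (S : Subgroup G), s ∉ A := by
    by_contra hcon
    push Not at hcon
    exact hab₀ (by rw [← map_mul, ← map_mul, hcomm a₀ (hcon a₀ ha₀) b₀ (hcon b₀ hb₀)])
  have hbig : ∃ r ∈ A, r * r ∉ Z := by
    by_contra hcon
    push Not at hcon
    have hall : ∀ s ∈ (S : Subgroup G), π s * π s = 1 := fun s hs => map_sq.2 (by
      by_cases hsA : s ∈ A
      exacts [hcon s hsA, hsq s hs hsA])
    refine hab₀ ?_
    have h1 := hall _ (mul_mem ha₀ hb₀)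
    rw [map_mul] at h1
    rw [← inv_eq_of_mul_eq_one_right h1, mul_inv_rev, inv_eq_of_mul_eq_one_right (hall _ ha₀),
      inv_eq_of_mul_eq_one_right (hall _ hb₀)]
  refine ⟨z, A, hzS, hz, hcen, rfl, hcomm, hsq, hinv, hout, hbig, fun s hs hsA u hu huA => ?_⟩
  by_contra hsu
  obtain ⟨r, hr, hr2⟩ := hbig
  refine hr2 (map_sq.1 ?_)
  have h3 := hinv _ (mul_mem hs hu) hsu r hr
  rw [map_mul] at h3
  have h4 : π s * π u * π r * (π s * π u)⁻¹ = π r := by
    calc π s * π u * π r * (π s * π u)⁻¹ = π s * (π u * π r * (π u)⁻¹) * (π s)⁻¹ := by group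
      _ = (π s * π r * (π s)⁻¹)⁻¹ := by rw [hinv u hu huA r hr]; group
      _ = π r := by rw [hinv s hs hsA r hr, inv_inv]
  rw [h4] at h3
  nth_rewrite 1 [h3]
  rw [inv_mul_cancel]

variable {S : Sylow 2 G} {z : G} {A : Subgroup G}

theorem frame_centralizer_comm (f : Frame S z A) {b : G} (hb : b ∈ A) (hb2 : b * b ∈ Z)
    (hbZ : b ∉ Z) : ¬ Nonab (CG(b) : Subgroup G) := fun hn => by
  have hl : Lift b := lift_of_mem S (f.le hb) hbZ hb2
  have hle : (S : Subgroup G) ≤ CG(b) := fun s hs => h.modCent_eq hl ⟨hbZ, hn⟩ ▸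
    Subgroup.mem_comap.2 (Subgroup.mem_centralizer_singleton_iff.2 (f.central_of_sq hb hb2 hs))
  obtain ⟨r, hr, hr2⟩ := f.big
  obtain ⟨s, hs, hsA⟩ := f.out
  refine f.not_inverts hr hr2 hs hsA ?_
  rw [← map_mul, ← map_mul, comm_of_not_nonab (h.twoGroup_comm hl S.isPGroup' hle) hs (f.le hr)]

theorem frame_unique (f : Frame S z A) {a : G} (ha : a ∈ A) (ha2 : a * a ∈ Z) :
    π a = 1 ∨ π a = π z := by
  classical
  by_contra hne
  push Not at hne
  haveI : Fact (Nat.Prime 2) := ⟨Nat.prime_two⟩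
  obtain ⟨r, hr, hr2⟩ := f.big
  set P : Sylow 2 (G ⧸ Z) := S.mapSurjective (QuotientGroup.mk'_surjective Z) with hP
  have hPm : ∀ {x}, x ∈ (P : Subgroup (G ⧸ Z)) ↔ ∃ s ∈ (S : Subgroup G), π s = x := Iff.rfl
  set Ab := A.map (π) with hAb
  have hAP : Ab ≤ (P : Subgroup (G ⧸ Z)) := Subgroup.map_mono f.le
  -- outer involutions are not conjugate into the abelian subgroup
  have F2 : ∀ s ∈ (S : Subgroup G), s ∉ A → ∀ b ∈ A, ∀ g : G ⧸ Z, g * π b * g⁻¹ ≠ π s := by
    intro s hs hsA b hb g hg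
    have hb2 : b * b ∈ Z := map_sq.1 (by
      rw [show π b = g⁻¹ * π s * g by rw [← hg]; group,
        show g⁻¹ * π s * g * (g⁻¹ * π s * g) = g⁻¹ * (π s * π s) * g by group,
        map_sq.2 (f.sq s hs hsA)]
      group)
    set C : Subgroup (G ⧸ Z) := CG(π s) with hC
    have hgP : ((MulAut.conj g • P : Sylow 2 (G ⧸ Z)) : Subgroup (G ⧸ Z)) ≤ C := by
      rintro _ ⟨p, hp, rfl⟩
      obtain ⟨s', hs', rfl⟩ := hPm.1 hp
      refine Subgroup.mem_centralizer_singleton_iff.2 ?_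
      show g * π s' * g⁻¹ * π s = π s * (g * π s' * g⁻¹)
      rw [← hg]
      calc g * π s' * g⁻¹ * (g * π b * g⁻¹) = g * (π s' * π b) * g⁻¹ := by group
        _ = g * (π b * π s') * g⁻¹ := by rw [f.central_of_sq hb hb2 hs']
        _ = g * π b * g⁻¹ * (g * π s' * g⁻¹) := by group
    obtain ⟨T, hT⟩ := (P.isPGroup'.to_le
      (inf_le_left : (P : Subgroup (G ⧸ Z)) ⊓ C ≤ _)).comap_subtype (K := C) |>.exists_le_sylow
    obtain ⟨c, hc⟩ := MulAction.exists_smul_eq C ((MulAut.conj g • P).subtype hgP) T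
    have hmove : ∀ x ∈ (P : Subgroup (G ⧸ Z)), x * π s = π s * x →
        ((c : G ⧸ Z) * g)⁻¹ * x * ((c : G ⧸ Z) * g) ∈ (P : Subgroup (G ⧸ Z)) := by
      intro x hx hxc
      have h1 : (⟨x, Subgroup.mem_centralizer_singleton_iff.2 hxc⟩ : C) ∈
          ((c • (MulAut.conj g • P).subtype hgP : Sylow 2 C) : Subgroup C) := by
        rw [hc]; exact hT ⟨hx, Subgroup.mem_centralizer_singleton_iff.2 hxc⟩
      obtain ⟨y, ⟨p, hp, hpy⟩, hyx⟩ := h1
      have e1 : (c : G ⧸ Z) * (y : G ⧸ Z) * (c : G ⧸ Z)⁻¹ = x := congrArg Subtype.val hyx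
      have e2 : g * p * g⁻¹ = (y : G ⧸ Z) := hpy
      rw [← e1, ← e2, show ((c : G ⧸ Z) * g)⁻¹ * ((c : G ⧸ Z) * (g * p * g⁻¹) * (c : G ⧸ Z)⁻¹) *
        ((c : G ⧸ Z) * g) = p by group]
      exact hp
    obtain ⟨h0, hh0⟩ := QuotientGroup.mk'_surjective Z ((c : G ⧸ Z) * g)
    have hcs : π h0 * π b * (π h0)⁻¹ = π s := by
      rw [hh0]
      calc (c : G ⧸ Z) * g * π b * ((c : G ⧸ Z) * g)⁻¹ = c * (g * π b * g⁻¹) * (c : G ⧸ Z)⁻¹ := by group
        _ = π s := by rw [hg, Subgroup.mem_centralizer_singleton_iff.1 c.2, mul_inv_cancel_right]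
    -- one of three involutions is carried into the abelian subgroup
    obtain ⟨a₁, ha₁, ha₁2, ha₁1, b₁, hb₁, hb₁e⟩ : ∃ a₁ ∈ A, a₁ * a₁ ∈ Z ∧ π a₁ ≠ 1 ∧
        ∃ b₁ ∈ A, π h0 * π b₁ * (π h0)⁻¹ = π a₁ := by
      have hmv : ∀ w ∈ A, w * w ∈ Z → ∃ v ∈ (S : Subgroup G), π h0 * π v * (π h0)⁻¹ = π w := by
        intro w hw hw2
        obtain ⟨v, hv, hve⟩ := hPm.1 (hmove _ (hPm.2 ⟨w, f.le hw, rfl⟩)
          (f.central_of_sq hw hw2 hs).symm)
        exact ⟨v, hv, by rw [hve, hh0]; group⟩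
      obtain ⟨v₁, hv₁, e₁⟩ := hmv a ha ha2
      obtain ⟨v₂, hv₂, e₂⟩ := hmv z f.z_mem f.lift.sq
      by_cases h1 : v₁ ∈ A
      · exact ⟨a, ha, ha2, hne.1, v₁, h1, e₁⟩
      by_cases h2 : v₂ ∈ A
      · exact ⟨z, f.z_mem, f.lift.sq, fun e => f.lift.ne (map_eq_one.1 e), v₂, h2, e₂⟩
      refine ⟨a * z, mul_mem ha f.z_mem, ?_, fun e => hne.2 ?_, v₁ * v₂, f.two v₁ hv₁ h1 v₂ hv₂ h2, ?_⟩
      · have : a * z * (a * z) = a * a * (z * z) := by
          rw [mul_assoc a z, ← mul_assoc z a z, f.comm z f.z_mem a ha]; group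
        rw [this]; exact mul_mem ha2 f.lift.sq
      · rw [map_mul] at e
        rw [eq_inv_of_mul_eq_one_left e, inv_eq_of_mul_eq_one_right (map_sq.2 f.lift.sq)]
      · rw [map_mul, map_mul, ← e₁, ← e₂]; group
    refine f.not_inverts hr hr2 hs hsA ?_
    have hd : ¬ Nonab (CG(a₁) : Subgroup G) :=
      h.frame_centralizer_comm f ha₁ ha₁2 fun e => ha₁1 (map_eq_one.2 e)
    have hbe : π a₁ = π (h0 * b₁ * h0⁻¹) := by rw [map_mul, map_mul, map_inv]; exact hb₁e.symm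
    have hbc : h0 * b * h0⁻¹ ∈ (CG(a₁) : Subgroup G) :=
      Subgroup.mem_centralizer_singleton_iff.2 (commute_of_map_eq hbe (by
        calc h0 * b₁ * h0⁻¹ * (h0 * b * h0⁻¹) = h0 * (b₁ * b) * h0⁻¹ := by group
          _ = h0 * (b * b₁) * h0⁻¹ := by rw [f.comm b₁ hb₁ b hb]
          _ = h0 * b * h0⁻¹ * (h0 * b₁ * h0⁻¹) := by group)).symm
    have := congrArg (π) (comm_of_not_nonab hd hbc
      (Subgroup.mem_centralizer_singleton_iff.2 (f.comm r hr a₁ ha₁)))
    simp only [map_mul, map_inv] at this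
    rw [hcs] at this
    exact this
  -- transfer
  have hfoc : (P : Subgroup (G ⧸ Z)).focalSubgroup ≤ Ab := by
    rw [Subgroup.focalSubgroup_def, Subgroup.closure_le]
    rintro _ ⟨hgP, x, hx, u, rfl⟩
    have hy : u * x⁻¹ * u⁻¹ ∈ (P : Subgroup (G ⧸ Z)) := by
      have := mul_mem (inv_mem hx) hgP
      rwa [commutatorElement_def, show x⁻¹ * (x * u * x⁻¹ * u⁻¹) = u * x⁻¹ * u⁻¹ by group] at this
    obtain ⟨v, hv, hve⟩ := hPm.1 hy
    obtain ⟨w, hw, hwe⟩ := hPm.1 (inv_mem hx)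
    have hx' : x = (π w)⁻¹ := by rw [hwe, inv_inv]
    have hyv : u * π w * u⁻¹ = π v := by rw [hwe]; exact hve.symm
    show x * u * x⁻¹ * u⁻¹ ∈ Ab
    rw [show x * u * x⁻¹ * u⁻¹ = x * (u * x⁻¹ * u⁻¹) by group, ← hve, hx']
    rw [← map_inv, ← map_mul]
    refine Subgroup.mem_map_of_mem (π) ?_
    by_cases hwA : w ∈ A <;> by_cases hvA : v ∈ A
    · exact mul_mem (inv_mem hwA) hvA
    · exact absurd hyv (F2 v hv hvA w hwA u)
    · refine absurd ?_ (F2 w hw hwA v hvA u⁻¹)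
      rw [← hyv]; group
    · exact f.two _ (inv_mem hw) (fun e => hwA (inv_mem_iff.1 e)) v hv hvA
  set K := Cfsg.pResidual 2 (G ⧸ Z) with hK
  haveI : K.Normal := Transfer.pResidual_normal
  have hKP : (P : Subgroup (G ⧸ Z)) ⊓ K ≤ Ab :=
    (Transfer.inf_pResidual_le_focalSubgroup P).trans hfoc
  have hAn : ∀ p ∈ (P : Subgroup (G ⧸ Z)), ∀ x ∈ Ab, p * x * p⁻¹ ∈ Ab := by
    intro p hp x hx
    obtain ⟨s, hs, rfl⟩ := hPm.1 hp
    obtain ⟨a', ha', rfl⟩ := Subgroup.mem_map.1 hx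
    by_cases hsA : s ∈ A
    · exact mul_mem (mul_mem (Subgroup.mem_map_of_mem _ hsA) (Subgroup.mem_map_of_mem _ ha'))
        (inv_mem (Subgroup.mem_map_of_mem _ hsA))
    · rw [f.inv s hs hsA a' ha']; exact inv_mem hx
  set M : Subgroup (G ⧸ Z) := K ⊔ Ab with hM
  haveI hMn : M.Normal := ⟨fun m hm g => by
    obtain ⟨p, hp, k, hk, rfl⟩ := Transfer.exists_mul_eq P g
    have hkM : k * m * k⁻¹ ∈ M :=
      mul_mem (mul_mem (Subgroup.mem_sup_left hk) hm) (inv_mem (Subgroup.mem_sup_left hk))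
    have hmap : M.map (MulAut.conj p).toMonoidHom ≤ M := by
      rw [hM, Subgroup.map_sup]
      refine sup_le_sup ?_ ?_
      · rintro _ ⟨y, hy, rfl⟩
        exact (inferInstance : K.Normal).conj_mem y hy p
      · rintro _ ⟨y, hy, rfl⟩
        exact hAn p hp y hy
    have := hmap ⟨_, hkM, rfl⟩
    simpa [mul_assoc] using this⟩
  have hMP : (P : Subgroup (G ⧸ Z)) ⊓ M ≤ Ab := by
    rintro m ⟨hmP, hmM⟩
    obtain ⟨k, hk, x, hx, rfl⟩ := Subgroup.mem_sup_of_normal_left.1 hmM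
    refine mul_mem (hKP ⟨?_, hk⟩) hx
    have := (P : Subgroup (G ⧸ Z)).mul_mem hmP ((P : Subgroup (G ⧸ Z)).inv_mem (hAP hx))
    rwa [mul_inv_cancel_right] at this
  have hns : ¬ Group.IsSolvable M := fun hs => h.nonsolvable_quotient (by
    haveI := hs
    haveI := Transfer.isPGroup_quotient_pResidual (G := G ⧸ Z) (p := 2)
    haveI : Group.IsSolvable ((G ⧸ Z) ⧸ M) := by
      haveI : Group.IsNilpotent ((G ⧸ Z) ⧸ M) := by
        refine IsPGroup.isNilpotent (p := 2) fun y => ?_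
        obtain ⟨x, rfl⟩ := QuotientGroup.mk'_surjective M y
        obtain ⟨i, hi⟩ := Transfer.exists_pow_mem_pResidual (p := 2) x
        exact ⟨i, by rw [← map_pow]; exact (QuotientGroup.eq_one_iff _).2 (Subgroup.mem_sup_left hi)⟩
      infer_instance
    exact Group.isSolvable_of_ker_le_range M.subtype (QuotientGroup.mk' M)
      (by rw [QuotientGroup.ker_mk', Subgroup.range_subtype]))
  have hO : oddCore M = ⊥ := by
    haveI : (oddCore M).Characteristic := CfsgLib.Cores.pPrimeCore_characteristic 2 M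
    have h1 := CfsgLib.Cores.oddCore_eq_bot_iff.1 h.oddCore_quotient ((oddCore M).map M.subtype)
      inferInstance (by
        rw [Subgroup.card_map_of_injective M.subtype_injective]
        exact CfsgLib.Cores.odd_card_oddCore)
    rwa [Subgroup.map_eq_bot_iff_of_injective _ M.subtype_injective] at h1
  obtain ⟨T, hT⟩ := ((P.isPGroup'.to_le hAP).comap_subtype (K := M)).exists_le_sylow
  have hTA : ∀ x : M, x ∈ (T : Subgroup M) → (x : G ⧸ Z) ∈ Ab := by
    obtain ⟨P', hP'⟩ := (T.isPGroup'.map M.subtype).exists_le_sylow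
    obtain ⟨g, hg⟩ := MulAction.exists_smul_eq (G ⧸ Z) P' P
    have hle : ((T : Subgroup M).map M.subtype).map (MulAut.conj g).toMonoidHom ≤ Ab := by
      rintro _ ⟨_, ⟨x, hx, rfl⟩, rfl⟩
      refine hMP ⟨?_, hMn.conj_mem _ x.2 g⟩
      rw [← hg]
      exact ⟨_, hP' ⟨x, hx, rfl⟩, rfl⟩
    have hle2 : Ab ≤ (T : Subgroup M).map M.subtype := fun y hy =>
      ⟨⟨y, Subgroup.mem_sup_right hy⟩, hT hy, rfl⟩
    have heq := Subgroup.eq_of_le_of_card_ge hle2 (by
      refine le_trans (le_of_eq ?_) (Subgroup.card_le_of_le hle)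
      exact (Subgroup.card_map_of_injective (MulAut.conj g).injective).symm)
    exact fun x hx => heq.ge ⟨x, hx, rfl⟩
  have hTc : ∀ x ∈ (T : Subgroup M), ∀ y ∈ (T : Subgroup M), x * y = y * x := by
    intro x hx y hy
    obtain ⟨x', hx', hxe⟩ := hTA x hx
    obtain ⟨y', hy', hye⟩ := hTA y hy
    refine Subtype.ext ?_
    show (x : G ⧸ Z) * y = y * x
    rw [← hxe, ← hye, ← map_mul, ← map_mul, f.comm x' hx' y' hy']
  have hel := (abelian_sylow_cases hns hO T hTc (fun x hx y hy ho => by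
    have h1 := h.nilp (ρ := (x : G ⧸ Z)) (by rw [Subgroup.orderOf_coe, hx]) (y := (y : G ⧸ Z))
      (Subgroup.mem_centralizer_singleton_iff.2
        (congrArg Subtype.val (Subgroup.mem_centralizer_singleton_iff.1 hy)))
      (by rw [Subgroup.orderOf_coe]; exact ho)
    refine Balance.le_centralizerPPrimeCore (K := (Cfsg.centralizerPPrimeCore 2 (x : G ⧸ Z)).subgroupOf M)
      ?_ ?_ ?_ h1
    · intro w hw
      exact Subgroup.mem_centralizer_singleton_iff.2 (Subtype.ext (Subgroup.mem_centralizer_singleton_iff.1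
        (Balance.centralizerPPrimeCore_le_centralizer 2 _ hw)))
    · intro w hw
      have h2 := Balance.centralizer_le_normalizer_centralizerPPrimeCore 2 (x : G ⧸ Z)
        (Subgroup.mem_centralizer_singleton_iff.2
          (congrArg Subtype.val (Subgroup.mem_centralizer_singleton_iff.1 hw)))
      exact Subgroup.mem_normalizer_iff.2 fun v => Subgroup.mem_normalizer_iff.1 h2 (v : G ⧸ Z)
    · exact Nat.Coprime.coprime_dvd_left (Subgroup.card_comap_dvd_of_injective _ M.subtype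
        M.subtype_injective) (Balance.coprime_card_centralizerPPrimeCore 2 _))).1
  have hrM : π r ∈ M := Subgroup.mem_sup_right (Subgroup.mem_map_of_mem _ hr)
  exact hr2 (map_sq.1 (congrArg Subtype.val
    (hel ⟨π r, hrM⟩ (hT (Subgroup.mem_map_of_mem (π) hr)))))

theorem frame_dihedral (f : Frame S z A) : GW.HasDihedralSylow (G ⧸ Z) := by
  classical
  haveI : Fact (Nat.Prime 2) := ⟨Nat.prime_two⟩
  set P : Sylow 2 (G ⧸ Z) := S.mapSurjective (QuotientGroup.mk'_surjective Z) with hP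
  set B : Subgroup (P : Subgroup (G ⧸ Z)) := (A.map (π)).subgroupOf P with hB
  letI : CommGroup B := { (inferInstance : Group B) with
    mul_comm := fun a b => Subtype.ext (Subtype.ext (by
      obtain ⟨a', ha', hae⟩ := Subgroup.mem_subgroupOf.1 a.2
      obtain ⟨b', hb', hbe⟩ := Subgroup.mem_subgroupOf.1 b.2
      show ((a : (P : Subgroup (G ⧸ Z))) : G ⧸ Z) * _ = _ * _
      rw [← hae, ← hbe, ← map_mul, ← map_mul, f.comm a' ha' b' hb'])) }
  haveI : IsCyclic B := by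
    refine OutAut.isCyclic_of_one_involution (P.isPGroup'.to_subgroup _) fun s t hs ht hs1 ht1 => ?_
    have key : ∀ w : B, w * w = 1 → w ≠ 1 → ((w : (P : Subgroup (G ⧸ Z))) : G ⧸ Z) = π z := by
      intro w hw hw1
      obtain ⟨w', hw', hwe⟩ := Subgroup.mem_subgroupOf.1 w.2
      rcases h.frame_unique f hw' (map_sq.1 (by
        rw [hwe]; exact congrArg Subtype.val (congrArg Subtype.val hw))) with e | e
      · exact absurd (Subtype.ext (Subtype.ext (hwe.symm.trans e))) hw1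
      · exact hwe.symm.trans e
    exact Subtype.ext (Subtype.ext ((key s hs hs1).trans (key t ht ht1).symm))
  obtain ⟨g, hg⟩ := IsCyclic.exists_generator (α := B)
  obtain ⟨s, hs, hsA⟩ := f.out
  have hmemA : ∀ {x : G}, x ∈ (S : Subgroup G) → π x ∈ A.map (π) → x ∈ A := by
    rintro x hx ⟨a, ha, hae⟩
    have hc : a⁻¹ * x ∈ Z := map_eq_one.1 (by rw [map_mul, map_inv, hae, inv_mul_cancel])
    have : a⁻¹ * x ∈ A := f.A_eq ▸ ⟨(S : Subgroup G).mul_mem ((S : Subgroup G).inv_mem (f.le ha)) hx,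
      Subgroup.mem_centralizer_singleton_iff.2 (Subgroup.mem_center_iff.1 hc z).symm⟩
    simpa using mul_mem ha this
  set w : (P : Subgroup (G ⧸ Z)) := ⟨π s, s, hs, rfl⟩ with hw
  have hwB : w ∉ B := fun e => hsA (hmemA hs e)
  have hidx : B.index = 2 := Subgroup.index_eq_two_iff.2 ⟨w, fun b => by
    obtain ⟨v, hv, hve⟩ := b.2
    by_cases hvA : v ∈ A
    · refine Or.inr ⟨⟨v, hvA, hve⟩, fun e => hwB ?_⟩
      have h2 : b ∈ B := ⟨v, hvA, hve⟩
      simpa using mul_mem (inv_mem h2) e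
    · refine Or.inl ⟨⟨v * s, f.two v hv hvA s hs hsA, ?_⟩, fun e => hvA (hmemA hv ?_)⟩
      · show π (v * s) = (b : G ⧸ Z) * π s
        rw [map_mul, hve]
      · rw [hve]; exact e⟩
  have hzB : (⟨π z, z, f.mem, rfl⟩ : (P : Subgroup (G ⧸ Z))) ∈ B := ⟨z, f.z_mem, rfl⟩
  have h2B : 2 ∣ Nat.card B := by
    have h1 := Subgroup.orderOf_dvd_natCard B hzB
    rw [← Subgroup.orderOf_coe] at h1
    rwa [orderOf_eq_prime (by rw [pow_two]; exact map_sq.2 f.lift.sq)
      (fun e => f.lift.ne (map_eq_one.1 e))] at h1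
  refine ⟨P, Nat.card B, Nat.le_of_dvd Nat.card_pos h2B,
    TwoGroups.nonempty_mulEquiv_dihedral (x := (g : (P : Subgroup (G ⧸ Z)))) (y := w)
      (by rw [Subgroup.orderOf_coe]; exact orderOf_eq_card_of_forall_mem_zpowers hg) ?_ ?_ ?_ ?_⟩
  · rw [← B.card_mul_index, hidx, mul_comm]
  · exact fun e => hwB ((Subgroup.zpowers_le.2 g.2) e)
  · exact Subtype.ext (by rw [Subgroup.coe_pow, pow_two]; exact map_sq.2 (f.sq s hs hsA))
  · obtain ⟨g', hg', hge⟩ := Subgroup.mem_subgroupOf.1 g.2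
    refine Subtype.ext ?_
    show π s * ((g : (P : Subgroup (G ⧸ Z))) : G ⧸ Z) * (π s)⁻¹ = ((g : (P : Subgroup (G ⧸ Z))) : G ⧸ Z)⁻¹
    rw [← hge]
    exact f.inv s hs hsA g' hg'

/-- The central quotient is `PSL(2, 2^n)` or has dihedral Sylow 2-subgroups. -/
theorem quotient_cases :
    (∃ (K : Type) (_ : Field K) (_ : Fintype K), Even (Fintype.card K) ∧
      Nonempty ((G ⧸ Z) ≃* Matrix.ProjectiveSpecialLinearGroup (Fin 2) K)) ∨
    GW.HasDihedralSylow (G ⧸ Z) := by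
  haveI : Fact (Nat.Prime 2) := ⟨Nat.prime_two⟩
  obtain ⟨S⟩ : Nonempty (Sylow 2 G) := inferInstance
  by_cases hna : ∃ a ∈ (S : Subgroup G), ∃ b ∈ (S : Subgroup G), π a * π b ≠ π b * π a
  · obtain ⟨z, A, f⟩ := h.exists_frame S hna
    exact Or.inr (h.frame_dihedral f)
  push Not at hna
  set P := S.mapSurjective (QuotientGroup.mk'_surjective Z) with hP
  obtain ⟨-, hy | hd⟩ := abelian_sylow_cases h.nonsolvable_quotient h.oddCore_quotient P
    (by rintro _ ⟨a, ha, rfl⟩ _ ⟨b, hb, rfl⟩; exact hna a ha b hb)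
    (fun x hx y hy ho => h.nilp hx hy ho)
  · letI := Fintype.ofFinite (G ⧸ Z)
    obtain ⟨K, iK, iF, hcard, he⟩ := AbelianTwo.Hyp.exists_psl_two hy
      (not_normal_sylow_two h.nonsolvable_quotient P) (h.outerComm hy)
    refine Or.inl ⟨K, iK, iF, ?_, he⟩
    obtain ⟨E, hE, -, h8⟩ := hy.rank
    obtain ⟨n, hn⟩ := P.isPGroup'.exists_card_eq
    rw [hcard, hn]
    refine Nat.even_pow.2 ⟨even_two, fun e => ?_⟩
    have := Subgroup.card_le_of_le hE
    rw [hn, e] at this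
    omega
  · exact Or.inr hd

theorem frame_special_central (f : Frame S z A) {t : G} (htS : t ∈ (S : Subgroup G)) (ht : Lift t)
    (hs : Special t) : False := by
  have htA : t ∈ A := by
    rw [f.A_eq]
    refine ⟨htS, Subgroup.mem_centralizer_singleton_iff.2 ?_⟩
    have hz : z ∈ modCent t := Subgroup.mem_comap.2
      (Subgroup.mem_centralizer_singleton_iff.2 (f.central t htS))
    rw [h.modCent_eq ht hs] at hz
    exact (Subgroup.mem_centralizer_singleton_iff.1 hz).symm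
  exact h.frame_centralizer_comm f htA ht.sq ht.ne hs.2

theorem frame_four (f : Frame S z A) {v₁ v₂ : G} (h₁ : v₁ ∈ (S : Subgroup G)) (h₂ : v₂ ∈ (S : Subgroup G))
    (h12 : v₁ * v₁ ∈ Z) (h22 : v₂ * v₂ ∈ Z) (h1 : π v₁ ≠ 1) (h2 : π v₂ ≠ 1) (hne : π v₁ ≠ π v₂) :
    v₁ * v₂ ≠ v₂ * v₁ := by
  intro hc
  have key : ∀ s u : G, s ∈ (S : Subgroup G) → u ∈ A → u * u ∈ Z → π u ≠ 1 → s * u = u * s → s ∈ A := by
    intro s u hs hu hu2 hu1 hsu
    rw [f.A_eq]
    refine ⟨hs, Subgroup.mem_centralizer_singleton_iff.2 ?_⟩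
    exact (commute_of_map_eq ((h.frame_unique f hu hu2).resolve_left hu1).symm hsu.symm).symm
  have hv : v₁ ∉ A ∧ v₂ ∉ A := by
    constructor <;> intro e
    · exact hne (((h.frame_unique f e h12).resolve_left h1).trans ((h.frame_unique f
        (key v₂ v₁ h₂ e h12 h1 hc.symm) h22).resolve_left h2).symm)
    · exact hne (((h.frame_unique f (key v₁ v₂ h₁ e h22 h2 hc) h12).resolve_left h1).trans
        ((h.frame_unique f e h22).resolve_left h2).symm)
  refine hv.1 (key v₁ (v₁ * v₂) h₁ (f.two v₁ h₁ hv.1 v₂ h₂ hv.2) ?_ ?_ ?_)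
  · rw [show v₁ * v₂ * (v₁ * v₂) = v₁ * v₁ * (v₂ * v₂) by
      rw [mul_assoc v₁ v₂, ← mul_assoc v₂ v₁ v₂, ← hc]; group]
    exact mul_mem h12 h22
  · rw [map_mul]
    intro e
    exact hne ((eq_inv_of_mul_eq_one_left e).trans (inv_eq_of_mul_eq_one_right (map_sq.2 h22)))
  · calc v₁ * (v₁ * v₂) = v₁ * (v₂ * v₁) := by rw [hc]
      _ = v₁ * v₂ * v₁ := by group

end MNC

end CfsgLib.MinNonCA
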